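import Groth.Agent.H64.Quot.RepQuotMap
import Groth.Agent.H64.Psh.QCompact
import Groth.Agent.H50.LocPClass

set_option autoImplicit false
universe u
open CategoryTheory CategoryTheory.Limits MonoidalCategory CartesianMonoidalCategory MonObj GrpObj
  AlgebraicGeometry

/-! `X ⟶ [X/G]` is flat, locally of finite presentation, smooth, surjective when `G` is. -/

namespace Groth.Agent.H64.Quot

open AlgSt

variable {S : Scheme.{u}} (G : Over S) [GrpObj G] (X : Over S) (aX : AlgGrp.Action G X)

/-- a group scheme is surjective over its base -/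
theorem surjective_hom_of_grpObj : Surjective G.hom := by
  have h : η[G].left ≫ G.hom = 𝟙 S := Over.w η[G]
  refine ⟨fun x => ⟨η[G].left x, ?_⟩⟩
  rw [← Scheme.Hom.comp_apply, h]
  rfl

theorem quotMap_flat [Flat G.hom] :
    RepByAlgSpWith (AlgSp.LocP @Flat)
      (BasedFunctor.comp (ofOverCat X) (quotMap Scheme.fppfPrecoverage G aX)) :=
  haveI : IsZariskiLocalAtTarget @Flat.{u} :=
    HasRingHomProperty.instIsZariskiLocalAtTarget (P := @Flat) (Q := RingHom.Flat)
  repByAlgSpWith_ofOverCat_quotMap @Flat Groth.Agent.H40.flat_descendsAlong inferInstance _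
    (fun f hf => Groth.Agent.H50.goodClass_flat.locP_yon_map f hf)

theorem quotMap_lfp [LocallyOfFinitePresentation G.hom] :
    RepByAlgSpWith (AlgSp.LocP @LocallyOfFinitePresentation)
      (BasedFunctor.comp (ofOverCat X) (quotMap Scheme.fppfPrecoverage G aX)) :=
  haveI : IsZariskiLocalAtTarget @LocallyOfFinitePresentation.{u} :=
    HasRingHomProperty.instIsZariskiLocalAtTarget (P := @LocallyOfFinitePresentation)
      (Q := RingHom.FinitePresentation)
  repByAlgSpWith_ofOverCat_quotMap @LocallyOfFinitePresentation inferInstance inferInstance _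
    (fun f hf => Groth.Agent.H50.goodClass_lfp.locP_yon_map f hf)

theorem quotMap_smooth [Smooth G.hom] :
    RepByAlgSpWith (AlgSp.LocP @Smooth)
      (BasedFunctor.comp (ofOverCat X) (quotMap Scheme.fppfPrecoverage G aX)) :=
  haveI : IsZariskiLocalAtTarget @Smooth.{u} :=
    HasRingHomProperty.instIsZariskiLocalAtTarget (P := @Smooth) (Q := RingHom.Smooth)
  repByAlgSpWith_ofOverCat_quotMap @Smooth inferInstance inferInstance _
    (fun f hf => Groth.Agent.H50.goodClass_smooth.locP_yon_map f hf)

theorem quotMap_surjective :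
    RepByAlgSpWith AlgSp.IsSurjectiveMor
      (BasedFunctor.comp (ofOverCat X) (quotMap Scheme.fppfPrecoverage G aX)) :=
  repByAlgSpWith_ofOverCat_quotMap @Surjective inferInstance (surjective_hom_of_grpObj G) _
    (fun f hf => by
      have : Surjective f.left := hf
      exact Groth.Agent.H64.PTh.isSurjectiveMor_yon_map f)

end Groth.Agent.H64.Quot
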