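import Groth.Agent.H64.Quot.GlueObj

set_option autoImplicit false
universe u
open CategoryTheory CategoryTheory.Limits MonoidalCategory CartesianMonoidalCategory MonObj GrpObj
  AlgebraicGeometry Opposite

/-! The object of `[X/G]` glued from a descent datum, and its cone. -/

namespace Groth.Agent.H64.Quot

open AlgSt AlgSp Groth.Agent.H84.StkConcrete Groth.Agent.H84.StkRefine

variable {S : Scheme.{u}} {G : Over S} [GrpObj G] {X : Over S}
  {aX : AlgGrp.Action G X} {U : Over S} {R : Sieve U}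
  {D : Stk.sieveCat R ⥤ᵇ QuotSt Scheme.fppfPrecoverage G aX}

/-- the sieve of arrows along which a member of the descent datum has a section -/
def dsecSieve {V : Over S} (f : V ⟶ U) (hf : R f) : Sieve V where
  arrows T t := ∃ s : T ⟶ (dObj R D f hf).P, s ≫ dρ R D f hf = t
  downward_closed := by
    rintro T T' t ⟨s, rfl⟩ g
    exact ⟨g ≫ s, Category.assoc _ _ _⟩

theorem dsecSieve_mem {V : Over S} (f : V ⟶ U) (hf : R f) :
    dsecSieve (D := D) f hf ∈ J S V := by
  refine (J S).superset_covering ?_ ((J S).pullback_stable (eqToHom (dbase R D f hf).symm)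
    (secSieve_mem (dObj R D f hf)))
  rintro T t ⟨s, hs⟩
  refine ⟨s, ?_⟩
  rw [dρ, ← Category.assoc, hs, Category.assoc, eqToHom_trans, eqToHom_refl, Category.comp_id]

section glued

variable {P : Over S} (e : (yon S).obj P ≅ gSh R D)

/-- the sieve of arrows along which the glued torsor has a section -/
def gsecSieve : Sieve U where
  arrows T w := ∃ q : T ⟶ P, q ≫ gπ e = w
  downward_closed := by
    rintro T T' t ⟨s, rfl⟩ g
    exact ⟨g ≫ s, Category.assoc _ _ _⟩

theorem gsecSieve_mem (hR : R ∈ J S U) : gsecSieve e ∈ J S U := by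
  refine (J S).transitive hR _ (fun V f hf => ?_)
  refine (J S).superset_covering ?_ (dsecSieve_mem (D := D) f hf)
  rintro T t ⟨s, hs⟩
  refine ⟨ptInv e (GPt.ofPt f hf s), ?_⟩
  rw [comp_gπ, pt_ptInv, GPt.ofPt_c, ← Category.assoc, hs]

theorem gloc (hR : R ∈ J S U) :
    NonAbH1.IsLocallyTrivialFor Scheme.fppfPrecoverage (Over.mk (gπ e).left : Over U.left) :=
  loc_of_sieve_mem (gπ e) (gsecSieve e) (gsecSieve_mem e hR) (fun _ _ ht => ht)

variable (hR : R ∈ J S U)

/-- the glued object -/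
noncomputable def gObj : QuotObj Scheme.fppfPrecoverage G aX where
  base := U
  P := P
  act := gAction e
  π := gπ e
  cart := gcart e hR
  loc := gloc e hR
  φ := gΦ e hR
  eqv := gact_gΦ e hR

/-- the chart of the glued torsor -/
noncomputable def gκ {V : Over S} (f : V ⟶ U) (hf : R f) : (dObj R D f hf).P ⟶ P :=
  ptInv e (GPt.ofPt f hf (𝟙 _))

theorem pt_comp_gκ {V : Over S} (f : V ⟶ U) (hf : R f) {T : Over S}
    (q : T ⟶ (dObj R D f hf).P) : pt e (q ≫ gκ e f hf) = GPt.ofPt f hf q := by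
  rw [pt_comp, gκ, pt_ptInv, GPt.ofPt_pull, Category.comp_id]

theorem gκ_gπ {V : Over S} (f : V ⟶ U) (hf : R f) :
    gκ e f hf ≫ gπ e = dρ R D f hf ≫ f := by
  rw [comp_gπ, gκ, pt_ptInv, GPt.ofPt_c, Category.id_comp]

theorem gκ_gΦ {V : Over S} (f : V ⟶ U) (hf : R f) :
    gκ e f hf ≫ gΦ e hR = (dObj R D f hf).φ := by
  rw [comp_gΦ, gκ, pt_ptInv, GPt.gφ_ofPt, Category.id_comp]

include hR in
theorem gκ_eqv {V : Over S} (f : V ⟶ U) (hf : R f) :
    (dObj R D f hf).act.act ≫ gκ e f hf = (G ◁ gκ e f hf) ≫ gact e := by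
  apply eqv_of_pt (A := dObj R D f hf) (B := gObj e hR)
  apply pt_injective e
  change pt e (actPt (dObj R D f hf) (fst G _) (snd G _) ≫ gκ e f hf) =
    pt e (lift (fst G _) (snd G _ ≫ gκ e f hf) ≫ gact e)
  rw [pt_comp_gκ, GPt.ofPt_act, pt_gact, pt_comp_gκ]

/-- the cone maps -/
noncomputable def gCone {V : Over S} (f : V ⟶ U) (hf : R f) : dObj R D f hf ⟶ gObj e hR where
  base := eqToHom (dbase R D f hf) ≫ f
  top := gκ e f hf
  eqv := gκ_eqv e hR f hf
  cart := cart_of_eqv (A := dObj R D f hf) (B := gObj e hR) _ _ (by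
    change gκ e f hf ≫ gπ e = _
    rw [gκ_gπ, dρ, Category.assoc]
    rfl) (gκ_eqv e hR f hf)
  wφ := gκ_gΦ e hR f hf

theorem gCone_isHomLift {V : Over S} (f : V ⟶ U) (hf : R f) :
    (QuotSt Scheme.fppfPrecoverage G aX).p.IsHomLift f (gCone e hR f hf) := by
  have hb : (QuotSt Scheme.fppfPrecoverage G aX).p.obj (gObj e hR) = U := rfl
  have hfac : f = eqToHom (dbase R D f hf).symm ≫
      (QuotSt Scheme.fppfPrecoverage G aX).p.map (gCone e hR f hf) ≫ eqToHom hb := by
    have h2 : (QuotSt Scheme.fppfPrecoverage G aX).p.map (gCone e hR f hf) ≫ eqToHom hb =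
        eqToHom (dbase R D f hf) ≫ f := Category.comp_id _
    have h3 : eqToHom (dbase R D f hf).symm ≫ (eqToHom (dbase R D f hf) ≫ f) = f := by
      rw [← Category.assoc, eqToHom_trans, eqToHom_refl, Category.id_comp]
    exact h3.symm.trans (congrArg (fun k => eqToHom (dbase R D f hf).symm ≫ k) h2.symm)
  exact IsHomLift.of_fac (QuotSt Scheme.fppfPrecoverage G aX).p f (gCone e hR f hf)
    (dbase R D f hf) hb hfac

theorem gCone_nat {V V' : Over S} {f : V ⟶ U} {hf : R f} {f' : V' ⟶ U} {hf' : R f'}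
    (u : V' ⟶ V) (hu : u ≫ f = f') :
    dMap R D (hf := hf) (hf' := hf') u hu ≫ gCone e hR f hf = gCone e hR f' hf' := by
  apply QuotObj.hom_ext
  · change (dMap R D (hf := hf) (hf' := hf') u hu).base ≫ eqToHom (dbase R D f hf) ≫ f =
      eqToHom (dbase R D f' hf') ≫ f'
    rw [dMap_base]
    simp only [Category.assoc, eqToHom_trans_assoc, eqToHom_refl, Category.id_comp]
    rw [hu]
  · change dτ R D (hf := hf) (hf' := hf') u hu ≫ gκ e f hf = gκ e f' hf'
    apply pt_injective e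
    rw [pt_comp_gκ]
    have h := GPt.ofPt_τ (D := D) (hf := hf) (hf' := hf') u hu (𝟙 _)
    rw [Category.id_comp] at h
    rw [h, ← pt_comp_gκ, Category.id_comp]

end glued

/-- descent data for `[X/G]` along covering sieves are effective -/
theorem exists_glue_obj [IsAffineHom G.hom] (hR : R ∈ J S U)
    (D : Stk.sieveCat R ⥤ᵇ QuotSt Scheme.fppfPrecoverage G aX) :
    ∃ (t : (QuotSt Scheme.fppfPrecoverage G aX).obj)
      (_ : (QuotSt Scheme.fppfPrecoverage G aX).p.obj t = U)
      (π : ∀ r : (Stk.sieveCat R).obj, D.obj r ⟶ t),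
      (∀ r, (QuotSt Scheme.fppfPrecoverage G aX).p.IsHomLift r.obj.hom (π r)) ∧
      ∀ {r' r : (Stk.sieveCat R).obj} (m : r' ⟶ r), D.map m ≫ π r = π r' := by
  obtain ⟨P, ⟨e⟩⟩ := exists_rep_gSh R D hR
  refine ⟨gObj e hR, rfl, fun r => gCone e hR r.obj.hom r.property,
    fun r => gCone_isHomLift e hR r.obj.hom r.property, ?_⟩
  intro r' r m
  have hm : m = mkHom R (r' := mkObj R r'.obj.hom r'.property)
      (r := mkObj R r.obj.hom r.property) m.hom.left (Over.w m.hom) := mkHom_ext R _ _ rfl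
  rw [hm]
  exact gCone_nat e hR m.hom.left (Over.w m.hom)

end Groth.Agent.H64.Quot
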