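import Groth.Agent.H64.Quot.ActSq

set_option autoImplicit false
universe u
open CategoryTheory CategoryTheory.Limits MonoidalCategory CartesianMonoidalCategory MonObj GrpObj
  AlgebraicGeometry

/-! The square `G × X ⇉ X ⟶ [X/G]` is 2-cartesian: the comparison functor is an equivalence. -/

namespace Groth.Agent.H64.Quot

open AlgSt

variable {S : Scheme.{u}} {K : Precoverage Scheme.{u}} [K.HasIsos] {G : Over S} [GrpObj G]
  {X : Over S} (aX : AlgGrp.Action G X)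

variable (K) in
/-- the comparison functor `G × X ⟶ X ×_{[X/G]} X` -/
noncomputable abbrev actLift :
    ofSch (G ⊗ X) ⥤ᵇ FibCat.fp (quotMap K G aX) (quotMap K G aX) :=
  FibCat.fpLift (ofSpMap ((AlgSp.yon S).map aX.act)) (ofSpMap ((AlgSp.yon S).map (snd G X)))
    (actSndIso K aX)

theorem actLift_faithful : (actLift K aX).toFunctor.Faithful := by
  refine ⟨fun {w w'} m m' h => ?_⟩
  apply Stk.EltObj.hom_ext
  exact congrArg (fun t => t.hom.fst.hom) h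

theorem full_aux {T T' : Over S} (p : T ⟶ G ⊗ X) (p' : T' ⟶ G ⊗ X) (f₁ f₂ : T ⟶ T')
    (h₂ : f₂ ≫ p' ≫ snd G X = p ≫ snd G X) (hb : f₁ ≫ 𝟙 T' = 𝟙 T ≫ f₂)
    (ht : (G ◁ f₁) ≫ rmul (𝟙 T') (p' ≫ fst G X) = rmul (𝟙 T) (p ≫ fst G X) ≫ (G ◁ f₂)) :
    f₁ = f₂ ∧ f₁ ≫ p' = p := by
  rw [Category.comp_id, Category.id_comp] at hb
  subst hb
  refine ⟨rfl, ?_⟩
  rw [whiskerLeft_eq_rmul, rmul_comp, rmul_comp, Category.comp_id, Category.id_comp,
    _root_.one_mul, MonObj.comp_one, _root_.mul_one] at ht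
  have hg := (rmul_inj ht).2
  apply CartesianMonoidalCategory.hom_ext
  · rw [Category.assoc, hg]
  · rw [Category.assoc, h₂]

theorem actLift_full : (actLift K aX).toFunctor.Full := by
  refine ⟨fun {w w'} n => ?_⟩
  obtain ⟨T, ⟨p⟩⟩ := w
  obtain ⟨T', ⟨p'⟩⟩ := w'
  have hw : (quotMap K G aX).map n.hom.fst ≫
      (trivIso (K := K) aX (p' ≫ aX.act) (p' ≫ snd G X) (p' ≫ fst G X)
        (lift_fst_snd_act aX p')).hom =
      (trivIso (K := K) aX (p ≫ aX.act) (p ≫ snd G X) (p ≫ fst G X)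
        (lift_fst_snd_act aX p)).hom ≫ (quotMap K G aX).map n.hom.snd := n.hom.w
  have hb : n.hom.fst.hom ≫ 𝟙 T' = 𝟙 T ≫ n.hom.snd.hom := congrArg QuotObj.Hom.base hw
  have ht : (G ◁ n.hom.fst.hom) ≫ rmul (𝟙 T') (p' ≫ fst G X) =
      rmul (𝟙 T) (p ≫ fst G X) ≫ (G ◁ n.hom.snd.hom) := congrArg QuotObj.Hom.top hw
  have h₂ : n.hom.snd.hom ≫ p' ≫ snd G X = p ≫ snd G X := congrArg ULift.down n.hom.snd.map_sec
  obtain ⟨h12, hp⟩ := full_aux p p' n.hom.fst.hom n.hom.snd.hom h₂ hb ht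
  refine ⟨⟨n.hom.fst.hom, congrArg ULift.up hp⟩, ?_⟩
  apply fp_hom_ext
  · apply Stk.EltObj.hom_ext
    rfl
  · apply Stk.EltObj.hom_ext
    exact h12

/-- the identity of the base as an isomorphism between objects with equal sections -/
def eltIso {C : Type*} [Category C] {P : Cᵒᵖ ⥤ Type*} (T : C) (x x' : P.obj (Opposite.op T))
    (h : x = x') : (⟨T, x⟩ : Stk.EltObj P) ≅ ⟨T, x'⟩ where
  hom := ⟨𝟙 T, by simp [h]⟩
  inv := ⟨𝟙 T, by simp [h]⟩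
  hom_inv_id := by apply Stk.EltObj.hom_ext; exact Category.id_comp _
  inv_hom_id := by apply Stk.EltObj.hom_ext; exact Category.id_comp _

theorem ess_aux {T : Over S} (x x' : T ⟶ X) (h : triv K aX T x ⟶ triv K aX T x')
    (hb : h.base = 𝟙 T) :
    ∃ g : T ⟶ G, lift g x' ≫ aX.act = x ∧ h.top = rmul (𝟙 T) g := by
  have h1 := act_of_hom (K := K) h
  have h2 := top_eq_rmul (K := K) h
  refine ⟨unitSec G T ≫ (show G ⊗ T ⟶ G ⊗ T from h.top) ≫ fst G T, ?_, ?_⟩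
  · have h3 : (show T ⟶ T from h.base) ≫ x' = x' := by
      change h.base ≫ x' = x'
      rw [hb]; exact Category.id_comp _
    rw [h3] at h1
    exact h1
  · rw [hb] at h2
    exact h2

theorem actLift_essSurj (z : (FibCat.fp (quotMap K G aX) (quotMap K G aX)).obj) :
    ∃ (ξ : (ofSch (G ⊗ X)).obj) (e : (actLift K aX).obj ξ ≅ z),
      (FibCat.fp (quotMap K G aX) (quotMap K G aX)).p.IsHomLift
        (𝟙 ((FibCat.fp (quotMap K G aX) (quotMap K G aX)).p.obj z)) e.hom := by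
  obtain ⟨⟨⟨T, ⟨x⟩⟩, ⟨T', ⟨x'⟩⟩, i⟩, hz⟩ := z
  change T ⟶ X at x
  change T' ⟶ X at x'
  have hz' : (QuotObj.forget K G aX).IsHomLift (𝟙 T) i.hom := hz
  have hT : T' = T := IsHomLift.codomain_eq (QuotObj.forget K G aX) (𝟙 T) i.hom
  subst hT
  have hb : i.hom.base = 𝟙 T' :=
    (@IsHomLift.eq_of_isHomLift _ _ _ _ (QuotObj.forget K G aX)
      ((quotMap K G aX).obj ⟨T', ⟨x⟩⟩) ((quotMap K G aX).obj ⟨T', ⟨x'⟩⟩)
      (𝟙 T') i.hom hz').symm
  obtain ⟨g, hg, htop⟩ := ess_aux aX x x' i.hom hb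
  refine ⟨⟨T', ⟨lift g x'⟩⟩, ?_⟩
  have hfst : lift g x' ≫ fst G X = g := lift_fst _ _
  let t : G ⊗ T' ⟶ G ⊗ T' := i.hom.top
  have ht : t = rmul (𝟙 T') g := htop
  have hsnd : lift g x' ≫ snd G X = x' := lift_snd _ _
  let e := fpIsoMk (quotMap K G aX) (quotMap K G aX)
    (z := (actLift K aX).obj ⟨T', ⟨lift g x'⟩⟩) (z' := ⟨⟨⟨T', ⟨x⟩⟩, ⟨T', ⟨x'⟩⟩, i⟩, hz⟩)
    (eltIso (P := ((AlgSp.yon S).obj X).obj) T' ⟨lift g x' ≫ aX.act⟩ ⟨x⟩ (congrArg ULift.up hg))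
    (eltIso (P := ((AlgSp.yon S).obj X).obj) T' ⟨lift g x' ≫ snd G X⟩ ⟨x'⟩
      (congrArg ULift.up hsnd))
    (by
      apply QuotObj.hom_ext
      · refine (rfl : _ = 𝟙 T' ≫ i.hom.base).trans (Eq.trans ?_ (rfl : 𝟙 T' ≫ 𝟙 T' = _))
        exact congrArg (𝟙 T' ≫ ·) hb
      · refine (rfl : _ = (G ◁ 𝟙 T') ≫ t).trans
          (Eq.trans ?_ (rfl : rmul (𝟙 T') (lift g x' ≫ fst G X) ≫ (G ◁ 𝟙 T') = _))
        rw [ht, hfst, MonoidalCategory.whiskerLeft_id, Category.id_comp, Category.comp_id])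
  refine ⟨e, ?_⟩
  have : (Stk.EltObj.forget ((AlgSp.yon S).obj X).obj).IsHomLift (𝟙 T') e.hom.hom.fst :=
    IsHomLift.map (Stk.EltObj.forget ((AlgSp.yon S).obj X).obj) e.hom.hom.fst
  exact Groth.Agent.H32.fp_isHomLift_of_fst (quotMap K G aX) (quotMap K G aX) e.hom (𝟙 T')

/-- the square `G × X ⇉ X ⟶ [X/G]` is 2-cartesian -/
theorem isTwoCartOver_act_snd :
    FibCat.IsTwoCartOver (ofSpMap ((AlgSp.yon S).map aX.act))
      (ofSpMap ((AlgSp.yon S).map (snd G X))) (actSndIso K aX) := by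
  have := actLift_full (K := K) aX
  have := actLift_faithful (K := K) aX
  exact isEquivOver_of_fullyFaithful_of_fiberwise_essSurj _ (fun z => actLift_essSurj aX z)

end Groth.Agent.H64.Quot
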