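import Groth.Agent.H64.Quot.TrivHom
import Groth.Agent.H64.Stk.LocEss
import Groth.Agent.H64.Stk.FpStack

set_option autoImplicit false
universe u
open CategoryTheory CategoryTheory.Limits MonoidalCategory CartesianMonoidalCategory MonObj GrpObj
  AlgebraicGeometry

/-! The square `G × X ⇉ X ⟶ [X/G]` is 2-cartesian. -/

namespace Groth.Agent.H64.Quot

open AlgSt

variable {S : Scheme.{u}} {K : Precoverage Scheme.{u}} [K.HasIsos] {G : Over S} [GrpObj G]
  {X : Over S} (aX : AlgGrp.Action G X)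

/-- the unit acts trivially on points -/
theorem act_one_pt {T : Over S} (x : T ⟶ X) : lift (1 : T ⟶ G) x ≫ aX.act = x := by
  have h : lift (1 : T ⟶ G) x = unitSec G T ≫ (G ◁ x) := by
    apply CartesianMonoidalCategory.hom_ext
    · simp only [Category.assoc, lift_fst, whiskerLeft_fst, unitSec_fst_eq_one]
    · simp only [Category.assoc, lift_snd, whiskerLeft_snd, unitSec_snd_assoc]
  rw [h, Category.assoc, unitSec_act]

/-- compatibility of the action with products, on points -/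
theorem act_mul_pt {T : Over S} (g h : T ⟶ G) (x : T ⟶ X) :
    lift (g * h) x ≫ aX.act = lift g (lift h x ≫ aX.act) ≫ aX.act := by
  have hμ : fst (G ⊗ G) X ≫ μ[G] = (fst _ _ ≫ fst G G) * (fst _ _ ≫ snd G G) := by
    rw [Hom.mul_def, ← comp_lift, lift_fst_snd, Category.comp_id]
  have h1 : lift (g * h) x = lift (lift g h) x ≫ (μ[G] ▷ X) := by
    apply CartesianMonoidalCategory.hom_ext
    · simp only [Category.assoc, lift_fst, whiskerRight_fst, hμ, comp_mul, lift_fst_assoc,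
        lift_snd]
    · simp only [Category.assoc, lift_snd, whiskerRight_snd]
  have h2 : lift (lift g h) x ≫ (α_ G G X).hom ≫ (G ◁ aX.act) = lift g (lift h x ≫ aX.act) := by
    rw [lift_lift_associator_hom_assoc]
    apply CartesianMonoidalCategory.hom_ext
    · simp only [Category.assoc, whiskerLeft_fst, lift_fst]
    · simp only [Category.assoc, whiskerLeft_snd, lift_snd, lift_snd_assoc]
  rw [h1, Category.assoc, aX.mul_act, reassoc_of% h2]

theorem homOfAct_comp {T T' T'' : Over S} (f : T ⟶ T') (f' : T' ⟶ T'') (x : T ⟶ X) (x' : T' ⟶ X)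
    (x'' : T'' ⟶ X) (g : T ⟶ G) (g' : T' ⟶ G)
    (hg : lift g (f ≫ x') ≫ aX.act = x) (hg' : lift g' (f' ≫ x'') ≫ aX.act = x')
    (hgg : lift (g * (f ≫ g')) ((f ≫ f') ≫ x'') ≫ aX.act = x) :
    homOfAct (K := K) f x x' g hg ≫ homOfAct f' x' x'' g' hg' =
      homOfAct (f ≫ f') x x'' (g * (f ≫ g')) hgg := by
  apply QuotObj.hom_ext
  · rfl
  · exact rmul_comp f g f' g'

theorem homOfAct_id {T : Over S} (x : T ⟶ X) (h : lift (1 : T ⟶ G) (𝟙 T ≫ x) ≫ aX.act = x) :
    homOfAct (K := K) (𝟙 T) x x 1 h = 𝟙 (triv K aX T x) := by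
  apply QuotObj.hom_ext
  · rfl
  · exact rmul_id_one T

theorem homOfAct_congr {T T' : Over S} {f f' : T ⟶ T'} {x : T ⟶ X} {x' : T' ⟶ X} {g g' : T ⟶ G}
    (hf : f = f') (hgg : g = g')
    (hg : lift g (f ≫ x') ≫ aX.act = x) (hg' : lift g' (f' ≫ x') ≫ aX.act = x) :
    homOfAct (K := K) f x x' g hg = homOfAct f' x x' g' hg' := by
  subst hf; subst hgg; rfl

/-- the isomorphism of trivial torsors given by right multiplication with a point of `G` -/
noncomputable def trivIso {T : Over S} (x x' : T ⟶ X) (g : T ⟶ G)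
    (hg : lift g x' ≫ aX.act = x) : triv K aX T x ≅ triv K aX T x' where
  hom := homOfAct (𝟙 T) x x' g (by rwa [Category.id_comp])
  inv := homOfAct (𝟙 T) x' x g⁻¹ (by
    rw [Category.id_comp, ← hg, ← act_mul_pt, inv_mul_cancel, act_one_pt])
  hom_inv_id := by
    have h1 : lift (1 : T ⟶ G) (𝟙 T ≫ x) ≫ aX.act = x := by rw [Category.id_comp, act_one_pt]
    have h2 : lift (g * (𝟙 T ≫ g⁻¹)) ((𝟙 T ≫ 𝟙 T) ≫ x) ≫ aX.act = x := by
      rw [Category.id_comp, Category.id_comp, Category.id_comp, mul_inv_cancel, act_one_pt]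
    exact (homOfAct_comp aX _ _ _ _ _ _ _ _ _ h2).trans
      ((homOfAct_congr aX (Category.id_comp _) (by rw [Category.id_comp, mul_inv_cancel])
        h2 h1).trans (homOfAct_id aX x h1))
  inv_hom_id := by
    have h1 : lift (1 : T ⟶ G) (𝟙 T ≫ x') ≫ aX.act = x' := by rw [Category.id_comp, act_one_pt]
    have h2 : lift (g⁻¹ * (𝟙 T ≫ g)) ((𝟙 T ≫ 𝟙 T) ≫ x') ≫ aX.act = x' := by
      rw [Category.id_comp, Category.id_comp, Category.id_comp, inv_mul_cancel, act_one_pt]
    exact (homOfAct_comp aX _ _ _ _ _ _ _ _ _ h2).trans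
      ((homOfAct_congr aX (Category.id_comp _) (by rw [Category.id_comp, inv_mul_cancel])
        h2 h1).trans (homOfAct_id aX x' h1))

@[simp] theorem trivIso_hom_base {T : Over S} (x x' : T ⟶ X) (g : T ⟶ G)
    (hg : lift g x' ≫ aX.act = x) : (trivIso (K := K) aX x x' g hg).hom.base = 𝟙 T := rfl

@[simp] theorem trivIso_hom_top {T : Over S} (x x' : T ⟶ X) (g : T ⟶ G)
    (hg : lift g x' ≫ aX.act = x) : (trivIso (K := K) aX x x' g hg).hom.top = rmul (𝟙 T) g := rfl

theorem whiskerLeft_eq_rmul {T T' : Over S} (f : T ⟶ T') : (G ◁ f) = rmul f (1 : T ⟶ G) := by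
  apply CartesianMonoidalCategory.hom_ext
  · simp only [rmul, whiskerLeft_fst, lift_fst, MonObj.comp_one, _root_.mul_one]
  · simp only [rmul, whiskerLeft_snd, lift_snd]

/-- the point of `G` is determined by the right multiplication -/
theorem rmul_inj {T T' : Over S} {f f' : T ⟶ T'} {g g' : T ⟶ G} (h : rmul f g = rmul f' g') :
    f = f' ∧ g = g' := by
  constructor
  · have h1 := congrArg (fun k => unitSec G T ≫ k ≫ snd G T') h
    simpa only [rmul_snd, unitSec_snd_assoc] using h1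
  · have h1 := congrArg (fun k => unitSec G T ≫ k ≫ fst G T') h
    simpa only [rmul_fst, comp_mul, unitSec_fst_eq_one, _root_.one_mul, unitSec_snd_assoc]
      using h1

/-- the canonical functor on morphisms, as a right multiplication by `1` -/
theorem quotMap_map_eq {T T' : Over S} (x : T ⟶ X) (x' : T' ⟶ X)
    (m : (⟨T, ⟨x⟩⟩ : (ofSch X).obj) ⟶ ⟨T', ⟨x'⟩⟩)
    (h : lift (1 : T ⟶ G) (m.hom ≫ x') ≫ aX.act = x) :
    (quotMap K G aX).map m = homOfAct (K := K) m.hom x x' 1 h := by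
  apply QuotObj.hom_ext
  · rfl
  · exact whiskerLeft_eq_rmul m.hom

theorem isHomLift_homOfAct {T T' : Over S} (f : T ⟶ T') (x : T ⟶ X) (x' : T' ⟶ X) (g : T ⟶ G)
    (hg : lift g (f ≫ x') ≫ aX.act = x) :
    (QuotObj.forget K G aX).IsHomLift f (homOfAct (K := K) f x x' g hg) :=
  IsHomLift.map (QuotObj.forget K G aX) (homOfAct (K := K) f x x' g hg)

theorem actSnd_nat {T T' : Over S} (p : T ⟶ G ⊗ X) (p' : T' ⟶ G ⊗ X)
    (m : (⟨T, ⟨p⟩⟩ : (ofSch (G ⊗ X)).obj) ⟶ ⟨T', ⟨p'⟩⟩)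
    (hp : lift (p ≫ fst G X) (p ≫ snd G X) ≫ aX.act = p ≫ aX.act)
    (hp' : lift (p' ≫ fst G X) (p' ≫ snd G X) ≫ aX.act = p' ≫ aX.act) :
    (quotMap K G aX).map ((ofSpMap ((AlgSp.yon S).map aX.act)).map m) ≫
      (trivIso (K := K) aX (p' ≫ aX.act) (p' ≫ snd G X) (p' ≫ fst G X) hp').hom =
    (trivIso (K := K) aX (p ≫ aX.act) (p ≫ snd G X) (p ≫ fst G X) hp).hom ≫
      (quotMap K G aX).map ((ofSpMap ((AlgSp.yon S).map (snd G X))).map m) := by
  have hm : m.hom ≫ p' = p := congrArg ULift.down m.map_sec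
  have hm' : m.hom ≫ p' ≫ fst G X = p ≫ fst G X := by rw [← Category.assoc, hm]
  apply QuotObj.hom_ext
  · refine (rfl : _ = m.hom ≫ 𝟙 T').trans (Eq.trans ?_ (rfl : 𝟙 T ≫ m.hom = _))
    rw [Category.comp_id, Category.id_comp]
  · refine (rfl : _ = (G ◁ m.hom) ≫ rmul (𝟙 T') (p' ≫ fst G X)).trans
      (Eq.trans ?_ (rfl : rmul (𝟙 T) (p ≫ fst G X) ≫ (G ◁ m.hom) = _))
    rw [whiskerLeft_eq_rmul, rmul_comp, rmul_comp, Category.comp_id, Category.id_comp,
      _root_.one_mul, MonObj.comp_one, _root_.mul_one, hm']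

theorem lift_fst_snd_act {T : Over S} (p : T ⟶ G ⊗ X) :
    lift (p ≫ fst G X) (p ≫ snd G X) ≫ aX.act = p ≫ aX.act := by
  rw [← comp_lift, lift_fst_snd, Category.comp_id]

variable (K) in
/-- the 2-isomorphism `π ∘ act ≅ π ∘ pr₂` -/
noncomputable def actSndIso :
    BasedFunctor.comp (ofSpMap ((AlgSp.yon S).map aX.act)) (quotMap K G aX) ≅
      BasedFunctor.comp (ofSpMap ((AlgSp.yon S).map (snd G X))) (quotMap K G aX) :=
  mkBIso
    (fun w => trivIso (K := K) aX (w.sec.down ≫ aX.act) (w.sec.down ≫ snd G X)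
      (w.sec.down ≫ fst G X) (lift_fst_snd_act aX w.sec.down))
    (fun {w w'} m => actSnd_nat aX w.sec.down w'.sec.down m _ _)
    (fun w => isHomLift_homOfAct aX (𝟙 w.base) _ _ _
      (by rw [Category.id_comp]; exact lift_fst_snd_act aX w.sec.down))

end Groth.Agent.H64.Quot
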