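import Mathlib.AlgebraicGeometry.AffineScheme
import Mathlib.Topology.Sheaves.SheafCondition.UniqueGluing

set_option autoImplicit false
universe u
open CategoryTheory AlgebraicGeometry Opposite TopologicalSpace

/-! Gluing global functions from compatible functions on the affine opens. -/

namespace Groth.Agent.H64.Quot

variable (Y : Scheme.{u})

theorem eq_of_affine {U : Y.Opens} (a b : Γ(Y, U))
    (h : ∀ (V : Y.Opens) (_ : IsAffineOpen V) (hi : V ≤ U),
      Y.presheaf.map (homOfLE hi).op a = Y.presheaf.map (homOfLE hi).op b) : a = b := by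
  refine TopCat.Sheaf.eq_of_locally_eq' Y.sheaf
    (fun j : {V : Y.Opens // IsAffineOpen V ∧ V ≤ U} => j.1) U
    (fun j => homOfLE j.2.2) ?_ a b (fun j => h j.1 j.2.1 j.2.2)
  intro x hx
  obtain ⟨V, hV, hxV, hVU⟩ :=
    Opens.isBasis_iff_nbhd.mp Y.isBasis_affineOpens hx
  exact Opens.mem_iSup.mpr ⟨⟨V, hV, hVU⟩, hxV⟩

theorem exists_glue_affine (t : ∀ (V : Y.Opens), IsAffineOpen V → Γ(Y, V))
    (ht : ∀ (V V' : Y.Opens) (hV : IsAffineOpen V) (hV' : IsAffineOpen V') (hi : V' ≤ V),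
      Y.presheaf.map (homOfLE hi).op (t V hV) = t V' hV') :
    ∃ r : Γ(Y, ⊤), ∀ (V : Y.Opens) (hV : IsAffineOpen V),
      Y.presheaf.map (homOfLE le_top).op r = t V hV := by
  have hcover : (⊤ : Y.Opens) ≤ ⨆ j : {V : Y.Opens // IsAffineOpen V}, j.1 := by
    intro x hx
    obtain ⟨V, hV, hxV, -⟩ :=
      Opens.isBasis_iff_nbhd.mp Y.isBasis_affineOpens hx
    exact Opens.mem_iSup.mpr ⟨⟨V, hV⟩, hxV⟩
  obtain ⟨r, hr, -⟩ := TopCat.Sheaf.existsUnique_gluing' Y.sheaf
    (fun j : {V : Y.Opens // IsAffineOpen V} => j.1) ⊤ (fun j => homOfLE le_top) hcover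
    (fun j => t j.1 j.2) (by
      intro j k
      refine eq_of_affine Y _ _ (fun V hV hi => ?_)
      have hj : V ≤ j.1 := hi.trans inf_le_left
      have hk : V ≤ k.1 := hi.trans inf_le_right
      have e1 : Y.presheaf.map (homOfLE hi).op
          (Y.presheaf.map (homOfLE (inf_le_left : j.1 ⊓ k.1 ≤ j.1)).op (t j.1 j.2)) =
          t V hV := by
        rw [← ht j.1 V j.2 hV hj]
        change (Y.presheaf.map _ ≫ Y.presheaf.map _) _ = _
        rw [← Y.presheaf.map_comp]
        rfl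
      have e2 : Y.presheaf.map (homOfLE hi).op
          (Y.presheaf.map (homOfLE (inf_le_right : j.1 ⊓ k.1 ≤ k.1)).op (t k.1 k.2)) =
          t V hV := by
        rw [← ht k.1 V k.2 hV hk]
        change (Y.presheaf.map _ ≫ Y.presheaf.map _) _ = _
        rw [← Y.presheaf.map_comp]
        rfl
      exact e1.trans e2.symm)
  exact ⟨r, fun V hV => hr ⟨V, hV⟩⟩

end Groth.Agent.H64.Quot
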