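import Groth.Agent.H64.Quot.ActSq

set_option autoImplicit false
universe u
open CategoryTheory CategoryTheory.Limits MonoidalCategory CartesianMonoidalCategory MonObj GrpObj
  AlgebraicGeometry

/-! General facts on the quotient category `[X/G]`: morphisms are cartesian, morphisms over
isomorphisms are isomorphisms, morphisms out of trivial torsors are given by sections. -/

namespace Groth.Agent.H64.Quot

open AlgSt

variable {S : Scheme.{u}} {K : Precoverage Scheme.{u}} {G : Over S} [GrpObj G]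
  {X : Over S} {aX : AlgGrp.Action G X}

/-- morphisms into the source of a morphism of `[X/G]` are determined by their base and their
composite: every morphism of `[X/G]` is cartesian -/
theorem hom_ext_of_comp {A B C : QuotObj K G aX} (m : B ⟶ A) {χ χ' : C ⟶ B}
    (hb : χ.base = χ'.base) (h : χ ≫ m = χ' ≫ m) : χ = χ' := by
  apply QuotObj.hom_ext hb
  apply m.cart.hom_ext
  · exact congrArg QuotObj.Hom.top h
  · rw [χ.cart.w, χ'.cart.w, hb]

/-- a morphism of `[X/G]` over an isomorphism is an isomorphism -/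
theorem isIso_of_isIso_base {A B : QuotObj K G aX} (h : A ⟶ B) [IsIso h.base] : IsIso h := by
  have ht : IsIso h.top := h.cart.isIso_fst_of_isIso
  let k : B ⟶ A :=
    { base := inv h.base
      top := inv h.top
      eqv := by
        rw [IsIso.comp_inv_eq, Category.assoc, h.eqv, ← MonoidalCategory.whiskerLeft_comp_assoc,
          IsIso.inv_hom_id, MonoidalCategory.whiskerLeft_id, Category.id_comp]
      cart := IsPullback.of_horiz_isIso ⟨by
        rw [IsIso.inv_comp_eq, ← Category.assoc, h.cart.w, Category.assoc, IsIso.hom_inv_id,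
          Category.comp_id]⟩
      wφ := by rw [IsIso.inv_comp_eq, h.wφ] }
  refine ⟨⟨k, ?_, ?_⟩⟩
  · apply QuotObj.hom_ext
    · exact IsIso.hom_inv_id h.base
    · exact IsIso.hom_inv_id h.top
  · apply QuotObj.hom_ext
    · exact IsIso.inv_hom_id h.base
    · exact IsIso.inv_hom_id h.top

theorem inv_base {A B : QuotObj K G aX} (h : A ⟶ B) [IsIso h] [IsIso h.base] :
    (inv h).base = inv h.base := by
  rw [← cancel_epi h.base, IsIso.hom_inv_id]
  exact congrArg QuotObj.Hom.base (IsIso.hom_inv_id h)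

instance isIso_base_of_isIso {A B : QuotObj K G aX} (h : A ⟶ B) [IsIso h] : IsIso h.base :=
  ⟨⟨(inv h).base, congrArg QuotObj.Hom.base (IsIso.hom_inv_id h),
    congrArg QuotObj.Hom.base (IsIso.inv_hom_id h)⟩⟩

instance isIso_top_of_isIso {A B : QuotObj K G aX} (h : A ⟶ B) [IsIso h] : IsIso h.top :=
  ⟨⟨(inv h).top, congrArg QuotObj.Hom.top (IsIso.hom_inv_id h),
    congrArg QuotObj.Hom.top (IsIso.inv_hom_id h)⟩⟩

section triv

/-- every morphism from a trivial torsor is given by a section: the base -/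
theorem base_eq_of_triv {T : Over S} {A : QuotObj K G aX}
    (t : G ⊗ T ⟶ A.P) (b : T ⟶ A.base) (hw : t ≫ A.π = snd G T ≫ b) :
    b = (unitSec G T ≫ t) ≫ A.π := by
  rw [Category.assoc, hw, unitSec_snd_assoc]

/-- every morphism from a trivial torsor is given by a section: the total space -/
theorem top_eq_of_triv {T : Over S} {A : QuotObj K G aX}
    (t : G ⊗ T ⟶ A.P) (he : (leftMul G T).act ≫ t = (G ◁ t) ≫ A.act.act) :
    t = (G ◁ (unitSec G T ≫ t)) ≫ A.act.act := by
  have h1 : t = lift (fst G T) (snd G T ≫ unitSec G T) ≫ (G ◁ t) ≫ A.act.act := by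
    rw [← he, reassoc_of% (sigma_leftMul (G := G) T)]
  refine h1.trans ?_
  rw [← Category.assoc]
  congr 1
  apply CartesianMonoidalCategory.hom_ext
  · simp only [Category.assoc, whiskerLeft_fst, lift_fst]
  · simp only [Category.assoc, whiskerLeft_snd, lift_snd_assoc]

/-- every morphism from a trivial torsor is given by a section: the map to `X` -/
theorem φ_eq_of_triv {T : Over S} {x : T ⟶ X} {A : QuotObj K G aX}
    (t : G ⊗ T ⟶ A.P) (hφ : t ≫ A.φ = (G ◁ x) ≫ aX.act) :
    (unitSec G T ≫ t) ≫ A.φ = x := by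
  rw [Category.assoc, hφ, unitSec_act]

end triv

section trivTo

variable [K.HasIsos]

/-- morphisms out of a trivial torsor are determined by the image of the unit section -/
theorem hom_ext_triv {T : Over S} {x : T ⟶ X} {A : QuotObj K G aX} {lam lam' : triv K aX T x ⟶ A}
    (h : unitSec G T ≫ lam.top = unitSec G T ≫ lam'.top) : lam = lam' := by
  have ht : lam.top = lam'.top := by
    refine (top_eq_of_triv (A := A) lam.top lam.eqv).trans
      (Eq.trans ?_ (top_eq_of_triv (A := A) lam'.top lam'.eqv).symm)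
    exact congrArg (fun k => (G ◁ k) ≫ A.act.act) h
  apply QuotObj.hom_ext _ ht
  refine (base_eq_of_triv (A := A) lam.top lam.base lam.cart.w).trans
    (Eq.trans ?_ (base_eq_of_triv (A := A) lam'.top lam'.base lam'.cart.w).symm)
  exact congrArg (fun k => k ≫ A.π) h

/-- lift of a section along a morphism of `[X/G]` -/
noncomputable def secLift {A B : QuotObj K G aX} (m : B ⟶ A) {T : Over S} (s : T ⟶ A.P)
    (τ : T ⟶ B.base) (h : s ≫ A.π = τ ≫ m.base) : T ⟶ B.P :=
  m.cart.lift s τ h

@[reassoc (attr := simp)] theorem secLift_top {A B : QuotObj K G aX} (m : B ⟶ A) {T : Over S}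
    (s : T ⟶ A.P) (τ : T ⟶ B.base) (h : s ≫ A.π = τ ≫ m.base) :
    secLift m s τ h ≫ m.top = s := m.cart.lift_fst _ _ _

@[reassoc (attr := simp)] theorem secLift_π {A B : QuotObj K G aX} (m : B ⟶ A) {T : Over S}
    (s : T ⟶ A.P) (τ : T ⟶ B.base) (h : s ≫ A.π = τ ≫ m.base) :
    secLift m s τ h ≫ B.π = τ := m.cart.lift_snd _ _ _

theorem secLift_φ {A B : QuotObj K G aX} (m : B ⟶ A) {T : Over S}
    (s : T ⟶ A.P) (τ : T ⟶ B.base) (h : s ≫ A.π = τ ≫ m.base) :
    secLift m s τ h ≫ B.φ = s ≫ A.φ := by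
  rw [← m.wφ, secLift_top_assoc]

/-- the morphism from the trivial torsor to the source of a morphism `m`, defined by a section of
the target of `m` and a compatible map to the base of the source -/
noncomputable def trivTo {A B : QuotObj K G aX} (m : B ⟶ A) {T : Over S} (s : T ⟶ A.P)
    (τ : T ⟶ B.base) (h : s ≫ A.π = τ ≫ m.base) : triv K aX T (s ≫ A.φ) ⟶ B where
  base := τ
  top := (G ◁ secLift m s τ h) ≫ B.act.act
  eqv := (ofSection B (secLift m s τ h)).eqv
  cart := by
    have h1 := (ofSection B (secLift m s τ h)).cart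
    have h2 : (ofSection B (secLift m s τ h)).base = τ := secLift_π m s τ h
    rw [h2] at h1
    exact h1
  wφ := by
    change ((G ◁ secLift m s τ h) ≫ B.act.act) ≫ B.φ = (G ◁ (s ≫ A.φ)) ≫ aX.act
    rw [Category.assoc, B.eqv, ← MonoidalCategory.whiskerLeft_comp_assoc, secLift_φ]

@[simp] theorem trivTo_base {A B : QuotObj K G aX} (m : B ⟶ A) {T : Over S} (s : T ⟶ A.P)
    (τ : T ⟶ B.base) (h : s ≫ A.π = τ ≫ m.base) : (trivTo m s τ h).base = τ := rfl

@[simp] theorem trivTo_top {A B : QuotObj K G aX} (m : B ⟶ A) {T : Over S} (s : T ⟶ A.P)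
    (τ : T ⟶ B.base) (h : s ≫ A.π = τ ≫ m.base) :
    (trivTo m s τ h).top = (G ◁ secLift m s τ h) ≫ B.act.act := rfl

theorem trivTo_comp {A B : QuotObj K G aX} (m : B ⟶ A) {T : Over S} (s : T ⟶ A.P)
    (τ : T ⟶ B.base) (h : s ≫ A.π = τ ≫ m.base) : trivTo m s τ h ≫ m = ofSection A s := by
  apply QuotObj.hom_ext
  · exact h.symm
  · refine (rfl : _ = ((G ◁ secLift m s τ h) ≫ B.act.act) ≫ m.top).trans ?_
    rw [Category.assoc, m.eqv, ← MonoidalCategory.whiskerLeft_comp_assoc, secLift_top]
    rfl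

theorem unitSec_ofSection_top (A : QuotObj K G aX) {T : Over S} (s : T ⟶ A.P) :
    unitSec G T ≫ (G ◁ s) ≫ A.act.act = s :=
  unitSec_act (aX := A.act) s

/-- the canonical functor composed with the morphism defined by a section -/
theorem map_ofSection (A : QuotObj K G aX) {T T' : Over S} (r : T' ⟶ T) (s : T ⟶ A.P)
    (m : (⟨T', ⟨(r ≫ s) ≫ A.φ⟩⟩ : (ofSch X).obj) ⟶ ⟨T, ⟨s ≫ A.φ⟩⟩) (hm : m.hom = r) :
    (quotMap K G aX).map m ≫ ofSection A s = ofSection A (r ≫ s) := by
  apply hom_ext_triv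
  refine (rfl : _ = unitSec G T' ≫ (G ◁ m.hom) ≫ (G ◁ s) ≫ A.act.act).trans
    (Eq.trans ?_ (rfl : unitSec G T' ≫ (G ◁ (r ≫ s)) ≫ A.act.act = _))
  rw [hm, MonoidalCategory.whiskerLeft_comp, Category.assoc]

end trivTo

end Groth.Agent.H64.Quot
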