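import Groth.Agent.H64.Quot.Desc2
import Groth.Agent.H64.Quot.ActSq
import Groth.Agent.H64.Psh.MapOf
import Groth.Agent.H64.Stk.Whisker

set_option autoImplicit false
universe w v₂ u₂ v u
open CategoryTheory CategoryTheory.Limits MonoidalCategory CartesianMonoidalCategory MonObj GrpObj
  AlgebraicGeometry Opposite

/-! Functors from `[X/G]` to sheaves are the same as invariant maps from `X`. -/

namespace Groth.Agent.H64

theorem bfun_eq_of_iso {C : Type u} [Category.{v} C] {P : Cᵒᵖ ⥤ Type w}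
    {𝒜 : BasedCategory.{v₂, u₂} C} {F H : 𝒜 ⥤ᵇ Stk.ofPsh P} (e : F ≅ H) : F = H :=
  bfun_ext_of_bsec_eq (fun a => bsec_eq_of_hom e.hom a)

end Groth.Agent.H64

namespace Groth.Agent.H64.Quot

open AlgSt

variable {S : Scheme.{u}}

theorem ofSpMap_injective {F N : AlgSp.Sp S} {a b : F ⟶ N} (h : ofSpMap a = ofSpMap b) :
    a = b := by
  apply ObjectProperty.hom_ext
  ext T x
  obtain ⟨T⟩ := T
  have h1 := congrArg (fun Φ => bsec Φ (⟨T, x⟩ : (ofSp F).obj)) h
  simp only [] at h1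
  exact ((Groth.Agent.H64.Recog.bsec_ofPshMap a.hom ⟨T, x⟩).symm.trans h1).trans
    (Groth.Agent.H64.Recog.bsec_ofPshMap b.hom ⟨T, x⟩)

theorem ofSpMap_comp {F N N' : AlgSp.Sp S} (a : F ⟶ N) (b : N ⟶ N') :
    ofSpMap (a ≫ b) = BasedFunctor.comp (ofSpMap a) (ofSpMap b) := rfl

theorem exists_ofSpMap_eq {F N : AlgSp.Sp S} (Φ : ofSp F ⥤ᵇ ofSp N) :
    ∃ a : F ⟶ N, Φ = ofSpMap a := by
  obtain ⟨e⟩ := Groth.Agent.H64.Recog.nonempty_iso_ofPshMap Φ
  exact ⟨ObjectProperty.homMk (Groth.Agent.H64.Recog.pshMapOf Φ), (bfun_eq_of_iso e).symm⟩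

section

variable {K : Precoverage Scheme.{u}} [K.HasIsos] {G : Over S} [GrpObj G] {X : Over S}
  {aX : AlgGrp.Action G X} {N : AlgSp.Sp S}

/-- the map `X ⟶ N` induced by a functor `[X/G] ⟶ N` is invariant -/
theorem invariant_of_comp_eq (φ : QuotSt K G aX ⥤ᵇ ofSp N) (a : (AlgSp.yon S).obj X ⟶ N)
    (h : BasedFunctor.comp (quotMap K G aX) φ = ofSpMap a) :
    (AlgSp.yon S).map aX.act ≫ a = (AlgSp.yon S).map (snd G X) ≫ a := by
  apply ofSpMap_injective
  rw [ofSpMap_comp, ofSpMap_comp, ← h]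
  exact bfun_eq_of_iso (bwrIso (actSndIso K aX) φ)

/-- functors from `[X/G]` to a sheaf are determined by their restriction to `X` -/
theorem eq_of_quotMap_comp_eq (hN : Presieve.IsSheaf (QuotSh.J K S) N.obj)
    (φ φ' : QuotSt K G aX ⥤ᵇ ofSp N)
    (h : BasedFunctor.comp (quotMap K G aX) φ = BasedFunctor.comp (quotMap K G aX) φ') :
    φ = φ' := by
  obtain ⟨a, ha⟩ := exists_ofSpMap_eq (BasedFunctor.comp (quotMap K G aX) φ)
  have hinv := invariant_of_comp_eq φ a ha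
  rw [descFun_unique a hinv hN φ ha, descFun_unique a hinv hN φ' (h ▸ ha)]

end

end Groth.Agent.H64.Quot
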