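import Groth.Agent.H64.Quot.CatQuot
import Groth.Prelude.Def_StCoarse
import Groth.Prelude.Def_W4bk4git07Quot

set_option autoImplicit false
universe u
open CategoryTheory CategoryTheory.Limits MonoidalCategory CartesianMonoidalCategory MonObj GrpObj
  AlgebraicGeometry Opposite

/-! `[X/G] ⟶ Y` is a categorical moduli space in schemes iff `X ⟶ Y` is a categorical quotient. -/

namespace Groth.Agent.H64.Quot

open AlgSt

variable {S : Scheme.{u}} {K : Precoverage Scheme.{u}} [K.HasIsos] {G : Over S} [GrpObj G]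
  {X Y : Over S} {aX : AlgGrp.Action G X}

theorem isSheaf_of_sp (N : QuotSh.Sh K S) : Presieve.IsSheaf (QuotSh.J K S) N.obj :=
  (isSheaf_iff_isSheaf_of_type _ _).mp N.property

theorem isCatModuliSch_iff_isCatQuot (f : X ⟶ Y)
    (π : QuotSt Scheme.fppfPrecoverage G aX ⥤ᵇ ofSch Y)
    (hπ : Nonempty (BasedFunctor.comp (quotMap Scheme.fppfPrecoverage G aX) π ≅
      ofSpMap ((AlgSp.yon S).map f))) :
    IsCatModuliSch π ↔ GIT.IsCatQuot aX f := by
  have hπ' : BasedFunctor.comp (quotMap Scheme.fppfPrecoverage G aX) π =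
      ofSpMap ((AlgSp.yon S).map f) := bfun_eq_of_iso hπ.some
  constructor
  · rintro ⟨-, huniv⟩
    have hinv : GIT.IsInvariant aX f := by
      have h1 := invariant_of_comp_eq π ((AlgSp.yon S).map f) hπ'
      rw [← Functor.map_comp, ← Functor.map_comp] at h1
      exact (AlgSp.yon S).map_injective h1
    refine ⟨hinv, fun Z ψ hψ => ?_⟩
    have hψ' : (AlgSp.yon S).map aX.act ≫ (AlgSp.yon S).map ψ =
        (AlgSp.yon S).map (snd G X) ≫ (AlgSp.yon S).map ψ := by
      rw [← Functor.map_comp, ← Functor.map_comp]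
      exact congrArg (AlgSp.yon S).map hψ
    have hZ : ((AlgSp.yon S).obj Z).obj.IsRepresentable :=
      ⟨Z, ⟨AlgSp.representableByOfIso (Iso.refl _)⟩⟩
    have hMZ := isSheaf_of_sp (K := Scheme.fppfPrecoverage) ((AlgSp.yon S).obj Z)
    obtain ⟨g, ⟨e⟩, hguniq⟩ := huniv ((AlgSp.yon S).obj Z) hZ
      (descFun ((AlgSp.yon S).map ψ) hψ' hMZ)
    have he : BasedFunctor.comp π (ofSpMap g) = descFun ((AlgSp.yon S).map ψ) hψ' hMZ :=
      bfun_eq_of_iso e
    obtain ⟨χ, rfl⟩ := (AlgSp.yon S).map_surjective g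
    refine ⟨χ, ?_, ?_⟩
    · apply (AlgSp.yon S).map_injective
      rw [Functor.map_comp]
      apply ofSpMap_injective
      rw [ofSpMap_comp, ← hπ']
      change BasedFunctor.comp (quotMap Scheme.fppfPrecoverage G aX)
        (BasedFunctor.comp π (ofSpMap ((AlgSp.yon S).map χ))) = _
      rw [he, quotMap_comp_descFun]
    · intro χ' hχ'
      apply (AlgSp.yon S).map_injective
      apply hguniq
      refine ⟨eqToIso ?_⟩
      apply descFun_unique
      change BasedFunctor.comp (BasedFunctor.comp (quotMap Scheme.fppfPrecoverage G aX) π)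
        (ofSpMap ((AlgSp.yon S).map χ')) = _
      rw [hπ', ← ofSpMap_comp, ← Functor.map_comp, hχ']
  · rintro ⟨hinv, huniv⟩
    refine ⟨⟨Y, ⟨AlgSp.representableByOfIso (Iso.refl _)⟩⟩, fun N hN φ => ?_⟩
    obtain ⟨Z, ⟨r⟩⟩ := hN
    let e := AlgSp.isoOfRepresentableBy r
    have hMN := isSheaf_of_sp (K := Scheme.fppfPrecoverage) N
    obtain ⟨a, ha⟩ := exists_ofSpMap_eq
      (BasedFunctor.comp (quotMap Scheme.fppfPrecoverage G aX) φ)
    have hainv := invariant_of_comp_eq φ a ha
    obtain ⟨ψ, hψ⟩ := (AlgSp.yon S).map_surjective (a ≫ e.inv)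
    have hψinv : GIT.IsInvariant aX ψ := by
      apply (AlgSp.yon S).map_injective
      rw [Functor.map_comp, Functor.map_comp, hψ, ← Category.assoc, hainv, Category.assoc]
    obtain ⟨χ, hχ, hχuniq⟩ := huniv Z ψ hψinv
    refine ⟨(AlgSp.yon S).map χ ≫ e.hom, ⟨eqToIso ?_⟩, ?_⟩
    · apply eq_of_quotMap_comp_eq hMN
      change BasedFunctor.comp (BasedFunctor.comp (quotMap Scheme.fppfPrecoverage G aX) π)
        (ofSpMap _) = BasedFunctor.comp (quotMap Scheme.fppfPrecoverage G aX) φ
      rw [hπ', ← ofSpMap_comp, ha, ← Category.assoc, ← Functor.map_comp, hχ, hψ, Category.assoc,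
        e.inv_hom_id, Category.comp_id]
    · rintro g' ⟨e'⟩
      have he' : BasedFunctor.comp π (ofSpMap g') = φ := bfun_eq_of_iso e'
      have h1 : (AlgSp.yon S).map f ≫ g' = a := by
        apply ofSpMap_injective
        rw [ofSpMap_comp, ← hπ', ← ha, ← he']
        rfl
      obtain ⟨χ', hχ'⟩ := (AlgSp.yon S).map_surjective (g' ≫ e.inv)
      have h2 : f ≫ χ' = ψ := by
        apply (AlgSp.yon S).map_injective
        rw [Functor.map_comp, hχ', ← Category.assoc, h1, hψ]
      have h3 := hχuniq χ' h2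
      rw [← h3, hχ', Category.assoc, e.inv_hom_id, Category.comp_id]

end Groth.Agent.H64.Quot
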