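import Groth.Agent.H64.Quot.GeomPt

set_option autoImplicit false
universe w v u
open CategoryTheory CategoryTheory.Limits MonoidalCategory CartesianMonoidalCategory MonObj GrpObj
  AlgebraicGeometry Opposite

/-! `[X/G] ⟶ Y` is a coarse moduli space when the geometric fibres of `X ⟶ Y` are orbits and
`X ⟶ Y` is a categorical quotient in algebraic spaces. -/

namespace Groth.Agent.H64.Quot

open AlgSt

section fibSec

variable {S : Scheme.{u}} {𝒳 : BasedCategory.{v, w} (Over S)} {M : AlgSp.Sp S}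

theorem fibSec_eq_of_hom (π : 𝒳 ⥤ᵇ ofSp M) {T : Over S} (x y : 𝒳.p.Fiber T) (φ : x.1 ⟶ y.1)
    (hφ : 𝒳.p.IsHomLift (𝟙 T) φ) : fibSec π x = fibSec π y := by
  have h1 : (ofSp M).p.IsHomLift (𝟙 T) (π.map φ) := (BasedFunctor.isHomLift_iff π _ _).mpr hφ
  have h2 := secAt_of_hom M.obj (π.map φ) (𝟙 T) h1 ((π.w_obj x.1).trans x.2)
    ((π.w_obj y.1).trans y.2)
  have h3 : fibSec π y = secAt M.obj (π.obj y.1) ((π.w_obj y.1).trans y.2) := rfl
  have h4 : fibSec π x = secAt M.obj (π.obj x.1) ((π.w_obj x.1).trans x.2) := rfl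
  rw [h3, h4, ← h2]
  simp

end fibSec

variable {S : Scheme.{u}} {G : Over S} [GrpObj G] {X Y : Over S} {aX : AlgGrp.Action G X}

/-- a group scheme is surjective over its base -/
theorem surjective_hom_of_grpObj' (G : Over S) [GrpObj G] : Surjective G.hom := by
  have h : η[G].left ≫ G.hom = 𝟙 S := Over.w η[G]
  refine ⟨fun x => ⟨η[G].left x, ?_⟩⟩
  rw [← Scheme.Hom.comp_apply, h]
  rfl

theorem fibSec_triv {K : Precoverage Scheme.{u}} [K.HasIsos] (f : X ⟶ Y)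
    (π : QuotSt K G aX ⥤ᵇ ofSch Y)
    (hπ : BasedFunctor.comp (quotMap K G aX) π = ofSpMap ((AlgSp.yon S).map f))
    {T : Over S} (x : T ⟶ X) :
    fibSec π (⟨triv K aX T x, rfl⟩ : (QuotSt K G aX).p.Fiber T) = ⟨x ≫ f⟩ := by
  have h1 : fibSec π (⟨triv K aX T x, rfl⟩ : (QuotSt K G aX).p.Fiber T) =
      bsec (BasedFunctor.comp (quotMap K G aX) π) (⟨T, ⟨x⟩⟩ : (ofSch X).obj) := rfl
  rw [h1, hπ]
  exact Groth.Agent.H64.Recog.bsec_ofPshMap _ _

theorem isCoarseModuli_quotSt [LocallyOfFinitePresentation G.hom] (f : X ⟶ Y)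
    (horb : ∀ (Ω : Type u) [Field Ω] [IsAlgClosed Ω] (t : Spec (CommRingCat.of Ω) ⟶ S),
      (∀ y : Over.mk t ⟶ Y, ∃ x : Over.mk t ⟶ X, x ≫ f = y) ∧
      (∀ x x' : Over.mk t ⟶ X, x ≫ f = x' ≫ f → ∃ g : Over.mk t ⟶ G, lift g x' ≫ aX.act = x))
    (hcat : ∀ (N : AlgSp.Space S) (ψ : (AlgSp.yon S).obj X ⟶ N.obj),
      (AlgSp.yon S).map aX.act ≫ ψ = (AlgSp.yon S).map (snd G X) ≫ ψ →
        ∃! χ : (AlgSp.yon S).obj Y ⟶ N.obj, (AlgSp.yon S).map f ≫ χ = ψ)
    (π : QuotSt Scheme.fppfPrecoverage G aX ⥤ᵇ ofSch Y)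
    (hπ : Nonempty (BasedFunctor.comp (quotMap Scheme.fppfPrecoverage G aX) π ≅
      ofSpMap ((AlgSp.yon S).map f))) :
    IsCoarseModuli π := by
  have hπ' : BasedFunctor.comp (quotMap Scheme.fppfPrecoverage G aX) π =
      ofSpMap ((AlgSp.yon S).map f) := bfun_eq_of_iso hπ.some
  refine ⟨⟨AlgSp.IsAlgSpace.yon_obj Y, fun N hN φ => ?_⟩, ?_⟩
  · have hMN := isSheaf_of_sp (K := Scheme.fppfPrecoverage) N
    obtain ⟨a, ha⟩ := exists_ofSpMap_eq
      (BasedFunctor.comp (quotMap Scheme.fppfPrecoverage G aX) φ)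
    have hainv := invariant_of_comp_eq φ a ha
    obtain ⟨χ, hχ, huniq⟩ := hcat ⟨N, hN⟩ a hainv
    refine ⟨χ, ⟨eqToIso ?_⟩, ?_⟩
    · apply eq_of_quotMap_comp_eq hMN
      change BasedFunctor.comp (BasedFunctor.comp (quotMap Scheme.fppfPrecoverage G aX) π)
        (ofSpMap χ) = BasedFunctor.comp (quotMap Scheme.fppfPrecoverage G aX) φ
      rw [hπ', ← ofSpMap_comp, ha]
      exact congrArg ofSpMap hχ
    · rintro g' ⟨e'⟩
      apply huniq
      have he' : BasedFunctor.comp π (ofSpMap g') = φ := bfun_eq_of_iso e'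
      apply ofSpMap_injective
      rw [ofSpMap_comp, ← hπ', ← ha, ← he']
      rfl
  · intro Ω _ _ t
    have hlft : LocallyOfFiniteType G.hom := inferInstance
    have hK : Scheme.fppfPrecoverage ≤ Scheme.fpqcPrecoverage :=
      Scheme.fppfPrecoverage_le_fpqcPrecoverage
    have : IsZariskiLocalAtTarget @LocallyOfFiniteType.{u} :=
      HasRingHomProperty.instIsZariskiLocalAtTarget (P := @LocallyOfFiniteType)
        (Q := RingHom.FiniteType)
    have hπlft : ∀ A : QuotObj Scheme.fppfPrecoverage G aX, LocallyOfFiniteType A.π.left :=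
      fun A => prop_π_of_prop_G' hK @LocallyOfFiniteType inferInstance hlft A
    have hπsurj : ∀ A : QuotObj Scheme.fppfPrecoverage G aX, Surjective A.π.left :=
      fun A => prop_π_of_prop_G' hK @Surjective inferInstance (surjective_hom_of_grpObj' G) A
    constructor
    · rintro ⟨y⟩
      obtain ⟨x₀, hx₀⟩ := (horb Ω t).1 y
      refine ⟨⟨triv Scheme.fppfPrecoverage aX (Over.mk t) x₀, rfl⟩, ?_⟩
      rw [fibSec_triv f π hπ']
      exact congrArg ULift.up hx₀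
    · rintro ⟨A, hA⟩ ⟨B, hB⟩ h
      have hA' : A.base = Over.mk t := hA
      have hB' : B.base = Over.mk t := hB
      obtain ⟨sA, hsA⟩ := exists_section_algClosed t A hA' (hπlft A) (hπsurj A)
      obtain ⟨sB, hsB⟩ := exists_section_algClosed t B hB' (hπlft B) (hπsurj B)
      obtain ⟨eA, heA⟩ := exists_iso_triv_of_section A hA' sA hsA
      obtain ⟨eB, heB⟩ := exists_iso_triv_of_section B hB' sB hsB
      have h1 : fibSec π ⟨A, hA⟩ = ⟨(sA ≫ A.φ) ≫ f⟩ :=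
        (fibSec_eq_of_hom π ⟨triv Scheme.fppfPrecoverage aX (Over.mk t) (sA ≫ A.φ), rfl⟩
          ⟨A, hA⟩ eA.hom heA).symm.trans (fibSec_triv f π hπ' _)
      have h2 : fibSec π ⟨B, hB⟩ = ⟨(sB ≫ B.φ) ≫ f⟩ :=
        (fibSec_eq_of_hom π ⟨triv Scheme.fppfPrecoverage aX (Over.mk t) (sB ≫ B.φ), rfl⟩
          ⟨B, hB⟩ eB.hom heB).symm.trans (fibSec_triv f π hπ' _)
      have h3 : (sA ≫ A.φ) ≫ f = (sB ≫ B.φ) ≫ f :=
        congrArg ULift.down (h1.symm.trans (h.trans h2))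
      obtain ⟨g, hg⟩ := (horb Ω t).2 _ _ h3
      have heA' := Groth.Agent.H64.lift_inv_of_iso (QuotObj.forget _ G aX) eA heA
      have hmid : (QuotObj.forget Scheme.fppfPrecoverage G aX).IsHomLift (𝟙 (Over.mk t))
          (trivIso (K := Scheme.fppfPrecoverage) aX (sA ≫ A.φ) (sB ≫ B.φ) g hg).hom :=
        isHomLift_homOfAct aX (𝟙 (Over.mk t)) _ _ _ (by rw [Category.id_comp]; exact hg)
      refine ⟨fiberIsoMk (x := ⟨A, hA⟩) (y := ⟨B, hB⟩)
        (eA.symm ≪≫ trivIso aX _ _ g hg ≪≫ eB) ?_⟩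
      exact Groth.Agent.H64.lift_id_comp_id _ heA' (Groth.Agent.H64.lift_id_comp_id _ hmid heB)

end Groth.Agent.H64.Quot
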