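import Groth.Agent.H64.Quot.UnitSec
import Groth.Prelude.Def_ConstAct2

set_option autoImplicit false
universe u
open CategoryTheory CategoryTheory.Limits AlgebraicGeometry Opposite TensorProduct
open MonoidalCategory CartesianMonoidalCategory MonObj GrpObj

/-! Functions on `Spec A ×_{Spec A^G} E` invariant under the finite group `G` come from `E`, for
`E` flat over `Spec A^G`. -/

namespace Groth.Agent.H64.ConstInv

section algebra

theorem exists_of_invariant {A₀ A B : Type u} [CommRing A₀] [CommRing A] [CommRing B]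
    [Algebra A₀ A] [Algebra A₀ B] [Module.Flat A₀ B] {G : Type*} [Fintype G] [DecidableEq G]
    (σ : G → (A →ₐ[A₀] A))
    (hinv : ∀ a : A, (∀ g, σ g a = a) → a ∈ Set.range (algebraMap A₀ A))
    (t : A ⊗[A₀] B) (ht : ∀ g, Algebra.TensorProduct.map (σ g) (AlgHom.id A₀ B) t = t) :
    ∃ b : B, t = 1 ⊗ₜ b := by
  let φ : A →ₗ[A₀] (G → A) := LinearMap.pi (fun g => (σ g).toLinearMap - LinearMap.id)
  have hex : Function.Exact (Algebra.linearMap A₀ A) φ := by
    intro a
    constructor
    · intro h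
      apply hinv
      intro g
      have h1 := congrFun h g
      simpa [φ, sub_eq_zero] using h1
    · rintro ⟨a₀, rfl⟩
      funext g
      simp [φ]
  have hex' := Module.Flat.rTensor_exact B hex
  have key : ∀ (z : A ⊗[A₀] B) (g : G),
      (TensorProduct.piLeft A₀ B (fun _ : G => A)) ((φ.rTensor B) z) g =
        Algebra.TensorProduct.map (σ g) (AlgHom.id A₀ B) z - z := by
    intro z g
    induction z using TensorProduct.induction_on with
    | zero => simp
    | tmul a b => simp [φ, TensorProduct.sub_tmul]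
    | add x y hx hy =>
      simp only [map_add, Pi.add_apply, hx, hy]
      abel
  have hz : (φ.rTensor B) t = 0 := by
    apply (TensorProduct.piLeft A₀ B (fun _ : G => A)).injective
    rw [map_zero]
    funext g
    rw [key, ht g, sub_self]
    rfl
  have gen : ∀ t₀ : A₀ ⊗[A₀] B, ((Algebra.linearMap A₀ A).rTensor B) t₀ =
      (1 : A) ⊗ₜ[A₀] (TensorProduct.lid A₀ B t₀) := by
    intro t₀
    induction t₀ using TensorProduct.induction_on with
    | zero => simp
    | tmul a b =>
      simp only [LinearMap.rTensor_tmul, Algebra.linearMap_apply, TensorProduct.lid_tmul]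
      rw [Algebra.algebraMap_eq_smul_one, TensorProduct.smul_tmul]
    | add x y hx hy => simp only [map_add, hx, hy, TensorProduct.tmul_add]
  obtain ⟨t₀, ht₀⟩ := (hex' t).mp hz
  exact ⟨TensorProduct.lid A₀ B t₀, ht₀.symm.trans (gen t₀)⟩

end algebra

open ConstAct

variable (R : Type u) [CommRing R] (A : Type u) [CommRing A] [Algebra R A]
  (G : Type u) [Group G] [Fintype G] [DecidableEq G] [MulSemiringAction G A] [SMulCommClass G R A]

/-- the action of `g` as an algebra endomorphism over the invariants -/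
noncomputable def sig (g : G) : A →ₐ[inv R A G] A :=
  { MulSemiringAction.toRingHom G A g with
    commutes' := fun a₀ => a₀.2 g }

@[simp] theorem sig_apply (g : G) (a : A) : sig R A G g a = g • a := rfl

theorem mem_range_of_sig (a : A) (h : ∀ g, sig R A G g a = a) :
    a ∈ Set.range (algebraMap (inv R A G) A) :=
  ⟨⟨a, h⟩, rfl⟩

theorem algebraMap_inv_injective : Function.Injective (algebraMap (inv R A G) A) :=
  Subtype.val_injective

section chart

variable (B : Type u) [CommRing B] [Algebra (inv R A G) B]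

/-- `A ⊗_{A^G} B` -/
abbrev KK : Type u := A ⊗[inv R A G] B

/-- `g ⊗ id` as an `R`-algebra endomorphism of `A ⊗_{A^G} B` -/
noncomputable def gam (g : G) : KK R A G B →ₐ[R] KK R A G B :=
  { (Algebra.TensorProduct.map (sig R A G g) (AlgHom.id (inv R A G) B)).toRingHom with
    commutes' := fun r => by
      change (Algebra.TensorProduct.map (sig R A G g) (AlgHom.id (inv R A G) B))
        (algebraMap R A r ⊗ₜ 1) = algebraMap R A r ⊗ₜ 1
      rw [Algebra.TensorProduct.map_tmul, sig_apply, smul_algebraMap]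
      rfl }

theorem gam_apply (g : G) (z : KK R A G B) :
    gam R A G B g z = Algebra.TensorProduct.map (sig R A G g) (AlgHom.id (inv R A G) B) z := rfl

/-- `Spec (A ⊗_{A^G} B)` over `Spec R` -/
noncomputable abbrev TK : Over (Spec (CommRingCat.of R)) := CoactBr.sp R (KK R A G B)

/-- the projection to `Spec A` -/
noncomputable def xK : TK R A G B ⟶ X R A :=
  CoactBr.pt (Algebra.TensorProduct.includeLeft : A →ₐ[R] KK R A G B)

/-- `b ↦ 1 ⊗ b` as a ring homomorphism -/
noncomputable def inclR : B →+* KK R A G B :=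
  (Algebra.TensorProduct.includeRight : B →ₐ[inv R A G] KK R A G B).toRingHom

@[simp] theorem inclR_apply (b : B) : inclR R A G B b = (1 : A) ⊗ₜ[inv R A G] b := rfl

theorem inclR_comp_algebraMap :
    (inclR R A G B).comp ((algebraMap (inv R A G) B).comp (algebraMap R (inv R A G))) =
      algebraMap R (KK R A G B) := by
  ext r
  change (1 : A) ⊗ₜ[inv R A G] (algebraMap (inv R A G) B (algebraMap R (inv R A G) r)) =
    algebraMap R A r ⊗ₜ[inv R A G] (1 : B)
  rw [Algebra.algebraMap_eq_smul_one (algebraMap R (inv R A G) r), ← TensorProduct.smul_tmul,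
    ← Algebra.algebraMap_eq_smul_one]
  rfl

theorem inclL_comp_val :
    (Algebra.TensorProduct.includeLeft : A →ₐ[R] KK R A G B).toRingHom.comp
      (inv R A G).val.toRingHom = (inclR R A G B).comp (algebraMap (inv R A G) B) := by
  ext a₀
  change ((a₀ : A) ⊗ₜ[inv R A G] (1 : B)) = (1 : A) ⊗ₜ[inv R A G] (algebraMap (inv R A G) B a₀)
  rw [Algebra.algebraMap_eq_smul_one a₀, ← TensorProduct.smul_tmul,
    ← Algebra.algebraMap_eq_smul_one]
  rfl

variable {R A G}
variable (E₀ : Over (Spec (CommRingCat.of R))) (e : E₀ ⟶ specInv R A G)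
  (j : Spec (CommRingCat.of B) ⟶ E₀.left)
  (hj : j ≫ e.left = Spec.map (CommRingCat.ofHom (algebraMap (inv R A G) B)))

include hj in
theorem aK_aux : (Spec.map (CommRingCat.ofHom (inclR R A G B)) ≫ j) ≫ E₀.hom =
    (TK R A G B).hom := by
  have h1 : E₀.hom = e.left ≫ Spec.map (CommRingCat.ofHom (algebraMap R (inv R A G))) :=
    (Over.w e).symm
  rw [h1, Category.assoc, reassoc_of% hj, ← Spec.map_comp, ← Spec.map_comp,
    ← CommRingCat.ofHom_comp, ← CommRingCat.ofHom_comp, inclR_comp_algebraMap]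
  rfl

/-- the projection to `E₀` -/
noncomputable def aK : TK R A G B ⟶ E₀ :=
  Over.homMk (Spec.map (CommRingCat.ofHom (inclR R A G B)) ≫ j) (aK_aux B E₀ e j hj)

theorem xK_quot : xK R A G B ≫ quot R A G = aK B E₀ e j hj ≫ e := by
  apply Over.OverMorphism.ext
  change Spec.map (CommRingCat.ofHom
      (Algebra.TensorProduct.includeLeft : A →ₐ[R] KK R A G B).toRingHom) ≫
    Spec.map (CommRingCat.ofHom (inv R A G).val.toRingHom) =
    (Spec.map (CommRingCat.ofHom (inclR R A G B)) ≫ j) ≫ e.left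
  rw [Category.assoc, hj, ← Spec.map_comp, ← Spec.map_comp, ← CommRingCat.ofHom_comp,
    ← CommRingCat.ofHom_comp, inclL_comp_val]

end chart

section system

variable {R A G}
variable (E₀ : Over (Spec (CommRingCat.of R))) (e : E₀ ⟶ specInv R A G)
  (v : ∀ (T : Over (Spec (CommRingCat.of R))) (x : T ⟶ X R A) (a : T ⟶ E₀),
    x ≫ quot R A G = a ≫ e → Γ(T.left, ⊤))
  (hv : ∀ (T' T : Over (Spec (CommRingCat.of R))) (f : T' ⟶ T) (g : T' ⟶ GR R G)
    (x : T ⟶ X R A) (x' : T' ⟶ X R A) (_ : lift g (f ≫ x) ≫ (gaction R A G).act = x')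
    (a : T ⟶ E₀) (h : x ≫ quot R A G = a ≫ e) (h' : x' ≫ quot R A G = (f ≫ a) ≫ e),
    v T' x' (f ≫ a) h' = f.left.appTop (v T x a h))

omit [Fintype G] [DecidableEq G] in
theorem v_congr {T : Over (Spec (CommRingCat.of R))} (x x' : T ⟶ X R A) (a a' : T ⟶ E₀)
    (hx : x = x') (ha : a = a') (h : x ≫ quot R A G = a ≫ e) (h' : x' ≫ quot R A G = a' ≫ e) :
    v T x a h = v T x' a' h' := by
  subst hx ha
  rfl

include hv in
theorem v_pull {T' T : Over (Spec (CommRingCat.of R))} (f : T' ⟶ T) (x : T ⟶ X R A)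
    (a : T ⟶ E₀) (h : x ≫ quot R A G = a ≫ e) (h' : (f ≫ x) ≫ quot R A G = (f ≫ a) ≫ e) :
    v T' (f ≫ x) (f ≫ a) h' = f.left.appTop (v T x a h) :=
  hv T' T f 1 x (f ≫ x) (Groth.Agent.H64.Quot.act_one_pt (aX := gaction R A G) (f ≫ x)) a h h'

include hv in
theorem v_act {K' : Type u} [CommRing K'] [Algebra R K'] (φ : A →ₐ[R] K') (g₀ : G)
    (a : CoactBr.sp R K' ⟶ E₀) (h : CoactBr.pt φ ≫ quot R A G = a ≫ e)
    (h' : (CoactBr.pt φ ≫ act R A G g₀) ≫ quot R A G = a ≫ e) :
    v _ (CoactBr.pt φ ≫ act R A G g₀) a h' = v _ (CoactBr.pt φ) a h := by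
  have hg : lift (CoactBr.pt (constPt R G (K := K') g₀⁻¹)) (𝟙 _ ≫ CoactBr.pt φ) ≫
      (gaction R A G).act = CoactBr.pt φ ≫ act R A G g₀ := by
    rw [Category.id_comp, gaction_constPt, _root_.inv_inv]
  have h'' : (CoactBr.pt φ ≫ act R A G g₀) ≫ quot R A G = (𝟙 _ ≫ a) ≫ e := by
    rw [Category.id_comp]
    exact h'
  have h1 := hv _ _ (𝟙 (CoactBr.sp R K')) (CoactBr.pt (constPt R G (K := K') g₀⁻¹))
    (CoactBr.pt φ) (CoactBr.pt φ ≫ act R A G g₀) hg a h h''
  have h2 : (𝟙 (CoactBr.sp R K') : CoactBr.sp R K' ⟶ CoactBr.sp R K').left.appTop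
      (v _ (CoactBr.pt φ) a h) = v _ (CoactBr.pt φ) a h := by
    rw [Over.id_left, Scheme.Hom.id_appTop]
    rfl
  rw [h2] at h1
  rw [← h1]
  exact v_congr E₀ e v _ _ _ _ rfl (Category.id_comp a).symm _ _

section chartv

variable (B : Type u) [CommRing B] [Algebra (inv R A G) B]
  (j : Spec (CommRingCat.of B) ⟶ E₀.left)
  (hj : j ≫ e.left = Spec.map (CommRingCat.ofHom (algebraMap (inv R A G) B)))

/-- the value of the system on the chart -/
noncomputable def fK : Γ(Spec (CommRingCat.of (KK R A G B)), ⊤) :=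
  v (TK R A G B) (xK R A G B) (aK B E₀ e j hj) (xK_quot B E₀ e j hj)

/-- the value of the system on the chart, as an element of `A ⊗ B` -/
noncomputable def fK' : KK R A G B :=
  (Scheme.ΓSpecIso (CommRingCat.of (KK R A G B))).hom (fK E₀ e v B j hj)

theorem gam_comp_inclL (g : G) :
    (gam R A G B g).comp (Algebra.TensorProduct.includeLeft : A →ₐ[R] KK R A G B) =
      (Algebra.TensorProduct.includeLeft : A →ₐ[R] KK R A G B).comp
        (MulSemiringAction.toAlgEquiv R A g : A →ₐ[R] A) := by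
  ext a
  change Algebra.TensorProduct.map (sig R A G g) (AlgHom.id (inv R A G) B)
    (a ⊗ₜ[inv R A G] (1 : B)) = (g • a) ⊗ₜ[inv R A G] (1 : B)
  rw [Algebra.TensorProduct.map_tmul]
  rfl

theorem gam_comp_inclR (g : G) :
    (gam R A G B g).toRingHom.comp (inclR R A G B) = inclR R A G B := by
  ext b
  change Algebra.TensorProduct.map (sig R A G g) (AlgHom.id (inv R A G) B)
    ((1 : A) ⊗ₜ[inv R A G] b) = (1 : A) ⊗ₜ[inv R A G] b
  rw [Algebra.TensorProduct.map_tmul, map_one]
  rfl

theorem pt_gam_xK (g : G) :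
    CoactBr.pt (gam R A G B g) ≫ xK R A G B = xK R A G B ≫ act R A G g := by
  unfold xK
  rw [← CoactBr.pt_comp, gam_comp_inclL, pt_comp_toAlgEquiv]

theorem pt_gam_aK (g : G) :
    CoactBr.pt (gam R A G B g) ≫ aK B E₀ e j hj = aK B E₀ e j hj := by
  apply Over.OverMorphism.ext
  change Spec.map (CommRingCat.ofHom (gam R A G B g).toRingHom) ≫
    (Spec.map (CommRingCat.ofHom (inclR R A G B)) ≫ j) =
    Spec.map (CommRingCat.ofHom (inclR R A G B)) ≫ j
  rw [← Category.assoc, ← Spec.map_comp, ← CommRingCat.ofHom_comp, gam_comp_inclR]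

include hv in
theorem fK_invariant (g : G) :
    (CoactBr.pt (gam R A G B g)).left.appTop (fK E₀ e v B j hj) = fK E₀ e v B j hj := by
  have h1 : (CoactBr.pt (gam R A G B g) ≫ xK R A G B) ≫ quot R A G =
      (CoactBr.pt (gam R A G B g) ≫ aK B E₀ e j hj) ≫ e :=
    (Category.assoc _ _ _).trans ((congrArg (fun t => CoactBr.pt (gam R A G B g) ≫ t)
      (xK_quot B E₀ e j hj)).trans (Category.assoc _ _ _).symm)
  have h2 := v_pull E₀ e v hv (CoactBr.pt (gam R A G B g)) (xK R A G B) (aK B E₀ e j hj)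
    (xK_quot B E₀ e j hj) h1
  have h3 : (xK R A G B ≫ act R A G g) ≫ quot R A G = aK B E₀ e j hj ≫ e :=
    (Category.assoc _ _ _).trans ((congrArg (fun t => xK R A G B ≫ t)
      (act_quot R A G g)).trans (xK_quot B E₀ e j hj))
  have h4 := v_act E₀ e v hv (Algebra.TensorProduct.includeLeft : A →ₐ[R] KK R A G B) g
    (aK B E₀ e j hj) (xK_quot B E₀ e j hj) h3
  have h5 := v_congr E₀ e v _ _ _ _ (pt_gam_xK B g) (pt_gam_aK E₀ e B j hj g) h1 h3
  exact h2.symm.trans (h5.trans h4)

include hv in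
theorem fK'_invariant (g : G) :
    Algebra.TensorProduct.map (sig R A G g) (AlgHom.id (inv R A G) B) (fK' E₀ e v B j hj) =
      fK' E₀ e v B j hj := by
  have h1 := fK_invariant E₀ e v hv B j hj g
  have h2 := Scheme.ΓSpecIso_naturality (CommRingCat.ofHom (gam R A G B g).toRingHom)
  have h3 := congrArg (fun t => t.hom (fK E₀ e v B j hj)) h2
  simp only [CommRingCat.hom_comp, RingHom.comp_apply] at h3
  unfold fK'
  exact h3.symm.trans (congrArg
    (fun t => (Scheme.ΓSpecIso (CommRingCat.of (KK R A G B))).hom t) h1)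

section flat

variable [Module.Flat (inv R A G) B]

include hv in
theorem exists_rOf : ∃ b : B, fK' E₀ e v B j hj = (1 : A) ⊗ₜ[inv R A G] b :=
  exists_of_invariant (sig R A G) (mem_range_of_sig R A G) _ (fK'_invariant E₀ e v hv B j hj)

/-- the function on the chart `Spec B` of `E₀` defined by the system -/
noncomputable def rOf : B := (exists_rOf E₀ e v hv B j hj).choose

theorem fK'_eq : fK' E₀ e v B j hj = inclR R A G B (rOf E₀ e v hv B j hj) :=
  (exists_rOf E₀ e v hv B j hj).choose_spec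

theorem inclR_injective : Function.Injective (inclR R A G B) :=
  Algebra.TensorProduct.includeRight_injective (algebraMap_inv_injective R A G)

theorem ΓSpecIso_aK_appTop (r : Γ(E₀.left, ⊤)) :
    (Scheme.ΓSpecIso (CommRingCat.of (KK R A G B))).hom ((aK B E₀ e j hj).left.appTop r) =
      inclR R A G B ((Scheme.ΓSpecIso (CommRingCat.of B)).hom (j.appTop r)) := by
  have h1 : (aK B E₀ e j hj).left = Spec.map (CommRingCat.ofHom (inclR R A G B)) ≫ j := rfl
  rw [h1, Scheme.Hom.comp_appTop]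
  have h2 := Scheme.ΓSpecIso_naturality (CommRingCat.ofHom (inclR R A G B))
  have h3 := congrArg (fun t => t.hom (j.appTop r)) h2
  exact h3

theorem fK_eq_of (r : Γ(E₀.left, ⊤))
    (hr : (Scheme.ΓSpecIso (CommRingCat.of B)).hom (j.appTop r) = rOf E₀ e v hv B j hj) :
    fK E₀ e v B j hj = (aK B E₀ e j hj).left.appTop r := by
  have hinj : Function.Injective (Scheme.ΓSpecIso (CommRingCat.of (KK R A G B))).hom :=
    (ConcreteCategory.bijective_of_isIso _).1
  apply hinj
  rw [ΓSpecIso_aK_appTop, hr, ← fK'_eq]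
  rfl

theorem rOf_eq_of (r : Γ(E₀.left, ⊤))
    (h : fK E₀ e v B j hj = (aK B E₀ e j hj).left.appTop r) :
    (Scheme.ΓSpecIso (CommRingCat.of B)).hom (j.appTop r) = rOf E₀ e v hv B j hj := by
  apply inclR_injective (R := R) (A := A) (G := G) B
  rw [← ΓSpecIso_aK_appTop E₀ e B j hj, ← h, ← fK'_eq]
  rfl

end flat

end chartv

section compat

variable (B B' : Type u) [CommRing B] [CommRing B'] [Algebra (inv R A G) B]
  [Algebra (inv R A G) B'] [Module.Flat (inv R A G) B] [Module.Flat (inv R A G) B']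
  (j : Spec (CommRingCat.of B) ⟶ E₀.left)
  (hj : j ≫ e.left = Spec.map (CommRingCat.ofHom (algebraMap (inv R A G) B)))
  (j' : Spec (CommRingCat.of B') ⟶ E₀.left)
  (hj' : j' ≫ e.left = Spec.map (CommRingCat.ofHom (algebraMap (inv R A G) B')))
  (ρ : B →ₐ[inv R A G] B') (hρ : Spec.map (CommRingCat.ofHom ρ.toRingHom) ≫ j = j')

/-- `id ⊗ ρ` as an `R`-algebra homomorphism -/
noncomputable def kap : KK R A G B →ₐ[R] KK R A G B' :=
  { (Algebra.TensorProduct.map (AlgHom.id (inv R A G) A) ρ).toRingHom with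
    commutes' := fun r => by
      change (Algebra.TensorProduct.map (AlgHom.id (inv R A G) A) ρ)
        (algebraMap R A r ⊗ₜ 1) = algebraMap R A r ⊗ₜ 1
      rw [Algebra.TensorProduct.map_tmul, map_one]
      rfl }

theorem kap_comp_inclL :
    (kap B B' ρ).comp (Algebra.TensorProduct.includeLeft : A →ₐ[R] KK R A G B) =
      (Algebra.TensorProduct.includeLeft : A →ₐ[R] KK R A G B') := by
  ext a
  change Algebra.TensorProduct.map (AlgHom.id (inv R A G) A) ρ
    (a ⊗ₜ[inv R A G] (1 : B)) = a ⊗ₜ[inv R A G] (1 : B')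
  rw [Algebra.TensorProduct.map_tmul, map_one]
  rfl

theorem kap_comp_inclR :
    (kap (R := R) (A := A) (G := G) B B' ρ).toRingHom.comp (inclR R A G B) =
      (inclR R A G B').comp ρ.toRingHom := by
  ext b
  change Algebra.TensorProduct.map (AlgHom.id (inv R A G) A) ρ
    ((1 : A) ⊗ₜ[inv R A G] b) = (1 : A) ⊗ₜ[inv R A G] ρ b
  rw [Algebra.TensorProduct.map_tmul, map_one]

theorem pt_kap_xK : CoactBr.pt (kap (R := R) (A := A) (G := G) B B' ρ) ≫ xK R A G B =
    xK R A G B' := by
  unfold xK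
  rw [← CoactBr.pt_comp, kap_comp_inclL]

include hρ in
theorem pt_kap_aK : CoactBr.pt (kap (R := R) (A := A) (G := G) B B' ρ) ≫ aK B E₀ e j hj =
    aK B' E₀ e j' hj' := by
  apply Over.OverMorphism.ext
  change Spec.map (CommRingCat.ofHom (kap (R := R) (A := A) (G := G) B B' ρ).toRingHom) ≫
    (Spec.map (CommRingCat.ofHom (inclR R A G B)) ≫ j) =
    Spec.map (CommRingCat.ofHom (inclR R A G B')) ≫ j'
  rw [← Category.assoc, ← Spec.map_comp, ← CommRingCat.ofHom_comp, kap_comp_inclR,
    CommRingCat.ofHom_comp, Spec.map_comp, Category.assoc, hρ]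

include hv hρ in
theorem fK_compat : fK E₀ e v B' j' hj' =
    (CoactBr.pt (kap (R := R) (A := A) (G := G) B B' ρ)).left.appTop (fK E₀ e v B j hj) := by
  have h1 : (CoactBr.pt (kap (R := R) (A := A) (G := G) B B' ρ) ≫ xK R A G B) ≫ quot R A G =
      (CoactBr.pt (kap (R := R) (A := A) (G := G) B B' ρ) ≫ aK B E₀ e j hj) ≫ e :=
    (Category.assoc _ _ _).trans ((congrArg
      (fun t => CoactBr.pt (kap (R := R) (A := A) (G := G) B B' ρ) ≫ t)
      (xK_quot B E₀ e j hj)).trans (Category.assoc _ _ _).symm)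
  have h2 := v_pull E₀ e v hv (CoactBr.pt (kap (R := R) (A := A) (G := G) B B' ρ))
    (xK R A G B) (aK B E₀ e j hj) (xK_quot B E₀ e j hj) h1
  have h3 := v_congr E₀ e v _ _ _ _ (pt_kap_xK B B' ρ) (pt_kap_aK E₀ e B B' j hj j' hj' ρ hρ)
    h1 (xK_quot B' E₀ e j' hj')
  exact h3.symm.trans h2

include hρ in
theorem rOf_compat : rOf E₀ e v hv B' j' hj' = ρ (rOf E₀ e v hv B j hj) := by
  apply inclR_injective (R := R) (A := A) (G := G) B'
  rw [← fK'_eq]
  have h1 := fK_compat E₀ e v hv B B' j hj j' hj' ρ hρ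
  have h2 := Scheme.ΓSpecIso_naturality
    (CommRingCat.ofHom (kap (R := R) (A := A) (G := G) B B' ρ).toRingHom)
  have h3 := congrArg (fun t => t.hom (fK E₀ e v B j hj)) h2
  simp only [CommRingCat.hom_comp, RingHom.comp_apply] at h3
  have h4 : fK' E₀ e v B' j' hj' =
      kap (R := R) (A := A) (G := G) B B' ρ (fK' E₀ e v B j hj) :=
    (congrArg (fun t => (Scheme.ΓSpecIso (CommRingCat.of (KK R A G B'))).hom t) h1).trans h3
  rw [h4, fK'_eq E₀ e v hv B j hj]
  change Algebra.TensorProduct.map (AlgHom.id (inv R A G) A) ρ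
    ((1 : A) ⊗ₜ[inv R A G] (rOf E₀ e v hv B j hj)) = _
  rw [Algebra.TensorProduct.map_tmul, map_one]
  rfl

end compat

section lift

variable (B : Type u) [CommRing B] [Algebra (inv R A G) B] [Module.Flat (inv R A G) B]
  (j : Spec (CommRingCat.of B) ⟶ E₀.left)
  (hj : j ≫ e.left = Spec.map (CommRingCat.ofHom (algebraMap (inv R A G) B)))
  (r : Γ(E₀.left, ⊤))
  (hr : (Scheme.ΓSpecIso (CommRingCat.of B)).hom (j.appTop r) = rOf E₀ e v hv B j hj)
  {T : Over (Spec (CommRingCat.of R))} (x : T ⟶ X R A) (a : T ⟶ E₀)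
  (h : x ≫ quot R A G = a ≫ e)
  (W : T.left.Opens) (a' : (W : Scheme.{u}) ⟶ Spec (CommRingCat.of B))
  (ha' : a' ≫ j = W.ι ≫ a.left)

include hr ha' in
theorem v_res_eq : W.ι.appTop (v T x a h) = W.ι.appTop (a.left.appTop r) := by
  let TW : Over (Spec (CommRingCat.of R)) := Over.mk (W.ι ≫ T.hom)
  let uW : TW ⟶ T := Over.homMk W.ι rfl
  have hpb : IsPullback
      (Spec.map (CommRingCat.ofHom (S := KK R A G B) Algebra.TensorProduct.includeLeftRingHom))
      (Spec.map (CommRingCat.ofHom (S := KK R A G B)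
        (Algebra.TensorProduct.includeRight : B →ₐ[inv R A G] KK R A G B).toRingHom))
      (Spec.map (CommRingCat.ofHom (algebraMap (inv R A G) A)))
      (Spec.map (CommRingCat.ofHom (algebraMap (inv R A G) B))) :=
    isPullback_SpecMap_of_isPushout _ _ _ _ (CommRingCat.isPushout_tensorProduct (inv R A G) A B)
  have hl : x.left ≫ Spec.map (CommRingCat.ofHom (algebraMap (inv R A G) A)) =
      a.left ≫ e.left := congrArg CommaMorphism.left h
  have cond : (W.ι ≫ x.left) ≫ Spec.map (CommRingCat.ofHom (algebraMap (inv R A G) A)) =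
      a' ≫ Spec.map (CommRingCat.ofHom (algebraMap (inv R A G) B)) := by
    have c2 : W.ι ≫ a.left ≫ e.left =
        a' ≫ Spec.map (CommRingCat.ofHom (algebraMap (inv R A G) B)) := by
      rw [← Category.assoc, ← ha', Category.assoc, hj]
    exact (Category.assoc _ _ _).trans ((congrArg (fun t => W.ι ≫ t) hl).trans c2)
  let nl : (W : Scheme.{u}) ⟶ Spec (CommRingCat.of (KK R A G B)) := hpb.lift _ _ cond
  have hn1 : nl ≫ Spec.map (CommRingCat.ofHom (S := KK R A G B)
      Algebra.TensorProduct.includeLeftRingHom) = W.ι ≫ x.left := hpb.lift_fst _ _ cond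
  have hn2 : nl ≫ Spec.map (CommRingCat.ofHom (inclR R A G B)) = a' := hpb.lift_snd _ _ cond
  have hTK : (TK R A G B).hom = Spec.map (CommRingCat.ofHom (S := KK R A G B)
      Algebra.TensorProduct.includeLeftRingHom) ≫ Spec.map (CommRingCat.ofHom (algebraMap R A)) := by
    rw [← Spec.map_comp, ← CommRingCat.ofHom_comp]
    rfl
  let n : TW ⟶ TK R A G B := Over.homMk nl (by
    change nl ≫ (TK R A G B).hom = W.ι ≫ T.hom
    rw [hTK, reassoc_of% hn1, ← Over.w x]
    rfl)
  have hnx : n ≫ xK R A G B = uW ≫ x := by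
    apply Over.OverMorphism.ext
    exact hn1
  have hna : n ≫ aK B E₀ e j hj = uW ≫ a := by
    apply Over.OverMorphism.ext
    change nl ≫ Spec.map (CommRingCat.ofHom (inclR R A G B)) ≫ j = W.ι ≫ a.left
    rw [reassoc_of% hn2, ha']
  have h1 : (uW ≫ x) ≫ quot R A G = (uW ≫ a) ≫ e :=
    (Category.assoc _ _ _).trans ((congrArg (fun t => uW ≫ t) h).trans
      (Category.assoc _ _ _).symm)
  have h2 : (n ≫ xK R A G B) ≫ quot R A G = (n ≫ aK B E₀ e j hj) ≫ e :=
    (Category.assoc _ _ _).trans ((congrArg (fun t => n ≫ t) (xK_quot B E₀ e j hj)).trans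
      (Category.assoc _ _ _).symm)
  have e1 := v_pull E₀ e v hv uW x a h h1
  have e2 := v_pull E₀ e v hv n (xK R A G B) (aK B E₀ e j hj) (xK_quot B E₀ e j hj) h2
  have e3 := v_congr E₀ e v _ _ _ _ hnx hna h2 h1
  have e4 : fK E₀ e v B j hj = (aK B E₀ e j hj).left.appTop r := fK_eq_of E₀ e v hv B j hj r hr
  have e5 : n.left.appTop ((aK B E₀ e j hj).left.appTop r) = uW.left.appTop (a.left.appTop r) := by
    have := congrArg (fun t : TW ⟶ E₀ => t.left.appTop r) hna
    simp only [Over.comp_left, Scheme.Hom.comp_appTop] at this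
    exact this
  have e6 : uW.left.appTop (v T x a h) = n.left.appTop (fK E₀ e v B j hj) :=
    e1.symm.trans (e3.symm.trans e2)
  rw [e4, e5] at e6
  exact e6

end lift

end system

end Groth.Agent.H64.ConstInv
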