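import Groth.Agent.H64.Quot.ConstInv
import Groth.Agent.H64.Quot.AffGlue

set_option autoImplicit false
universe u
open CategoryTheory CategoryTheory.Limits AlgebraicGeometry Opposite TensorProduct
open MonoidalCategory CartesianMonoidalCategory MonObj GrpObj

/-! The charts of `E₀` given by its affine opens, and the gluing. -/

namespace Groth.Agent.H64.ConstInv

open ConstAct

variable {R : Type u} [CommRing R] {A : Type u} [CommRing A] [Algebra R A]
  {G : Type u} [Group G] [Fintype G] [DecidableEq G] [MulSemiringAction G A] [SMulCommClass G R A]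
variable (E₀ : Over (Spec (CommRingCat.of R))) (e : E₀ ⟶ specInv R A G)

section affchart

variable {E : Scheme.{u}} (el : E ⟶ Spec (CommRingCat.of (inv R A G))) (U : E.Opens)

/-- `A^G ⟶ Γ(E, U)` -/
noncomputable def rhoU : (inv R A G) →+* Γ(E, U) :=
  ((Scheme.ΓSpecIso (CommRingCat.of (inv R A G))).inv ≫ el.appLE ⊤ U le_top).hom

/-- `Γ(E, U)` as an algebra over `A^G` -/
@[reducible] noncomputable def algU : Algebra (inv R A G) Γ(E, U) := (rhoU el U).toAlgebra

omit [Fintype G] [DecidableEq G] in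
theorem flatU [Flat el] (hU : IsAffineOpen U) :
    @Module.Flat (inv R A G) Γ(E, U) _ _ (algU el U).toModule := by
  have h1 : RingHom.Flat (el.appLE ⊤ U le_top).hom :=
    HasRingHomProperty.appLE (P := @Flat) el inferInstance ⟨⊤, isAffineOpen_top _⟩ ⟨U, hU⟩ le_top
  have h2 : RingHom.Flat (Scheme.ΓSpecIso (CommRingCat.of (inv R A G))).inv.hom :=
    RingHom.Flat.of_bijective (ConcreteCategory.bijective_of_isIso _)
  exact RingHom.Flat.comp h2 h1

omit [Fintype G] [DecidableEq G] in
theorem hjU (hU : IsAffineOpen U) :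
    hU.fromSpec ≫ el = Spec.map (CommRingCat.ofHom (rhoU el U)) := by
  have h1 := IsAffineOpen.SpecMap_appLE_fromSpec el (isAffineOpen_top _) hU le_top
  rw [← h1, IsAffineOpen.fromSpec_top, Scheme.isoSpec_Spec_inv, ← Spec.map_comp]
  rfl

end affchart

section glue

variable [Flat e.left]
  (v : ∀ (T : Over (Spec (CommRingCat.of R))) (x : T ⟶ X R A) (a : T ⟶ E₀),
    x ≫ quot R A G = a ≫ e → Γ(T.left, ⊤))
  (hv : ∀ (T' T : Over (Spec (CommRingCat.of R))) (f : T' ⟶ T) (g : T' ⟶ GR R G)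
    (x : T ⟶ X R A) (x' : T' ⟶ X R A) (_ : lift g (f ≫ x) ≫ (gaction R A G).act = x')
    (a : T ⟶ E₀) (h : x ≫ quot R A G = a ≫ e) (h' : x' ≫ quot R A G = (f ≫ a) ≫ e),
    v T' x' (f ≫ a) h' = f.left.appTop (v T x a h))

/-- the function on the affine open `U` of `E₀` defined by the system -/
noncomputable def rU (U : E₀.left.Opens) (hU : IsAffineOpen U) : Γ(E₀.left, U) :=
  letI := algU (R := R) (A := A) (G := G) (E := E₀.left) e.left U
  haveI := flatU (R := R) (A := A) (G := G) (E := E₀.left) e.left U hU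
  rOf E₀ e v hv Γ(E₀.left, U) hU.fromSpec (hjU (R := R) (A := A) (G := G) e.left U hU)

theorem rU_compat (U V : E₀.left.Opens) (hU : IsAffineOpen U) (hV : IsAffineOpen V)
    (hi : V ≤ U) :
    E₀.left.presheaf.map (homOfLE hi).op (rU E₀ e v hv U hU) = rU E₀ e v hv V hV := by
  letI := algU (R := R) (A := A) (G := G) (E := E₀.left) e.left U
  haveI := flatU (R := R) (A := A) (G := G) (E := E₀.left) e.left U hU
  letI := algU (R := R) (A := A) (G := G) (E := E₀.left) e.left V
  haveI := flatU (R := R) (A := A) (G := G) (E := E₀.left) e.left V hV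
  let ρ : Γ(E₀.left, U) →ₐ[inv R A G] Γ(E₀.left, V) :=
    { (E₀.left.presheaf.map (homOfLE hi).op).hom with
      commutes' := fun a₀ => by
        have h1 := Scheme.Hom.appLE_map e.left (U := ⊤) (V := U) le_top (homOfLE hi).op
        have h2 := congrArg (fun t => t.hom
          ((Scheme.ΓSpecIso (CommRingCat.of (inv R A G))).inv.hom a₀)) h1
        exact h2 }
  have hρ : Spec.map (CommRingCat.ofHom ρ.toRingHom) ≫ hU.fromSpec = hV.fromSpec :=
    hU.map_fromSpec hV (homOfLE hi).op
  exact (rOf_compat E₀ e v hv Γ(E₀.left, U) Γ(E₀.left, V) hU.fromSpec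
    (hjU (R := R) (A := A) (G := G) e.left U hU) hV.fromSpec
    (hjU (R := R) (A := A) (G := G) e.left V hV) ρ hρ).symm

omit [Fintype G] [DecidableEq G] in
theorem fromSpec_appTop_eq {Y : Scheme.{u}} {U : Y.Opens} (hU : IsAffineOpen U) (r : Γ(Y, ⊤)) :
    (Scheme.ΓSpecIso Γ(Y, U)).hom (hU.fromSpec.appTop r) =
      Y.presheaf.map (homOfLE le_top).op r := by
  have h1 := hU.fromSpec_app_of_le ⊤ le_top
  have h2 : (Spec Γ(Y, U)).presheaf.map
      (homOfLE (le_top : hU.fromSpec ⁻¹ᵁ ⊤ ≤ ⊤)).op = 𝟙 _ := by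
    have : (homOfLE (le_top : hU.fromSpec ⁻¹ᵁ ⊤ ≤ ⊤)) = 𝟙 (⊤ : (Spec Γ(Y, U)).Opens) :=
      Subsingleton.elim _ _
    rw [this]
    exact (Spec Γ(Y, U)).presheaf.map_id _
  have h3 : hU.fromSpec.appTop = Y.presheaf.map (homOfLE le_top).op ≫
      (Scheme.ΓSpecIso Γ(Y, U)).inv := by
    change hU.fromSpec.app ⊤ = _
    rw [h1, h2]
    rfl
  have h4 := congrArg (fun t => (t ≫ (Scheme.ΓSpecIso Γ(Y, U)).hom).hom r) h3
  simp only [Category.assoc, Iso.inv_hom_id, Category.comp_id] at h4
  exact h4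

include hv in
/-- a system of functions compatible with pullback and with the action of `G` comes from a
unique function on `E₀` -/
theorem existsUnique_of_system :
    ∃! r : Γ(E₀.left, ⊤), ∀ (T : Over (Spec (CommRingCat.of R))) (x : T ⟶ X R A) (a : T ⟶ E₀)
      (h : x ≫ quot R A G = a ≫ e), v T x a h = a.left.appTop r := by
  obtain ⟨r, hr⟩ := Groth.Agent.H64.Quot.exists_glue_affine E₀.left (rU E₀ e v hv)
    (fun V V' hV hV' hi => rU_compat E₀ e v hv V V' hV hV' hi)
  have hrU : ∀ (U : E₀.left.Opens) (hU : IsAffineOpen U),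
      (Scheme.ΓSpecIso Γ(E₀.left, U)).hom (hU.fromSpec.appTop r) = rU E₀ e v hv U hU :=
    fun U hU => (fromSpec_appTop_eq hU r).trans (hr U hU)
  refine ⟨r, ?_, ?_⟩
  · intro T x a h
    refine Groth.Agent.H64.Quot.eq_of_forall_appTop_eq
      (Presieve.ofArrows (fun U : {U : E₀.left.Opens // IsAffineOpen U} =>
        ((a.left ⁻¹ᵁ U.1 : T.left.Opens) : Scheme.{u}))
        (fun U => (a.left ⁻¹ᵁ U.1).ι)) ?_ _ _ ?_
    · refine (Scheme.ofArrows_mem_precoverage_iff (P := @Flat)).mpr ⟨?_, ?_⟩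
      · intro t
        obtain ⟨U, hU, htU, -⟩ := TopologicalSpace.Opens.isBasis_iff_nbhd.mp
          E₀.left.isBasis_affineOpens (TopologicalSpace.Opens.mem_top (a.left t))
        refine ⟨⟨U, hU⟩, ?_⟩
        rw [Scheme.Opens.range_ι]
        exact htU
      · intro U
        infer_instance
    · rintro V f ⟨U⟩
      letI := algU (R := R) (A := A) (G := G) (E := E₀.left) e.left U.1
      haveI := flatU (R := R) (A := A) (G := G) (E := E₀.left) e.left U.1 U.2
      refine v_res_eq E₀ e v hv Γ(E₀.left, U.1) U.2.fromSpec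
        (hjU (R := R) (A := A) (G := G) e.left U.1 U.2) r (hrU U.1 U.2) x a h
        (a.left ⁻¹ᵁ U.1) ((a.left ∣_ U.1) ≫ U.2.isoSpec.hom) ?_
      exact (Category.assoc _ _ _).trans ((congrArg (fun t => (a.left ∣_ U.1) ≫ t)
        U.2.isoSpec_hom_fromSpec).trans (morphismRestrict_ι _ _))
  · intro r' hr'
    refine Groth.Agent.H64.Quot.eq_of_forall_appTop_eq
      (Presieve.ofArrows (fun U : {U : E₀.left.Opens // IsAffineOpen U} => Spec Γ(E₀.left, U.1))
        (fun U => U.2.fromSpec)) ?_ r' r ?_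
    · refine (Scheme.ofArrows_mem_precoverage_iff (P := @Flat)).mpr ⟨?_, ?_⟩
      · intro y
        obtain ⟨U, hU, hyU, -⟩ := TopologicalSpace.Opens.isBasis_iff_nbhd.mp
          E₀.left.isBasis_affineOpens (TopologicalSpace.Opens.mem_top y)
        refine ⟨⟨U, hU⟩, ?_⟩
        have hU' : IsAffineOpen U := hU
        rw [hU'.range_fromSpec]
        exact hyU
      · intro U
        infer_instance
    · rintro V f ⟨U⟩
      letI := algU (R := R) (A := A) (G := G) (E := E₀.left) e.left U.1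
      haveI := flatU (R := R) (A := A) (G := G) (E := E₀.left) e.left U.1 U.2
      have hinj : Function.Injective (Scheme.ΓSpecIso Γ(E₀.left, U.1)).hom :=
        (ConcreteCategory.bijective_of_isIso _).1
      apply hinj
      have h1 := rOf_eq_of E₀ e v hv Γ(E₀.left, U.1) U.2.fromSpec
        (hjU (R := R) (A := A) (G := G) e.left U.1 U.2) r' (hr' _ _ _ _)
      exact h1.trans (hrU U.1 U.2).symm

end glue

end Groth.Agent.H64.ConstInv
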