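import Groth.Agent.H64.Quot.Basic
import Groth.Agent.H64.Stk.PshStack

set_option autoImplicit false
universe u
open CategoryTheory CategoryTheory.Limits MonoidalCategory CartesianMonoidalCategory MonObj GrpObj
  AlgebraicGeometry Opposite

/-! Invariant maps from `X` to a sheaf descend to `[X/G]`. -/

namespace Groth.Agent.H64.Quot

open AlgSt

variable {S : Scheme.{u}} {K : Precoverage Scheme.{u}} {G : Over S} [GrpObj G] {X : Over S}
  {aX : AlgGrp.Action G X}

/-- the sieve of morphisms to the base of a torsor along which the torsor has a section -/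
def secSieve (A : QuotObj K G aX) : Sieve A.base where
  arrows T t := ∃ s : T ⟶ A.P, s ≫ A.π = t
  downward_closed := by
    rintro T T' t ⟨s, rfl⟩ g
    exact ⟨g ≫ s, Category.assoc _ _ _⟩

theorem secSieve_mem (A : QuotObj K G aX) : secSieve A ∈ QuotSh.J K S A.base := by
  rw [GrothendieckTopology.mem_over_iff]
  obtain ⟨R, hR, hsec⟩ := A.loc
  refine K.toGrothendieck.superset_covering ?_ (Precoverage.generate_mem_toGrothendieck hR)
  rintro V g ⟨W, a, b, hb, rfl⟩
  obtain ⟨s, hs⟩ := hsec b hb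
  have hs' : s ≫ A.π.left = b := hs
  rw [Sieve.overEquiv_iff]
  refine ⟨Over.homMk (a ≫ s) ?_, ?_⟩
  · change (a ≫ s) ≫ A.P.hom = (a ≫ b) ≫ A.base.hom
    rw [← Over.w A.π, Category.assoc, Category.assoc, ← Category.assoc s, hs']
  · apply Over.OverMorphism.ext
    change (a ≫ s) ≫ A.π.left = a ≫ b
    rw [Category.assoc, hs']

section desc

variable {M : AlgSp.Sp S} (f : (AlgSp.yon S).obj X ⟶ M)

/-- the value of a map of sheaves `h_X ⟶ M` at a point of `X` -/
def fpt {T : Over S} (x : T ⟶ X) : M.obj.obj (op T) := f.hom.app (op T) ⟨x⟩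

theorem fpt_comp {T T' : Over S} (g : T' ⟶ T) (x : T ⟶ X) :
    M.obj.map g.op (fpt f x) = fpt f (g ≫ x) :=
  (NatTrans.naturality_apply f.hom g.op ⟨x⟩).symm

variable (hf : (AlgSp.yon S).map aX.act ≫ f = (AlgSp.yon S).map (snd G X) ≫ f)

include hf

theorem fpt_act {T : Over S} (p : T ⟶ G ⊗ X) : fpt f (p ≫ aX.act) = fpt f (p ≫ snd G X) :=
  congrArg (fun k => k.hom.app (op T) ⟨p⟩) hf

/-- the value of an invariant map at the image of a section of a torsor only depends on the
image of the section in the base -/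
theorem fpt_sec_indep (A : QuotObj K G aX) {T : Over S} (s s' : T ⟶ A.P)
    (h : s ≫ A.π = s' ≫ A.π) : fpt f (s ≫ A.φ) = fpt f (s' ≫ A.φ) := by
  let q : T ⟶ G ⊗ A.P := A.cart.lift s s' h
  have h1 : q ≫ A.act.act = s := A.cart.lift_fst _ _ _
  have h2 : q ≫ snd G A.P = s' := A.cart.lift_snd _ _ _
  have h3 : (q ≫ (G ◁ A.φ)) ≫ aX.act = s ≫ A.φ := by
    rw [Category.assoc, ← A.eqv, ← Category.assoc, h1]
  have h4 : (q ≫ (G ◁ A.φ)) ≫ snd G X = s' ≫ A.φ := by
    rw [Category.assoc, whiskerLeft_snd, ← Category.assoc, h2]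
  rw [← h3, ← h4]
  exact fpt_act f hf _

/-- the family of values of an invariant map on the sieve of sections -/
noncomputable def descFam (_hf : (AlgSp.yon S).map aX.act ≫ f = (AlgSp.yon S).map (snd G X) ≫ f)
    (A : QuotObj K G aX) : Presieve.FamilyOfElements M.obj (secSieve A).arrows :=
  fun _ _ ht => fpt f (ht.choose ≫ A.φ)

theorem descFam_eq (A : QuotObj K G aX) {T : Over S} (t : T ⟶ A.base) (s : T ⟶ A.P)
    (hs : s ≫ A.π = t) : descFam f hf A t ⟨s, hs⟩ = fpt f (s ≫ A.φ) :=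
  fpt_sec_indep f hf A _ _ ((Exists.choose_spec (⟨s, hs⟩ : ∃ s : T ⟶ A.P, s ≫ A.π = t)).trans
    hs.symm)

theorem descFam_compatible (A : QuotObj K G aX) : (descFam f hf A).SieveCompatible := by
  rintro T T' t g ⟨s, hs⟩
  have hs' : (g ≫ s) ≫ A.π = g ≫ t := by rw [Category.assoc, hs]
  rw [descFam_eq f hf A (g ≫ t) (g ≫ s) hs', descFam_eq f hf A t s hs, fpt_comp, Category.assoc]

theorem isSheafFor_secSieve (A : QuotObj K G aX) (hM : Presieve.IsSheaf (QuotSh.J K S) M.obj) :
    Presieve.IsSheafFor M.obj (secSieve A).arrows :=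
  hM (secSieve A) (secSieve_mem A)

/-- the value of the descended map at a torsor -/
noncomputable def desc (_hf : (AlgSp.yon S).map aX.act ≫ f = (AlgSp.yon S).map (snd G X) ≫ f)
    (hM : Presieve.IsSheaf (QuotSh.J K S) M.obj) (A : QuotObj K G aX) : M.obj.obj (op A.base) :=
  (hM (secSieve A) (secSieve_mem A)).amalgamate (descFam f _hf A)
    ((Presieve.compatible_iff_sieveCompatible _).mpr (descFam_compatible f _hf A))

theorem desc_spec (hM : Presieve.IsSheaf (QuotSh.J K S) M.obj) (A : QuotObj K G aX) {T : Over S}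
    (s : T ⟶ A.P) : M.obj.map (s ≫ A.π).op (desc f hf hM A) = fpt f (s ≫ A.φ) :=
  ((hM (secSieve A) (secSieve_mem A)).valid_glue
    ((Presieve.compatible_iff_sieveCompatible _).mpr (descFam_compatible f hf A)) (s ≫ A.π)
    ⟨s, rfl⟩).trans (descFam_eq f hf A _ s rfl)

omit hf in
theorem desc_ext (hM : Presieve.IsSheaf (QuotSh.J K S) M.obj) (A : QuotObj K G aX)
    (m m' : M.obj.obj (op A.base))
    (h : ∀ {T : Over S} (s : T ⟶ A.P), M.obj.map (s ≫ A.π).op m = M.obj.map (s ≫ A.π).op m') :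
    m = m' := by
  apply (hM (secSieve A) (secSieve_mem A)).isSeparatedFor.ext
  rintro T t ⟨s, rfl⟩
  exact h s

end desc

end Groth.Agent.H64.Quot
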