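import Groth.Agent.H64.Quot.Desc

set_option autoImplicit false
universe w v₃ u₃ v₂ u₂ v u
open CategoryTheory CategoryTheory.Limits MonoidalCategory CartesianMonoidalCategory MonObj GrpObj
  AlgebraicGeometry Opposite

/-! Invariant maps from `X` to a sheaf descend uniquely to `[X/G]`. -/

namespace Groth.Agent.H64

section ext

variable {C : Type u} [Category.{v} C] {P : Cᵒᵖ ⥤ Type w} {𝒜 : BasedCategory.{v₂, u₂} C}

theorem eltObj_ext {x y : Stk.EltObj P} {T : C} (hx : x.base = T) (hy : y.base = T)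
    (h : secAt P x hx = secAt P y hy) : x = y := by
  obtain ⟨b, s⟩ := x
  obtain ⟨b', s'⟩ := y
  dsimp only at hx hy
  subst hx hy
  rw [secAt_rfl, secAt_rfl] at h
  dsimp only at h
  subst h
  rfl

theorem bfun_ext {𝒳 : BasedCategory.{v₂, u₂} C} {𝒴 : BasedCategory.{v₃, u₃} C} {F H : 𝒳 ⥤ᵇ 𝒴}
    (h : F.toFunctor = H.toFunctor) : F = H := by
  cases F; cases H
  simp only at h
  subst h
  rfl

/-- based functors into the category of a presheaf are equal if they define the same sections -/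
theorem bfun_ext_of_bsec_eq {F H : 𝒜 ⥤ᵇ Stk.ofPsh P} (h : ∀ a, bsec F a = bsec H a) : F = H := by
  have hobj : ∀ a, F.obj a = H.obj a := fun a => eltObj_ext (F.w_obj a) (H.w_obj a) (h a)
  apply bfun_ext
  refine CategoryTheory.Functor.ext hobj (fun a b m => ?_)
  have h1 : (Stk.ofPsh P).p.IsHomLift (𝒜.p.map m) (F.map m) :=
    BasedFunctor.preserves_isHomLift F _ m
  have h2 : (Stk.ofPsh P).p.IsHomLift (𝒜.p.map m) (H.map m) :=
    BasedFunctor.preserves_isHomLift H _ m
  have h3 : (Stk.ofPsh P).p.IsHomLift (𝟙 (𝒜.p.obj a)) (eqToHom (hobj a)) :=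
    lift_eqToHom (Stk.ofPsh P).p (hobj a) (F.w_obj a)
  have h4 : (Stk.ofPsh P).p.IsHomLift (𝟙 (𝒜.p.obj b)) (eqToHom (hobj b).symm) :=
    lift_eqToHom (Stk.ofPsh P).p (hobj b).symm (H.w_obj b)
  exact eltHom_ext P (𝒜.p.map m) _ _ h1
    (lift_comp_id_left (Stk.ofPsh P).p h3 (lift_comp_id_right (Stk.ofPsh P).p h2 h4))

end ext

end Groth.Agent.H64

namespace Groth.Agent.H64.Quot

open AlgSt

variable {S : Scheme.{u}} {K : Precoverage Scheme.{u}} {G : Over S} [GrpObj G] {X : Over S}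
  {aX : AlgGrp.Action G X} {M : AlgSp.Sp S} (f : (AlgSp.yon S).obj X ⟶ M)
  (hf : (AlgSp.yon S).map aX.act ≫ f = (AlgSp.yon S).map (snd G X) ≫ f)
  (hM : Presieve.IsSheaf (QuotSh.J K S) M.obj)

include hf in
theorem desc_map {A B : QuotObj K G aX} (h : A ⟶ B) :
    M.obj.map h.base.op (desc f hf hM B) = desc f hf hM A := by
  apply desc_ext hM A
  intro T s
  have h1 : (s ≫ A.π) ≫ h.base = (s ≫ h.top) ≫ B.π := by
    rw [Category.assoc, Category.assoc, h.cart.w]
  rw [← Functor.map_comp_apply, ← op_comp, h1, desc_spec, desc_spec, Category.assoc, h.wφ]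

/-- the functor `[X/G] ⟶ M` defined by an invariant map `X ⟶ M` -/
noncomputable def descFun : QuotSt K G aX ⥤ᵇ ofSp M where
  toFunctor :=
    { obj := fun A => ⟨A.base, desc f hf hM A⟩
      map := fun {A B} h => ⟨h.base, desc_map f hf hM h⟩
      map_id := fun A => Stk.EltObj.hom_ext rfl
      map_comp := fun h h' => Stk.EltObj.hom_ext rfl }
  w := rfl

theorem bsec_descFun (A : QuotObj K G aX) : bsec (descFun f hf hM) A = desc f hf hM A :=
  secAt_rfl _ _

variable [K.HasIsos]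

include hf in
theorem desc_triv {T : Over S} (x : T ⟶ X) : desc f hf hM (triv K aX T x) = fpt f x := by
  apply desc_ext hM (triv K aX T x)
  intro T' s
  rw [desc_spec]
  change T' ⟶ G ⊗ T at s
  have h1 : M.obj.map (s ≫ (triv K aX T x).π).op (fpt f x) = fpt f ((s ≫ snd G T) ≫ x) :=
    fpt_comp f _ x
  have h2 : fpt f (s ≫ (triv K aX T x).φ) = fpt f ((s ≫ (G ◁ x)) ≫ aX.act) :=
    congrArg (fpt f) (Category.assoc _ _ _).symm
  refine (h2.trans ?_).trans h1.symm
  rw [fpt_act f hf]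
  congr 1
  rw [Category.assoc, whiskerLeft_snd, Category.assoc]

theorem quotMap_comp_descFun :
    BasedFunctor.comp (quotMap K G aX) (descFun f hf hM) = ofSpMap f := by
  apply bfun_ext_of_bsec_eq
  intro a
  have h1 : bsec (BasedFunctor.comp (quotMap K G aX) (descFun f hf hM)) a =
      desc f hf hM (triv K aX a.base a.sec.down) := secAt_rfl _ _
  have h2 : bsec (ofSpMap f) a = fpt f a.sec.down := secAt_rfl _ _
  rw [h1, h2, desc_triv]

include hf in
theorem descFun_unique (F : QuotSt K G aX ⥤ᵇ ofSp M)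
    (hF : BasedFunctor.comp (quotMap K G aX) F = ofSpMap f) : F = descFun f hf hM := by
  apply bfun_ext_of_bsec_eq
  intro A
  rw [bsec_descFun]
  apply desc_ext hM A
  intro T s
  rw [desc_spec]
  have h1 : M.obj.map (s ≫ A.π).op (bsec F A) = bsec F (triv K aX T (s ≫ A.φ)) :=
    bsec_naturality F (ofSection A s)
  have h2 : bsec F (triv K aX T (s ≫ A.φ)) =
      bsec (BasedFunctor.comp (quotMap K G aX) F) ⟨T, ⟨s ≫ A.φ⟩⟩ := rfl
  have h3 : bsec (ofSpMap f) (⟨T, ⟨s ≫ A.φ⟩⟩ : (ofSch X).obj) = fpt f (s ≫ A.φ) := secAt_rfl _ _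
  rw [h1, h2, hF, h3]

end Groth.Agent.H64.Quot
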