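import Groth.Agent.H64.Quot.Desc

set_option autoImplicit false
universe u
open CategoryTheory CategoryTheory.Limits MonoidalCategory CartesianMonoidalCategory MonObj GrpObj
  AlgebraicGeometry Opposite

/-! The quotient category `[X/G]` is fibred in groupoids over `(Sch/S)`. -/

namespace Groth.Agent.H64.Quot

open AlgSt

variable {S : Scheme.{u}} {K : Precoverage Scheme.{u}} {G : Over S} [GrpObj G] {X : Over S}
  {aX : AlgGrp.Action G X}

/-- an action from its description on points -/
noncomputable def actionOfPts {P : Over S} (act : G ⊗ P ⟶ P)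
    (h1 : ∀ {T : Over S} (p : T ⟶ P), lift (1 : T ⟶ G) p ≫ act = p)
    (h2 : ∀ {T : Over S} (g h : T ⟶ G) (p : T ⟶ P),
      lift (g * h) p ≫ act = lift g (lift h p ≫ act) ≫ act) : AlgGrp.Action G P where
  act := act
  one_act := by
    have e : (η[G] ▷ P) = lift (1 : 𝟙_ (Over S) ⊗ P ⟶ G) (snd _ P) := by
      apply CartesianMonoidalCategory.hom_ext
      · rw [whiskerRight_fst, lift_fst, Hom.one_def, toUnit_unique (fst _ _) (toUnit _)]
      · rw [whiskerRight_snd, lift_snd]
    rw [e, h1, leftUnitor_hom]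
  mul_act := by
    have hμ : fst (G ⊗ G) P ≫ μ[G] = (fst _ _ ≫ fst G G) * (fst _ _ ≫ snd G G) := by
      rw [Hom.mul_def, ← comp_lift, lift_fst_snd, Category.comp_id]
    have e1 : (μ[G] ▷ P) = lift ((fst (G ⊗ G) P ≫ fst G G) * (fst (G ⊗ G) P ≫ snd G G))
        (snd (G ⊗ G) P) := by
      apply CartesianMonoidalCategory.hom_ext
      · rw [whiskerRight_fst, lift_fst, hμ]
      · rw [whiskerRight_snd, lift_snd]
    have e2 : (α_ G G P).hom ≫ (G ◁ act) = lift (fst (G ⊗ G) P ≫ fst G G)
        (lift (fst (G ⊗ G) P ≫ snd G G) (snd (G ⊗ G) P) ≫ act) := by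
      apply CartesianMonoidalCategory.hom_ext
      · simp only [Category.assoc, whiskerLeft_fst, associator_hom_fst, lift_fst]
      · simp only [Category.assoc, whiskerLeft_snd, lift_snd]
        rw [← Category.assoc]
        congr 1
        apply CartesianMonoidalCategory.hom_ext
        · simp only [Category.assoc, associator_hom_snd_fst, lift_fst]
        · simp only [Category.assoc, associator_hom_snd_snd, lift_snd]
    rw [e1, h2, ← Category.assoc, e2]

section pull

variable [K.IsStableUnderComposition] [K.IsStableUnderBaseChange] [K.HasPullbacks] [K.HasIsos]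

/-- local triviality for the precoverage from local triviality for the topology -/
theorem loc_of_sieve_mem {U P : Over S} (π : P ⟶ U) (R : Sieve U) (hR : R ∈ QuotSh.J K S U)
    (h : ∀ ⦃T : Over S⦄ (t : T ⟶ U), R t → ∃ s : T ⟶ P, s ≫ π = t) :
    NonAbH1.IsLocallyTrivialFor K (Over.mk π.left : Over U.left) := by
  rw [GrothendieckTopology.mem_over_iff,
    Precoverage.mem_toGrothendieck_iff_of_isStableUnderComposition] at hR
  obtain ⟨R', hR', hle⟩ := hR
  refine ⟨R', hR', fun S' f hf => ?_⟩
  have := hle _ _ hf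
  rw [Sieve.overEquiv_iff] at this
  obtain ⟨s, hs⟩ := h _ this
  exact ⟨s.left, congrArg CommaMorphism.left hs⟩

variable (B : QuotObj K G aX) {T : Over S} (f : T ⟶ B.base)

/-- the action on the pulled back torsor -/
noncomputable def pullAct : G ⊗ pullback f B.π ⟶ pullback f B.π :=
  pullback.lift (snd G _ ≫ pullback.fst f B.π) ((G ◁ pullback.snd f B.π) ≫ B.act.act) (by
    rw [Category.assoc, Category.assoc, B.cart.w, whiskerLeft_snd_assoc, pullback.condition])

theorem pullAct_fst : pullAct B f ≫ pullback.fst f B.π = snd G _ ≫ pullback.fst f B.π :=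
  pullback.lift_fst _ _ _

theorem pullAct_snd : pullAct B f ≫ pullback.snd f B.π = (G ◁ pullback.snd f B.π) ≫ B.act.act :=
  pullback.lift_snd _ _ _

theorem pullAct_pt_fst {W : Over S} (g : W ⟶ G) (p : W ⟶ pullback f B.π) :
    lift g p ≫ pullAct B f ≫ pullback.fst f B.π = p ≫ pullback.fst f B.π := by
  rw [pullAct_fst, lift_snd_assoc]

theorem pullAct_pt_snd {W : Over S} (g : W ⟶ G) (p : W ⟶ pullback f B.π) :
    lift g p ≫ pullAct B f ≫ pullback.snd f B.π = lift g (p ≫ pullback.snd f B.π) ≫ B.act.act := by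
  rw [pullAct_snd, ← Category.assoc]
  congr 1
  apply CartesianMonoidalCategory.hom_ext
  · simp only [Category.assoc, whiskerLeft_fst, lift_fst]
  · simp only [Category.assoc, whiskerLeft_snd, lift_snd, lift_snd_assoc]

/-- the pullback of an object of `[X/G]` along a morphism to its base -/
noncomputable def pullObj : QuotObj K G aX where
  base := T
  P := pullback f B.π
  act := actionOfPts (pullAct B f)
    (fun p => by
      apply pullback.hom_ext
      · rw [Category.assoc, pullAct_pt_fst]
      · rw [Category.assoc, pullAct_pt_snd, act_one_pt])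
    (fun g h p => by
      apply pullback.hom_ext
      · rw [Category.assoc, pullAct_pt_fst, Category.assoc, pullAct_pt_fst, Category.assoc,
          pullAct_pt_fst]
      · rw [Category.assoc, pullAct_pt_snd, Category.assoc, pullAct_pt_snd, Category.assoc,
          pullAct_pt_snd, act_mul_pt])
  π := pullback.fst f B.π
  cart := by
    have h1 : IsPullback (pullback.snd f B.π) (pullback.fst f B.π) B.π f :=
      (IsPullback.of_hasPullback f B.π).flip
    have h2 : IsPullback (G ◁ pullback.snd f B.π) (snd G _) (snd G B.P) (pullback.snd f B.π) :=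
      isPullback_whiskerLeft _
    have h3 := h2.paste_horiz B.cart
    refine IsPullback.of_right ?_ (pullAct_fst B f) h1
    have e : pullAct B f ≫ pullback.snd f B.π = (G ◁ pullback.snd f B.π) ≫ B.act.act :=
      pullAct_snd B f
    change IsPullback (pullAct B f ≫ pullback.snd f B.π) _ _ _
    rw [e, pullback.condition]
    exact h3
  loc := by
    refine loc_of_sieve_mem (pullback.fst f B.π) ((secSieve B).pullback f)
      ((QuotSh.J K S).pullback_stable f (secSieve_mem B)) ?_
    rintro T' t ⟨s, hs⟩
    exact ⟨pullback.lift t s hs.symm, pullback.lift_fst _ _ _⟩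
  φ := pullback.snd f B.π ≫ B.φ
  eqv := by
    change pullAct B f ≫ pullback.snd f B.π ≫ B.φ = _
    rw [← Category.assoc, pullAct_snd, Category.assoc, B.eqv, MonoidalCategory.whiskerLeft_comp,
      Category.assoc]

/-- the projection from the pullback -/
noncomputable def pullHom : pullObj B f ⟶ B where
  base := f
  top := pullback.snd f B.π
  eqv := pullAct_snd B f
  cart := (IsPullback.of_hasPullback f B.π).flip
  wφ := rfl

@[simp] theorem pullHom_base : (pullHom B f).base = f := rfl
@[simp] theorem pullHom_top : (pullHom B f).top = pullback.snd f B.π := rfl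
@[simp] theorem pullObj_base : (pullObj B f).base = T := rfl
@[simp] theorem pullObj_π : (pullObj B f).π = pullback.fst f B.π := rfl
@[simp] theorem pullObj_P : (pullObj B f).P = pullback f B.π := rfl

end pull

/-- the universal property of a morphism of `[X/G]` -/
theorem exists_lift_hom {A B C : QuotObj K G aX} (m : A ⟶ B) (g : C.base ⟶ A.base) (ψ : C ⟶ B)
    (hb : ψ.base = g ≫ m.base) : ∃ χ : C ⟶ A, χ.base = g ∧ χ ≫ m = ψ := by
  have hw : ψ.top ≫ B.π = (C.π ≫ g) ≫ m.base := by
    rw [ψ.cart.w, hb, Category.assoc]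
  let τ : C.P ⟶ A.P := m.cart.lift ψ.top (C.π ≫ g) hw
  have hτ1 : τ ≫ m.top = ψ.top := m.cart.lift_fst _ _ _
  have hτ2 : τ ≫ A.π = C.π ≫ g := m.cart.lift_snd _ _ _
  let χ : C ⟶ A :=
    { base := g
      top := τ
      eqv := by
        apply m.cart.hom_ext
        · rw [Category.assoc, hτ1, Category.assoc, m.eqv, ← MonoidalCategory.whiskerLeft_comp_assoc,
            hτ1, ψ.eqv]
        · rw [Category.assoc, hτ2, Category.assoc, A.cart.w, whiskerLeft_snd_assoc, hτ2,
            ← Category.assoc, C.cart.w, Category.assoc]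
      cart := by
        refine IsPullback.of_right ?_ hτ2 m.cart
        rw [hτ1, ← hb]
        exact ψ.cart
      wφ := by rw [← m.wφ, ← Category.assoc, hτ1, ψ.wφ] }
  exact ⟨χ, rfl, QuotObj.hom_ext hb.symm hτ1⟩

theorem map_eq_of_isHomLift {𝒳 C : Type*} [Category 𝒳] [Category C] (p : 𝒳 ⥤ C) {a b : 𝒳}
    (f : p.obj a ⟶ p.obj b) (φ : a ⟶ b) (h : p.IsHomLift f φ) : p.map φ = f := by
  rw [IsHomLift.fac' p f φ]
  simp

theorem base_eq_of_isHomLift {A B : QuotObj K G aX} (m : A ⟶ B) (f : A.base ⟶ B.base)
    (h : (QuotSt K G aX).p.IsHomLift f m) : m.base = f :=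
  map_eq_of_isHomLift (QuotSt K G aX).p f m h

theorem isHomLift_base {A B : QuotObj K G aX} (m : A ⟶ B) :
    (QuotSt K G aX).p.IsHomLift m.base m :=
  inferInstanceAs ((QuotSt K G aX).p.IsHomLift ((QuotSt K G aX).p.map m) m)

theorem isHomLift_of_base_eq {A B : QuotObj K G aX} (m : A ⟶ B) (f : A.base ⟶ B.base)
    (h : m.base = f) : (QuotSt K G aX).p.IsHomLift f m := by
  subst h
  exact isHomLift_base m

/-- every morphism of `[X/G]` is strongly cartesian -/
theorem isStronglyCartesian_hom {A B : QuotObj K G aX} (m : A ⟶ B) :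
    (QuotSt K G aX).p.IsStronglyCartesian m.base m := by
  refine { toIsHomLift := isHomLift_base m, universal_property' := ?_ }
  intro C g ψ hψ
  change C.base ⟶ A.base at g
  have hb : ψ.base = g ≫ m.base := base_eq_of_isHomLift ψ (g ≫ m.base) hψ
  obtain ⟨χ, hχ1, hχ2⟩ := exists_lift_hom m g ψ hb
  refine ⟨χ, ⟨isHomLift_of_base_eq χ g hχ1, hχ2⟩, ?_⟩
  rintro χ' ⟨h1, h2⟩
  have hb' : χ'.base = g := base_eq_of_isHomLift χ' g h1
  apply hom_ext_of_comp m (hb'.trans hχ1.symm)
  rw [h2, hχ2]

/-- `[X/G]` is fibred in groupoids -/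
theorem isFibGrpd_quotSt [K.IsStableUnderComposition] [K.IsStableUnderBaseChange] [K.HasPullbacks]
    [K.HasIsos] : FibCat.IsFibGrpd (QuotSt K G aX).p where
  exists_lift {B _} f := ⟨pullObj B f, pullHom B f, isHomLift_base (pullHom B f)⟩
  isStronglyCartesian m := isStronglyCartesian_hom m

end Groth.Agent.H64.Quot
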