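import Groth.Agent.H64.Quot.Basic
import Groth.Agent.H64.Stk.FpStack

set_option autoImplicit false
universe u
open CategoryTheory CategoryTheory.Limits MonoidalCategory CartesianMonoidalCategory MonObj GrpObj
  AlgebraicGeometry

/-! The fibre product of a scheme `U ⟶ [X/G]` with `X ⟶ [X/G]` is the total space of the
torsor over `U`. -/

namespace Groth.Agent.H64.Quot

open AlgSt

variable {S : Scheme.{u}} {K : Precoverage Scheme.{u}} [K.HasIsos] {G : Over S} [GrpObj G]
  {X : Over S} {aX : AlgGrp.Action G X} {U : Over S}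
  (y : FibCat.overCat U ⥤ᵇ QuotSt K G aX)

/-- identification of the base of `y t` with the source of `t` -/
def yb (t : Over U) : t.left ⟶ (y.obj t).base := eqToHom (y.w_obj t).symm

instance (t : Over U) : IsIso (yb y t) :=
  ⟨⟨eqToHom (y.w_obj t), (eqToHom_trans _ _).trans (eqToHom_refl _ rfl),
    (eqToHom_trans _ _).trans (eqToHom_refl _ rfl)⟩⟩

theorem eqToHom_aux {C : Type*} [Category C] {a a' b b' : C} (ha : a' = a) (hb : b' = b)
    (f : a ⟶ b) :
    eqToHom ha.symm ≫ (eqToHom ha ≫ f ≫ eqToHom hb.symm) = f ≫ eqToHom hb.symm := by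
  subst ha; subst hb; simp

theorem yb_nat {t' t : Over U} (m : t' ⟶ t) : yb y t' ≫ (y.map m).base = m.left ≫ yb y t := by
  have h := Functor.congr_hom y.w m
  have h' : (y.map m).base = eqToHom (y.w_obj t') ≫ m.left ≫ eqToHom (y.w_obj t).symm := h
  rw [h']
  exact eqToHom_aux (y.w_obj t') (y.w_obj t) m.left

/-- the universal object: the value of `y` at the identity of `U` -/
abbrev univ : QuotObj K G aX := y.obj (Over.mk (𝟙 U))

/-- identification of the base of the universal object with `U` -/
abbrev ub : U ⟶ (univ y).base := yb y (Over.mk (𝟙 U))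

/-- the structure map to the universal object -/
def toUniv (t : Over U) : y.obj t ⟶ univ y := y.map (Over.homMk t.hom : t ⟶ Over.mk (𝟙 U))

theorem yb_toUniv_base (t : Over U) : yb y t ≫ (toUniv y t).base = t.hom ≫ ub y :=
  yb_nat y (Over.homMk t.hom : t ⟶ Over.mk (𝟙 U))

theorem map_toUniv {t' t : Over U} (m : t' ⟶ t) : y.map m ≫ toUniv y t = toUniv y t' := by
  refine (y.toFunctor.map_comp m (Over.homMk t.hom : t ⟶ Over.mk (𝟙 U))).symm.trans
    (congrArg y.toFunctor.map ?_)
  apply Over.OverMorphism.ext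
  change m.left ≫ t.hom = t'.hom
  exact Over.w m

/-- the object of `Over U` attached to a section of the universal torsor -/
noncomputable def secOver {T : Over S} (s : T ⟶ (univ y).P) : Over U :=
  Over.mk (s ≫ (univ y).π ≫ inv (ub y))

@[simp] theorem secOver_left {T : Over S} (s : T ⟶ (univ y).P) : (secOver y s).left = T := rfl

theorem secOver_hom {T : Over S} (s : T ⟶ (univ y).P) :
    (secOver y s).hom = s ≫ (univ y).π ≫ inv (ub y) := rfl

theorem secOver_hom_ub {T : Over S} (s : T ⟶ (univ y).P) :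
    (secOver y s).hom ≫ ub y = s ≫ (univ y).π := by
  change (s ≫ (univ y).π ≫ inv (ub y)) ≫ ub y = s ≫ (univ y).π
  rw [Category.assoc, Category.assoc, IsIso.inv_hom_id, Category.comp_id]

/-- the trivialisation of `y` at the object attached to a section -/
noncomputable def nu {T : Over S} (s : T ⟶ (univ y).P) :
    triv K aX T (s ≫ (univ y).φ) ⟶ y.obj (secOver y s) :=
  trivTo (toUniv y (secOver y s)) s (yb y (secOver y s))
    ((yb_toUniv_base y (secOver y s)).trans (secOver_hom_ub y s)).symm

theorem nu_base {T : Over S} (s : T ⟶ (univ y).P) : (nu y s).base = yb y (secOver y s) := rfl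

instance {T : Over S} (s : T ⟶ (univ y).P) : IsIso (nu y s) := by
  have : IsIso (nu y s).base := (inferInstance : IsIso (yb y (secOver y s)))
  exact isIso_of_isIso_base _

theorem nu_comp {T : Over S} (s : T ⟶ (univ y).P) :
    nu y s ≫ toUniv y (secOver y s) = ofSection (univ y) s :=
  trivTo_comp _ _ _ _

theorem nu_nat {T T' : Over S} (r : T' ⟶ T) (s : T ⟶ (univ y).P)
    (ρ : secOver y (r ≫ s) ⟶ secOver y s) (hρ : ρ.left = r)
    (m : (⟨T', ⟨(r ≫ s) ≫ (univ y).φ⟩⟩ : (ofSch X).obj) ⟶ ⟨T, ⟨s ≫ (univ y).φ⟩⟩) (hm : m.hom = r) :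
    nu y (r ≫ s) ≫ y.map ρ = (quotMap K G aX).map m ≫ nu y s := by
  apply hom_ext_of_comp (toUniv y (secOver y s))
  · exact (yb_nat y ρ).trans (congrArg (· ≫ yb y (secOver y s)) (hρ.trans hm.symm))
  · have h1 : (nu y (r ≫ s) ≫ y.map ρ) ≫ toUniv y (secOver y s) = ofSection (univ y) (r ≫ s) :=
      (Category.assoc _ _ _).trans
        ((congrArg (nu y (r ≫ s) ≫ ·) (map_toUniv y ρ)).trans (nu_comp y (r ≫ s)))
    have h2 : ((quotMap K G aX).map m ≫ nu y s) ≫ toUniv y (secOver y s) =
        ofSection (univ y) (r ≫ s) :=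
      (Category.assoc _ _ _).trans
        ((congrArg ((quotMap K G aX).map m ≫ ·) (nu_comp y s)).trans
          (map_ofSection _ r s m hm))
    exact h1.trans h2.symm

end Groth.Agent.H64.Quot
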