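import Groth.Agent.H64.Quot.FpRep
import Groth.Agent.H64.Stk.Lift

set_option autoImplicit false
universe u
open CategoryTheory CategoryTheory.Limits MonoidalCategory CartesianMonoidalCategory MonObj GrpObj
  AlgebraicGeometry

/-! The functor from the total space of the torsor over `U` to the fibre product of
`U ⟶ [X/G]` with `X ⟶ [X/G]`. -/

namespace Groth.Agent.H64.Quot

open AlgSt

variable {S : Scheme.{u}} {K : Precoverage Scheme.{u}} [K.HasIsos] {G : Over S} [GrpObj G]
  {X : Over S} {aX : AlgGrp.Action G X} {U : Over S}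
  (y : FibCat.overCat U ⥤ᵇ QuotSt K G aX)

theorem inv_comm {C : Type*} [Category C] {a b c d : C} (f : a ⟶ b) [IsIso f] (g : c ⟶ d)
    [IsIso g] (u : a ⟶ c) (v : b ⟶ d) (h : f ≫ v = u ≫ g) : v ≫ inv g = inv f ≫ u := by
  rw [IsIso.comp_inv_eq, Category.assoc, IsIso.eq_inv_comp, h]

theorem isHomLift_id_of_eq {𝒳 𝒮 : Type*} [Category 𝒳] [Category 𝒮] (p : 𝒳 ⥤ 𝒮) {a b : 𝒳}
    (φ : a ⟶ b) {R : 𝒮} (ha : p.obj a = R) (hb : p.obj b = R)
    (h : p.map φ = eqToHom (ha.trans hb.symm)) : p.IsHomLift (𝟙 R) φ := by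
  subst ha
  refine IsHomLift.of_fac p _ φ rfl hb ?_
  rw [h]
  simp

theorem nu_isHomLift {T : Over S} (s : T ⟶ (univ y).P) :
    (QuotObj.forget K G aX).IsHomLift (𝟙 T) (nu y s) :=
  isHomLift_id_of_eq (QuotObj.forget K G aX) (nu y s) rfl (y.w_obj (secOver y s)) rfl

/-- the trivialisation as an isomorphism -/
noncomputable def nuIso {T : Over S} (s : T ⟶ (univ y).P) :
    y.obj (secOver y s) ≅ triv K aX T (s ≫ (univ y).φ) :=
  (asIso (nu y s)).symm

theorem nuIso_hom {T : Over S} (s : T ⟶ (univ y).P) : (nuIso y s).hom = inv (nu y s) := rfl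

theorem nuIso_inv {T : Over S} (s : T ⟶ (univ y).P) : (nuIso y s).inv = nu y s := rfl

theorem nuIso_isHomLift {T : Over S} (s : T ⟶ (univ y).P) :
    (QuotObj.forget K G aX).IsHomLift (𝟙 T) (nuIso y s).hom :=
  Groth.Agent.H64.lift_inv_of_isIso (QuotObj.forget K G aX) (nu y s) (nu_isHomLift y s)

theorem repFun_w {T T' : Over S} (s : T ⟶ (univ y).P) (s' : T' ⟶ (univ y).P) (r : T' ⟶ T)
    (hr : r ≫ s = s') (ρ : secOver y s' ⟶ secOver y s) (hρ : ρ.left = r)
    (m : (⟨T', ⟨s' ≫ (univ y).φ⟩⟩ : (ofSch X).obj) ⟶ ⟨T, ⟨s ≫ (univ y).φ⟩⟩) (hm : m.hom = r) :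
    y.map ρ ≫ (nuIso y s).hom = (nuIso y s').hom ≫ (quotMap K G aX).map m := by
  subst hr
  exact inv_comm _ _ _ _ (nu_nat y r s ρ hρ m hm)

/-- the object of the fibre product attached to a section of the universal torsor -/
noncomputable def repObj (σ : (ofSch (univ y).P).obj) :
    (FibCat.fp y (quotMap K G aX)).obj :=
  ⟨⟨secOver y σ.sec.down, ⟨σ.base, ⟨σ.sec.down ≫ (univ y).φ⟩⟩, nuIso y σ.sec.down⟩,
    nuIso_isHomLift y σ.sec.down⟩

/-- the morphism of the fibre product attached to a morphism of sections -/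
noncomputable def repMap {σ' σ : (ofSch (univ y).P).obj} (r : σ' ⟶ σ) :
    repObj y σ' ⟶ repObj y σ :=
  have hr : r.hom ≫ σ.sec.down = σ'.sec.down := congrArg ULift.down r.map_sec
  fpHomMk y (quotMap K G aX) (z := repObj y σ') (z' := repObj y σ)
    (Over.homMk r.hom (by
      change r.hom ≫ (σ.sec.down ≫ (univ y).π ≫ inv (ub y)) =
        σ'.sec.down ≫ (univ y).π ≫ inv (ub y)
      rw [← Category.assoc, hr]))
    ⟨r.hom, congrArg ULift.up (by
      change r.hom ≫ σ.sec.down ≫ (univ y).φ = σ'.sec.down ≫ (univ y).φ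
      rw [← Category.assoc, hr])⟩
    (repFun_w y σ.sec.down σ'.sec.down r.hom hr _ rfl _ rfl)

/-- the functor from the total space of the universal torsor to the fibre product -/
noncomputable def repFun : ofSch (univ y).P ⥤ᵇ FibCat.fp y (quotMap K G aX) where
  toFunctor :=
    { obj := repObj y
      map := fun r => repMap y r
      map_id := fun σ => by
        apply fp_hom_ext
        · apply Over.OverMorphism.ext; rfl
        · apply Stk.EltObj.hom_ext; rfl
      map_comp := fun r r' => by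
        apply fp_hom_ext
        · apply Over.OverMorphism.ext; rfl
        · apply Stk.EltObj.hom_ext; rfl }
  w := rfl

end Groth.Agent.H64.Quot
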