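import Groth.Agent.H64.Quot.FpRep2
import Groth.Agent.H64.Quot.ActSq2

set_option autoImplicit false
universe u
open CategoryTheory CategoryTheory.Limits MonoidalCategory CartesianMonoidalCategory MonObj GrpObj
  AlgebraicGeometry

/-! The functor from the total space of the torsor over `U` to the fibre product of
`U ⟶ [X/G]` with `X ⟶ [X/G]` is an equivalence. -/

namespace Groth.Agent.H64.Quot

open AlgSt

variable {S : Scheme.{u}} {K : Precoverage Scheme.{u}} [K.HasIsos] {G : Over S} [GrpObj G]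
  {X : Over S} {aX : AlgGrp.Action G X} {U : Over S}
  (y : FibCat.overCat U ⥤ᵇ QuotSt K G aX)

theorem unitSec_naturality {T T' : Over S} (r : T' ⟶ T) :
    unitSec G T' ≫ (G ◁ r) = r ≫ unitSec G T := by
  apply CartesianMonoidalCategory.hom_ext
  · simp only [Category.assoc, whiskerLeft_fst, unitSec_fst_eq_one, MonObj.comp_one]
  · simp only [Category.assoc, whiskerLeft_snd, unitSec_snd_assoc, unitSec_snd, Category.comp_id]

theorem repFun_faithful : (repFun y).toFunctor.Faithful := by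
  refine ⟨fun {σ' σ} r r' h => ?_⟩
  apply Stk.EltObj.hom_ext
  exact congrArg (fun t => t.hom.snd.hom) h

theorem iso_comm {C : Type*} [Category C] {a b c d : C} (f : a ≅ b) (g : c ≅ d) (u : a ⟶ c)
    (v : b ⟶ d) (h : f.hom ≫ v = u ≫ g.hom) : v ≫ g.inv = f.inv ≫ u := by
  rw [Iso.comp_inv_eq, Category.assoc, Iso.eq_inv_comp, h]

theorem iso_comm' {C : Type*} [Category C] {a b c d : C} (f : a ≅ b) (g : c ≅ d) (u : a ⟶ c)
    (v : b ⟶ d) (h : v ≫ g.inv = f.inv ≫ u) : f.hom ≫ v = u ≫ g.hom := by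
  rw [Iso.comp_inv_eq, Category.assoc, Iso.eq_inv_comp] at h
  exact h

/-- compatibility of a morphism of the fibre product between objects attached to sections -/
theorem sec_eq_of_hom {T T' : Over S} (s : T ⟶ (univ y).P) (s' : T' ⟶ (univ y).P)
    (n₁ : secOver y s' ⟶ secOver y s)
    (n₂ : (⟨T', ⟨s' ≫ (univ y).φ⟩⟩ : (ofSch X).obj) ⟶ ⟨T, ⟨s ≫ (univ y).φ⟩⟩)
    (hw : y.map n₁ ≫ (nuIso y s).hom = (nuIso y s').hom ≫ (quotMap K G aX).map n₂) :
    n₂.hom ≫ s = s' := by
  have h1 : nu y s' ≫ y.map n₁ = (quotMap K G aX).map n₂ ≫ nu y s :=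
    iso_comm' (nuIso y s').symm (nuIso y s).symm _ _ hw
  have h2 : ofSection (univ y) s' = (quotMap K G aX).map n₂ ≫ ofSection (univ y) s := by
    have h3 := congrArg (· ≫ toUniv y (secOver y s)) h1
    simp only [Category.assoc] at h3
    rw [map_toUniv, nu_comp, nu_comp] at h3
    exact h3
  have h4 : (G ◁ s') ≫ (univ y).act.act = (G ◁ n₂.hom) ≫ (G ◁ s) ≫ (univ y).act.act :=
    congrArg QuotObj.Hom.top h2
  have h5 := congrArg (unitSec G T' ≫ ·) h4
  simp only [] at h5
  rw [unitSec_ofSection_top, reassoc_of% (unitSec_naturality (G := G) n₂.hom),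
    unitSec_ofSection_top] at h5
  exact h5.symm

theorem repFun_full : (repFun y).toFunctor.Full := by
  refine ⟨fun {σ' σ} n => ?_⟩
  have hw : y.map n.hom.fst ≫ (nuIso y σ.sec.down).hom =
      (nuIso y σ'.sec.down).hom ≫ (quotMap K G aX).map n.hom.snd := n.hom.w
  have hr := sec_eq_of_hom y σ.sec.down σ'.sec.down n.hom.fst n.hom.snd hw
  have hl : n.hom.fst.left = n.hom.snd.hom := by
    have := FibCat.fp_isHomLift_snd y (quotMap K G aX) n
    exact @IsHomLift.eq_of_isHomLift _ _ _ _ (Stk.EltObj.forget ((AlgSp.yon S).obj X).obj)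
      (repObj y σ').obj.snd (repObj y σ).obj.snd n.hom.fst.left n.hom.snd this
  refine ⟨⟨n.hom.snd.hom, congrArg ULift.up hr⟩, ?_⟩
  apply fp_hom_ext
  · apply Over.OverMorphism.ext
    exact hl.symm
  · apply Stk.EltObj.hom_ext
    rfl

theorem base_eq_eqToHom_of_isHomLift {A B : QuotObj K G aX} (h : A ⟶ B) {T : Over S}
    (hl : (QuotObj.forget K G aX).IsHomLift (𝟙 T) h) (hA : A.base = T) (hB : B.base = T) :
    h.base = eqToHom (hA.trans hB.symm) := by
  have h1 := IsHomLift.fac' (QuotObj.forget K G aX) (𝟙 T) h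
  have h2 : h.base = eqToHom hA ≫ 𝟙 T ≫ eqToHom hB.symm := h1
  rw [h2, Category.id_comp, eqToHom_trans]

theorem repFun_essSurj (z : (FibCat.fp y (quotMap K G aX)).obj) :
    ∃ (σ : (ofSch (univ y).P).obj) (e : (repFun y).obj σ ≅ z),
      (FibCat.fp y (quotMap K G aX)).p.IsHomLift
        (𝟙 ((FibCat.fp y (quotMap K G aX)).p.obj z)) e.hom := by
  obtain ⟨⟨t, ⟨T', ⟨x⟩⟩, i⟩, hz⟩ := z
  change T' ⟶ X at x
  have hz' : (QuotObj.forget K G aX).IsHomLift (𝟙 t.left) i.hom := hz
  have hT : T' = t.left := IsHomLift.codomain_eq (QuotObj.forget K G aX) (𝟙 t.left) i.hom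
  subst hT
  have hinv : (QuotObj.forget K G aX).IsHomLift (𝟙 t.left) i.inv :=
    Groth.Agent.H64.lift_inv_of_iso (QuotObj.forget K G aX) i hz'
  have hlam : i.inv.base = yb y t :=
    base_eq_eqToHom_of_isHomLift i.inv hinv rfl (y.w_obj t)
  -- the composite to the universal object and the section it defines
  let lam' : triv K aX t.left x ⟶ univ y := i.inv ≫ toUniv y t
  let tp : G ⊗ t.left ⟶ (univ y).P := lam'.top
  let s : t.left ⟶ (univ y).P := unitSec G t.left ≫ tp
  have hsφ : s ≫ (univ y).φ = x := φ_eq_of_triv (A := univ y) tp lam'.wφ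
  have hsπ : lam'.base = s ≫ (univ y).π := base_eq_of_triv (A := univ y) tp lam'.base lam'.cart.w
  have hb' : lam'.base = t.hom ≫ ub y :=
    (congrArg (· ≫ (toUniv y t).base) hlam).trans (yb_toUniv_base y t)
  have hth : (secOver y s).hom = t.hom := by
    change s ≫ (univ y).π ≫ inv (ub y) = t.hom
    rw [← Category.assoc, ← hsπ, hb', Category.assoc, IsIso.hom_inv_id, Category.comp_id]
  let ι₁ : secOver y s ≅ t := Over.isoMk (Iso.refl t.left) (by
    change 𝟙 t.left ≫ t.hom = (secOver y s).hom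
    rw [Category.id_comp, hth])
  let ι₂ : (⟨t.left, ⟨s ≫ (univ y).φ⟩⟩ : (ofSch X).obj) ≅ ⟨t.left, ⟨x⟩⟩ :=
    eltIso (P := ((AlgSp.yon S).obj X).obj) t.left ⟨s ≫ (univ y).φ⟩ ⟨x⟩ (congrArg ULift.up hsφ)
  have hkey : nu y s ≫ y.map ι₁.hom = (quotMap K G aX).map ι₂.hom ≫ i.inv := by
    apply hom_ext_of_comp (toUniv y t)
    · exact (yb_nat y ι₁.hom).trans (congrArg (𝟙 t.left ≫ ·) hlam.symm)
    · have h1 : (nu y s ≫ y.map ι₁.hom) ≫ toUniv y t = ofSection (univ y) s :=
        (Category.assoc _ _ _).trans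
          ((congrArg (nu y s ≫ ·) (map_toUniv y ι₁.hom)).trans (nu_comp y s))
      have h2 : ((quotMap K G aX).map ι₂.hom ≫ i.inv) ≫ toUniv y t =
          (quotMap K G aX).map ι₂.hom ≫ lam' := Category.assoc _ _ _
      have h3 : ofSection (univ y) s = (quotMap K G aX).map ι₂.hom ≫ lam' := by
        apply hom_ext_triv
        refine (unitSec_ofSection_top (univ y) s).trans
          (Eq.trans ?_ (rfl : unitSec G t.left ≫ (G ◁ 𝟙 t.left) ≫ tp = _))
        rw [MonoidalCategory.whiskerLeft_id, Category.id_comp]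
      exact h1.trans (h3.trans h2.symm)
  have hcompat : y.map ι₁.hom ≫ i.hom = (nuIso y s).hom ≫ (quotMap K G aX).map ι₂.hom :=
    iso_comm (nuIso y s).symm i.symm _ _ hkey
  let e := fpIsoMk y (quotMap K G aX) (z := (repFun y).obj ⟨t.left, ⟨s⟩⟩)
    (z' := ⟨⟨t, ⟨t.left, ⟨x⟩⟩, i⟩, hz⟩) ι₁ ι₂ hcompat
  refine ⟨⟨t.left, ⟨s⟩⟩, e, ?_⟩
  have : (FibCat.overCat U).p.IsHomLift (𝟙 t.left) e.hom.hom.fst :=
    IsHomLift.map (Over.forget U) ι₁.hom
  exact Groth.Agent.H32.fp_isHomLift_of_fst y (quotMap K G aX) e.hom (𝟙 t.left)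

/-- the fibre product of `U ⟶ [X/G]` with `X ⟶ [X/G]` is the total space of the torsor -/
theorem isEquivOver_repFun : FibCat.IsEquivOver (repFun y) := by
  have := repFun_full y
  have := repFun_faithful y
  exact isEquivOver_of_fullyFaithful_of_fiberwise_essSurj _ (fun z => repFun_essSurj y z)

end Groth.Agent.H64.Quot
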