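import Mathlib.AlgebraicGeometry.Sites.Fpqc
import Mathlib.AlgebraicGeometry.Morphisms.Flat

set_option autoImplicit false
universe u
open CategoryTheory AlgebraicGeometry Opposite

/-! Global functions on a scheme are determined by their pullbacks to the members of a jointly
surjective family of flat morphisms. -/

namespace Groth.Agent.H64.Quot

theorem eq_of_forall_appTop_eq {T : Scheme.{u}} (R : Presieve T)
    (hR : R ∈ Scheme.precoverage @Flat T) (r r' : Γ(T, ⊤))
    (h : ∀ ⦃V : Scheme.{u}⦄ (f : V ⟶ T), R f → f.appTop r = f.appTop r') : r = r' := by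
  refine TopCat.Presheaf.section_ext T.sheaf ⊤ r r' ?_
  intro y hy
  obtain ⟨V, f, hf, x, hx⟩ := (Presieve.mem_comap_jointlySurjectivePrecoverage_iff _).mp hR.1 y
  have hx' : f x = y := hx
  subst hx'
  have hfl : Flat f := hR.2 hf
  have hflat : (f.stalkMap x).hom.Flat := Flat.stalkMap f x
  algebraize [(f.stalkMap x).hom]
  haveI : IsLocalHom (algebraMap (T.presheaf.stalk (f x)) (V.presheaf.stalk x)) :=
    (inferInstance : IsLocalHom (f.stalkMap x).hom)
  haveI : Module.FaithfullyFlat (T.presheaf.stalk (f x)) (V.presheaf.stalk x) :=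
    Module.FaithfullyFlat.of_flat_of_isLocalHom
  have hinj : Function.Injective (f.stalkMap x).hom :=
    FaithfulSMul.algebraMap_injective (T.presheaf.stalk (f x)) (V.presheaf.stalk x)
  apply hinj
  have h1 := Scheme.Hom.germ_stalkMap_apply f ⊤ x hy r
  have h2 := Scheme.Hom.germ_stalkMap_apply f ⊤ x hy r'
  erw [h1, h2]
  have h3 : f.app ⊤ r = f.app ⊤ r' := h f hf
  rw [h3]

end Groth.Agent.H64.Quot
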