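import Groth.Agent.H64.Quot.GeomPt
import Groth.Agent.H64.Quot.FpRep3
import Mathlib.AlgebraicGeometry.Sites.Proetale

set_option autoImplicit false
universe u
open CategoryTheory CategoryTheory.Limits MonoidalCategory CartesianMonoidalCategory MonObj GrpObj
  AlgebraicGeometry Opposite

/-! Isomorphism classes of `[X/G]` over an algebraically closed field are orbits. -/

namespace Groth.Agent.H64.Quot

open AlgSt

variable {S : Scheme.{u}} {K : Precoverage Scheme.{u}} [K.HasIsos] {G : Over S} [GrpObj G]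
  {X : Over S} {aX : AlgGrp.Action G X}

/-- an isomorphism over the identity between trivial torsors is given by a point of `G` -/
theorem exists_act_of_iso_triv {T : Over S} (x x' : T ⟶ X) (h : triv K aX T x ⟶ triv K aX T x')
    (hl : (QuotObj.forget K G aX).IsHomLift (𝟙 T) h) : ∃ g : T ⟶ G, lift g x' ≫ aX.act = x := by
  have hb : h.base = 𝟙 T :=
    (base_eq_eqToHom_of_isHomLift h hl rfl rfl).trans (eqToHom_refl _ _)
  obtain ⟨g, hg, -⟩ := ess_aux aX x x' h hb
  exact ⟨g, hg⟩

/-- two objects of the fibre with sections are isomorphic iff the images of the sections in `X`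
are in the same orbit -/
theorem nonempty_fiber_iso_iff {T : Over S} (A B : (QuotObj.forget K G aX).Fiber T)
    (tA : T ⟶ A.1.P) (tB : T ⟶ B.1.P) (hA : tA ≫ A.1.π = eqToHom A.2.symm)
    (hB : tB ≫ B.1.π = eqToHom B.2.symm) :
    Nonempty (A ≅ B) ↔ ∃ g : T ⟶ G, lift g (tA ≫ A.1.φ) ≫ aX.act = tB ≫ B.1.φ := by
  obtain ⟨eA, heA⟩ := exists_iso_triv_of_section A.1 A.2 tA hA
  obtain ⟨eB, heB⟩ := exists_iso_triv_of_section B.1 B.2 tB hB
  have heA' := Groth.Agent.H64.lift_inv_of_iso (QuotObj.forget K G aX) eA heA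
  have heB' := Groth.Agent.H64.lift_inv_of_iso (QuotObj.forget K G aX) eB heB
  constructor
  · rintro ⟨e⟩
    have he : (QuotObj.forget K G aX).IsHomLift (𝟙 T) e.inv.1 := e.inv.2
    exact exists_act_of_iso_triv _ _ (eB.hom ≫ e.inv.1 ≫ eA.inv)
      (Groth.Agent.H64.lift_id_comp_id _ heB (Groth.Agent.H64.lift_id_comp_id _ he heA'))
  · rintro ⟨g, hg⟩
    have hmid : (QuotObj.forget K G aX).IsHomLift (𝟙 T)
        (trivIso (K := K) aX (tB ≫ B.1.φ) (tA ≫ A.1.φ) g hg).inv :=
      Groth.Agent.H64.lift_inv_of_iso _ _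
        (isHomLift_homOfAct aX (𝟙 T) _ _ _ (by rw [Category.id_comp]; exact hg))
    refine ⟨fiberIsoMk (x := A) (y := B)
      (eA.symm ≪≫ (trivIso aX _ _ g hg).symm ≪≫ eB) ?_⟩
    exact Groth.Agent.H64.lift_id_comp_id _ heA' (Groth.Agent.H64.lift_id_comp_id _ hmid heB)

/-- every point of `X` is the image of a section of a (trivial) torsor -/
theorem exists_fiber_of_point {T : Over S} (x : T ⟶ X) :
    ∃ (A : (QuotObj.forget K G aX).Fiber T) (t : T ⟶ A.1.P),
      t ≫ A.1.π = eqToHom A.2.symm ∧ t ≫ A.1.φ = x :=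
  ⟨⟨triv K aX T x, rfl⟩, unitSec G T, unitSec_snd T, unitSec_act x⟩

end Groth.Agent.H64.Quot
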