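import Groth.Agent.H64.Quot.CatQuot2
import Groth.Agent.H64.Quot.FpRep2
import Groth.Agent.H40.FpqcTors
import Groth.Agent.H50.GeomPts

set_option autoImplicit false
universe u
open CategoryTheory CategoryTheory.Limits MonoidalCategory CartesianMonoidalCategory MonObj GrpObj
  AlgebraicGeometry Opposite

/-! Objects of `[X/G]` over algebraically closed fields. -/

namespace Groth.Agent.H64.Quot

open AlgSt

variable {S : Scheme.{u}} {K : Precoverage Scheme.{u}} {G : Over S} [GrpObj G]
  {X : Over S} {aX : AlgGrp.Action G X}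

/-- the structure morphism of a torsor inherits the properties of `G ⟶ S` which are stable under
base change and local for the fpqc topology (for any topology coarser than fpqc) -/
theorem prop_π_of_prop_G' (hK : K ≤ Scheme.fpqcPrecoverage) (P : MorphismProperty Scheme.{u})
    [IsZariskiLocalAtTarget P] [P.IsStableUnderBaseChange]
    (hP : P.DescendsAlong (@Surjective ⊓ @Flat ⊓ @QuasiCompact : MorphismProperty Scheme.{u}))
    (hG : P G.hom) (A : QuotObj K G aX) : P A.π.left := by
  obtain ⟨R, hR, hsec⟩ := A.loc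
  have hR' : R ∈ Scheme.fpqcPrecoverage A.base.left := hK _ hR
  refine Groth.Agent.H40.prop_of_fpqcPresieve P hP A.π.left hR' ?_
  intro V g hg
  obtain ⟨s, hs⟩ := hsec g hg
  have hs' : s ≫ A.π.left = g := hs
  let T : Over S := Over.mk (g ≫ A.base.hom)
  let g' : T ⟶ A.base := Over.homMk g rfl
  let s' : T ⟶ A.P := Over.homMk s (by
    change s ≫ A.P.hom = g ≫ A.base.hom
    rw [← Over.w A.π, ← Category.assoc, hs'])
  have hsg : s' ≫ A.π = g' := by
    apply Over.OverMorphism.ext
    exact hs'
  have hc : IsPullback ((G ◁ s') ≫ A.act.act) (snd G T) A.π (s' ≫ A.π) :=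
    (isPullback_whiskerLeft (G := G) s').paste_horiz A.cart
  rw [hsg] at hc
  have hpb : IsPullback ((G ◁ s') ≫ A.act.act).left (snd G T).left A.π.left g :=
    hc.map (Over.forget S)
  have hpbG : IsPullback (fst G T).left (snd G T).left G.hom T.hom := by
    simpa using IsPullback.of_hasPullback G.hom T.hom
  have h1 : P (snd G T).left := MorphismProperty.of_isPullback (P := P) hpbG hG
  have e := hpb.isoPullback_inv_snd
  rw [← e]
  exact (P.cancel_left_of_respectsIso _ _).mpr h1

/-- over an algebraically closed field a torsor whose structure morphism is locally of finite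
type and surjective has a section -/
theorem exists_section_algClosed {Ω : Type u} [Field Ω] [IsAlgClosed Ω]
    (t : Spec (CommRingCat.of Ω) ⟶ S) (A : QuotObj K G aX) (hA : A.base = Over.mk t)
    (h1 : LocallyOfFiniteType A.π.left) (h2 : Surjective A.π.left) :
    ∃ s : Over.mk t ⟶ A.P, s ≫ A.π = eqToHom hA.symm := by
  obtain ⟨base, P, act, π, cart, loc, φ, eqv⟩ := A
  dsimp only at hA h1 h2 ⊢
  subst hA
  have hne : Nonempty ↥P.left := by
    obtain ⟨z, -⟩ := h2.surj (IsLocalRing.closedPoint Ω)
    exact ⟨z⟩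
  obtain ⟨τ, hτ⟩ := Groth.Agent.H50.exists_section_over π h1 hne
  exact ⟨τ, hτ⟩

/-- isomorphisms of the fibre category from isomorphisms over the identity -/
def fiberIsoMk {𝒳 𝒮 : Type*} [Category 𝒳] [Category 𝒮] {p : 𝒳 ⥤ 𝒮} {T : 𝒮} {x y : p.Fiber T}
    (e : x.1 ≅ y.1) (he : p.IsHomLift (𝟙 T) e.hom) : x ≅ y where
  hom := ⟨e.hom, he⟩
  inv := ⟨e.inv, Groth.Agent.H64.lift_inv_of_iso p e he⟩
  hom_inv_id := Subtype.ext e.hom_inv_id
  inv_hom_id := Subtype.ext e.inv_hom_id

section triv

variable [K.HasIsos]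

/-- a torsor with a section over its base is trivial -/
theorem exists_iso_triv_of_section {T : Over S} (A : QuotObj K G aX) (hA : A.base = T)
    (s : T ⟶ A.P) (hs : s ≫ A.π = eqToHom hA.symm) :
    ∃ e : triv K aX T (s ≫ A.φ) ≅ A, (QuotObj.forget K G aX).IsHomLift (𝟙 T) e.hom := by
  have hb : (ofSection A s).base = eqToHom hA.symm := hs
  have : IsIso (ofSection A s).base := by
    rw [hb]
    exact ⟨⟨eqToHom hA, (eqToHom_trans _ _).trans (eqToHom_refl _ rfl),
      (eqToHom_trans _ _).trans (eqToHom_refl _ rfl)⟩⟩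
  have : IsIso (ofSection A s) := isIso_of_isIso_base _
  exact ⟨asIso (ofSection A s),
    isHomLift_id_of_eq (QuotObj.forget K G aX) (ofSection A s) rfl hA hs⟩

end triv

end Groth.Agent.H64.Quot
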