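import Groth.Agent.H64.Quot.Prestack
import Groth.Agent.H84.StkRefine

set_option autoImplicit false
universe u
open CategoryTheory CategoryTheory.Limits MonoidalCategory CartesianMonoidalCategory MonObj GrpObj
  AlgebraicGeometry Opposite

/-! A descent datum for `[X/G]` along a sieve: the underlying family of torsors. -/

namespace Groth.Agent.H64.Quot

open AlgSt Groth.Agent.H84.StkConcrete Groth.Agent.H84.StkRefine

variable {S : Scheme.{u}} {K : Precoverage Scheme.{u}} {G : Over S} [GrpObj G] {X : Over S}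
  {aX : AlgGrp.Action G X} {U : Over S} (R : Sieve U) (D : Stk.sieveCat R ⥤ᵇ QuotSt K G aX)

/-- the torsor of the descent datum over an arrow of the sieve -/
abbrev dObj {V : Over S} (f : V ⟶ U) (hf : R f) : QuotObj K G aX := D.obj (mkObj R f hf)

theorem dbase {V : Over S} (f : V ⟶ U) (hf : R f) : (dObj R D f hf).base = V :=
  D.w_obj (mkObj R f hf)

/-- the structure map of the torsor to the source of the arrow -/
noncomputable def dρ {V : Over S} (f : V ⟶ U) (hf : R f) : (dObj R D f hf).P ⟶ V :=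
  (dObj R D f hf).π ≫ eqToHom (dbase R D f hf)

/-- the transition morphisms of the descent datum -/
noncomputable def dMap {V V' : Over S} {f : V ⟶ U} {hf : R f} {f' : V' ⟶ U} {hf' : R f'}
    (u : V' ⟶ V) (hu : u ≫ f = f') : dObj R D f' hf' ⟶ dObj R D f hf :=
  D.map (mkHom R (r' := mkObj R f' hf') (r := mkObj R f hf) u hu)

theorem dMap_isHomLift {V V' : Over S} {f : V ⟶ U} {hf : R f} {f' : V' ⟶ U} {hf' : R f'}
    (u : V' ⟶ V) (hu : u ≫ f = f') :
    (QuotSt K G aX).p.IsHomLift u (dMap R D (hf := hf) (hf' := hf') u hu) :=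
  sieve_map_isHomLift R D (mkHom R (r' := mkObj R f' hf') (r := mkObj R f hf) u hu)

theorem dMap_base {V V' : Over S} {f : V ⟶ U} {hf : R f} {f' : V' ⟶ U} {hf' : R f'}
    (u : V' ⟶ V) (hu : u ≫ f = f') :
    (dMap R D (hf := hf) (hf' := hf') u hu).base =
      eqToHom (dbase R D f' hf') ≫ u ≫ eqToHom (dbase R D f hf).symm := by
  have := dMap_isHomLift R D (hf := hf) (hf' := hf') u hu
  exact IsHomLift.fac' (QuotSt K G aX).p u _

theorem dMap_id {V : Over S} {f : V ⟶ U} {hf : R f} (hu : 𝟙 V ≫ f = f) :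
    dMap R D (hf := hf) (hf' := hf) (𝟙 V) hu = 𝟙 _ := by
  have : mkHom R (r' := mkObj R f hf) (r := mkObj R f hf) (𝟙 V) hu = 𝟙 _ := by
    apply mkHom_ext
    rfl
  change D.map _ = _
  rw [this, D.map_id]

theorem dMap_comp {V V' V'' : Over S} {f : V ⟶ U} {hf : R f} {f' : V' ⟶ U} {hf' : R f'}
    {f'' : V'' ⟶ U} {hf'' : R f''} (u : V' ⟶ V) (hu : u ≫ f = f') (u' : V'' ⟶ V')
    (hu' : u' ≫ f' = f'') (huu : (u' ≫ u) ≫ f = f'') :
    dMap R D (hf := hf) (hf' := hf'') (u' ≫ u) huu =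
      dMap R D (hf := hf') (hf' := hf'') u' hu' ≫ dMap R D (hf := hf) (hf' := hf') u hu := by
  have : mkHom R (r' := mkObj R f'' hf'') (r := mkObj R f hf) (u' ≫ u) huu =
      mkHom R (r' := mkObj R f'' hf'') (r := mkObj R f' hf') u' hu' ≫
        mkHom R (r' := mkObj R f' hf') (r := mkObj R f hf) u hu := by
    apply mkHom_ext
    rfl
  change D.map _ = D.map _ ≫ D.map _
  rw [this, D.map_comp]

/-- the transition maps on total spaces -/
noncomputable abbrev dτ {V V' : Over S} {f : V ⟶ U} {hf : R f} {f' : V' ⟶ U} {hf' : R f'}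
    (u : V' ⟶ V) (hu : u ≫ f = f') : (dObj R D f' hf').P ⟶ (dObj R D f hf).P :=
  (dMap R D (hf := hf) (hf' := hf') u hu).top

theorem dτ_id {V : Over S} {f : V ⟶ U} {hf : R f} (hu : 𝟙 V ≫ f = f) :
    dτ R D (hf := hf) (hf' := hf) (𝟙 V) hu = 𝟙 _ := by
  change (dMap R D (hf := hf) (hf' := hf) (𝟙 V) hu).top = _
  rw [dMap_id]
  rfl

theorem dτ_comp {V V' V'' : Over S} {f : V ⟶ U} {hf : R f} {f' : V' ⟶ U} {hf' : R f'}
    {f'' : V'' ⟶ U} {hf'' : R f''} (u : V' ⟶ V) (hu : u ≫ f = f') (u' : V'' ⟶ V')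
    (hu' : u' ≫ f' = f'') (huu : (u' ≫ u) ≫ f = f'') :
    dτ R D (hf := hf) (hf' := hf'') (u' ≫ u) huu =
      dτ R D (hf := hf') (hf' := hf'') u' hu' ≫ dτ R D (hf := hf) (hf' := hf') u hu := by
  change (dMap R D (hf := hf) (hf' := hf'') (u' ≫ u) huu).top = _
  rw [dMap_comp R D u hu u' hu' huu]
  rfl

theorem dτ_cart {V V' : Over S} {f : V ⟶ U} {hf : R f} {f' : V' ⟶ U} {hf' : R f'}
    (u : V' ⟶ V) (hu : u ≫ f = f') :
    IsPullback (dτ R D (hf := hf) (hf' := hf') u hu) (dρ R D f' hf') (dρ R D f hf) u := by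
  refine IsPullback.of_iso (dMap R D (hf := hf) (hf' := hf') u hu).cart (Iso.refl _) (Iso.refl _)
    (eqToIso (dbase R D f' hf')) (eqToIso (dbase R D f hf)) ?_ ?_ ?_ ?_
  · simp
  · simp [dρ]
  · simp [dρ]
  · rw [dMap_base]
    simp

theorem dτ_ρ {V V' : Over S} {f : V ⟶ U} {hf : R f} {f' : V' ⟶ U} {hf' : R f'}
    (u : V' ⟶ V) (hu : u ≫ f = f') :
    dτ R D (hf := hf) (hf' := hf') u hu ≫ dρ R D f hf = dρ R D f' hf' ≫ u :=
  (dτ_cart R D u hu).w

theorem dτ_eqv {V V' : Over S} {f : V ⟶ U} {hf : R f} {f' : V' ⟶ U} {hf' : R f'}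
    (u : V' ⟶ V) (hu : u ≫ f = f') :
    (dObj R D f' hf').act.act ≫ dτ R D (hf := hf) (hf' := hf') u hu =
      (G ◁ dτ R D (hf := hf) (hf' := hf') u hu) ≫ (dObj R D f hf).act.act :=
  (dMap R D (hf := hf) (hf' := hf') u hu).eqv

theorem dτ_φ {V V' : Over S} {f : V ⟶ U} {hf : R f} {f' : V' ⟶ U} {hf' : R f'}
    (u : V' ⟶ V) (hu : u ≫ f = f') :
    dτ R D (hf := hf) (hf' := hf') u hu ≫ (dObj R D f hf).φ = (dObj R D f' hf').φ :=
  (dMap R D (hf := hf) (hf' := hf') u hu).wφ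

theorem dρ_actPt {V : Over S} (f : V ⟶ U) (hf : R f) {W : Over S} (γ : W ⟶ G)
    (p : W ⟶ (dObj R D f hf).P) : actPt (dObj R D f hf) γ p ≫ dρ R D f hf = p ≫ dρ R D f hf := by
  rw [dρ, ← Category.assoc, actPt_π, Category.assoc]

end Groth.Agent.H64.Quot
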