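import Groth.Agent.H64.Quot.GlueRep2

set_option autoImplicit false
universe u
open CategoryTheory CategoryTheory.Limits MonoidalCategory CartesianMonoidalCategory MonObj GrpObj
  AlgebraicGeometry Opposite

/-! The object of `[X/G]` glued from a descent datum. -/

namespace Groth.Agent.H64.Quot

open AlgSt AlgSp

variable {S : Scheme.{u}} {G : Over S} [GrpObj G] {X : Over S}
  {aX : AlgGrp.Action G X} {U : Over S} {R : Sieve U}
  {D : Stk.sieveCat R ⥤ᵇ QuotSt Scheme.fppfPrecoverage G aX}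

theorem GPt.ofPt_τ {V V' : Over S} {f : V ⟶ U} {hf : R f} {f' : V' ⟶ U} {hf' : R f'}
    (u : V' ⟶ V) (hu : u ≫ f = f') {T : Over S} (q : T ⟶ (dObj R D f' hf').P) :
    GPt.ofPt f hf (q ≫ dτ R D (hf := hf) (hf' := hf') u hu) = GPt.ofPt f' hf' q := by
  have hc : (GPt.ofPt f hf (q ≫ dτ R D (hf := hf) (hf' := hf') u hu)).c =
      (GPt.ofPt f' hf' q).c := by
    rw [GPt.ofPt_c, GPt.ofPt_c, Category.assoc, ← Category.assoc (dτ R D u hu), dτ_ρ,
      Category.assoc, hu]
  apply GPt.ext' hc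
  intro W w f'' hf'' e
  have hu'' : (w ≫ q ≫ dρ R D f' hf') ≫ f' = f'' := by
    rw [← e, GPt.ofPt_c]
    simp only [Category.assoc]
    rw [← Category.assoc (dτ R D u hu), dτ_ρ, Category.assoc, hu]
  refine GPt.ofPtσ_unique f' hf' q w f'' hf'' _ hu'' rfl _ ?_ ?_
  · apply sec_ext u hu
    · have huu : ((w ≫ q ≫ dρ R D f' hf') ≫ u) ≫ f = f'' := by rw [Category.assoc, hu, hu'']
      rw [Category.assoc, ← dτ_comp R D u hu _ hu'' huu,
        GPt.ofPt_σ_τ f hf _ w f'' hf'' e _ huu (by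
          simp only [Category.assoc]
          rw [dτ_ρ]),
        Category.assoc]
    · rw [Category.assoc, dτ_ρ, ← Category.assoc, GPt.sec, Category.id_comp, Category.assoc]
  · exact GPt.sec _ _ _ _ _

section glued

variable {P : Over S} (e : (yon S).obj P ≅ gSh R D)

/-- the points of the representing scheme as points of the glued torsor -/
noncomputable def pt {T : Over S} (q : T ⟶ P) : GPt R D T := e.hom.hom.app (op T) ⟨q⟩

/-- the inverse of `pt` -/
noncomputable def ptInv {T : Over S} (x : GPt R D T) : T ⟶ P := (e.inv.hom.app (op T) x).down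

theorem ptInv_pt {T : Over S} (q : T ⟶ P) : ptInv e (pt e q) = q := by
  have h := congrArg (fun k => (k.hom.app (op T) (⟨q⟩ : ULift (T ⟶ P))).down) e.hom_inv_id
  exact h

theorem pt_ptInv {T : Over S} (x : GPt R D T) : pt e (ptInv e x) = x := by
  have h := congrArg (fun k => k.hom.app (op T) x) e.inv_hom_id
  exact h

theorem pt_injective {T : Over S} {q q' : T ⟶ P} (h : pt e q = pt e q') : q = q' := by
  rw [← ptInv_pt e q, h, ptInv_pt]

theorem pt_comp {T T' : Over S} (g : T' ⟶ T) (q : T ⟶ P) : pt e (g ≫ q) = (pt e q).pull g := by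
  have h := NatTrans.naturality_apply e.hom.hom g.op (⟨q⟩ : ULift (T ⟶ P))
  exact h

/-- the structure map of the glued torsor -/
noncomputable def gπ : P ⟶ U := (pt e (𝟙 P)).c

theorem comp_gπ {T : Over S} (q : T ⟶ P) : q ≫ gπ e = (pt e q).c := by
  have h := pt_comp e q (𝟙 P)
  rw [Category.comp_id] at h
  rw [h]
  rfl

/-- the action on the glued torsor -/
noncomputable def gact : G ⊗ P ⟶ P := ptInv e ((pt e (snd G P)).act (fst G P))

theorem pt_gact {T : Over S} (ga : T ⟶ G) (q : T ⟶ P) :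
    pt e (lift ga q ≫ gact e) = (pt e q).act ga := by
  rw [pt_comp, gact, pt_ptInv, GPt.pull_act, ← pt_comp, lift_snd, lift_fst]

/-- the action on the glued torsor -/
noncomputable def gAction : AlgGrp.Action G P :=
  actionOfPts (gact e)
    (fun p => pt_injective e (by rw [pt_gact, GPt.act_one]))
    (fun g h p => pt_injective e (by rw [pt_gact, GPt.act_mul, pt_gact, pt_gact]))

variable (hR : R ∈ J S U)

/-- the equivariant map from the glued torsor -/
noncomputable def gΦ : P ⟶ X := GPt.gφ hR (pt e (𝟙 P))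

theorem comp_gΦ {T : Over S} (q : T ⟶ P) : q ≫ gΦ e hR = GPt.gφ hR (pt e q) := by
  have h := pt_comp e q (𝟙 P)
  rw [Category.comp_id] at h
  rw [h, GPt.gφ_pull]
  rfl

theorem gact_gΦ : gact e ≫ gΦ e hR = (G ◁ gΦ e hR) ≫ aX.act := by
  have h1 : gact e = lift (fst G P) (snd G P) ≫ gact e := by
    rw [lift_fst_snd, Category.id_comp]
  have h2 : lift (fst G P) (snd G P ≫ gΦ e hR) = G ◁ gΦ e hR := by
    apply CartesianMonoidalCategory.hom_ext
    · rw [lift_fst, whiskerLeft_fst]
    · rw [lift_snd, whiskerLeft_snd]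
  rw [comp_gΦ, h1, pt_gact, GPt.gφ_act, ← comp_gΦ, h2]

theorem gact_gπ : gact e ≫ gπ e = snd G P ≫ gπ e := by
  have h1 : gact e = lift (fst G P) (snd G P) ≫ gact e := by
    rw [lift_fst_snd, Category.id_comp]
  rw [comp_gπ, comp_gπ, h1, pt_gact, GPt.act_c]

include hR in
theorem exists_lift_gact {T : Over S} (p₁ p₂ : T ⟶ P) (h : p₁ ≫ gπ e = p₂ ≫ gπ e) :
    ∃ l : T ⟶ G ⊗ P, l ≫ gact e = p₁ ∧ l ≫ snd G P = p₂ := by
  rw [comp_gπ, comp_gπ] at h
  obtain ⟨ga, hga⟩ := GPt.exists_act_eq hR (pt e p₁) (pt e p₂) h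
  refine ⟨lift ga p₂, ?_, lift_snd _ _⟩
  apply pt_injective e
  rw [pt_gact, hga]

include hR in
theorem lift_gact_unique {T : Over S} (l l' : T ⟶ G ⊗ P) (h1 : l ≫ gact e = l' ≫ gact e)
    (h2 : l ≫ snd G P = l' ≫ snd G P) : l = l' := by
  have e1 : l = lift (l ≫ fst G P) (l ≫ snd G P) := by
    apply CartesianMonoidalCategory.hom_ext
    · rw [lift_fst]
    · rw [lift_snd]
  have e2 : l' = lift (l' ≫ fst G P) (l ≫ snd G P) := by
    apply CartesianMonoidalCategory.hom_ext
    · rw [lift_fst]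
    · rw [lift_snd, h2]
  have h3 : (pt e (l ≫ snd G P)).act (l ≫ fst G P) = (pt e (l ≫ snd G P)).act (l' ≫ fst G P) := by
    rw [← pt_gact, ← pt_gact, ← e1, ← e2, h1]
  have h4 := GPt.act_inj hR _ _ _ h3
  rw [e1, e2, h4]

include hR in
theorem gcart : IsPullback (gact e) (snd G P) (gπ e) (gπ e) := by
  refine ⟨⟨gact_gπ e⟩, ⟨PullbackCone.IsLimit.mk (gact_gπ e)
    (fun c => (exists_lift_gact e hR c.fst c.snd c.condition).choose)
    (fun c => (exists_lift_gact e hR c.fst c.snd c.condition).choose_spec.1)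
    (fun c => (exists_lift_gact e hR c.fst c.snd c.condition).choose_spec.2)
    (fun c m h1 h2 => ?_)⟩⟩
  apply lift_gact_unique e hR
  · rw [h1, (exists_lift_gact e hR c.fst c.snd c.condition).choose_spec.1]
  · rw [h2, (exists_lift_gact e hR c.fst c.snd c.condition).choose_spec.2]

end glued

end Groth.Agent.H64.Quot
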