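import Groth.Agent.H64.Quot.GlueSheaf

set_option autoImplicit false
universe u
open CategoryTheory CategoryTheory.Limits MonoidalCategory CartesianMonoidalCategory MonObj GrpObj
  AlgebraicGeometry Opposite

/-! Points of the glued torsor: points coming from the members of the descent datum, the action
of `G`, the equivariant map to `X`. -/

namespace Groth.Agent.H64.Quot

open AlgSt

variable {S : Scheme.{u}} {K : Precoverage Scheme.{u}} {G : Over S} [GrpObj G] {X : Over S}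
  {aX : AlgGrp.Action G X} {U : Over S} {R : Sieve U} {D : Stk.sieveCat R ⥤ᵇ QuotSt K G aX}

theorem dτ_congr {V V' : Over S} {f : V ⟶ U} {hf : R f} {f' : V' ⟶ U} {hf' : R f'}
    {u u' : V' ⟶ V} (h : u = u') (hu : u ≫ f = f') (hu' : u' ≫ f = f') :
    dτ R D (hf := hf) (hf' := hf') u hu = dτ R D (hf := hf) (hf' := hf') u' hu' := by
  subst h
  rfl

section wrappers

variable [(QuotSh.J K S).Subcanonical]

theorem hom_ext_of_pullback {Y Z U : Over S} (R : Sieve U) (hR : R ∈ QuotSh.J K S U) (c : Y ⟶ U)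
    {a b : Y ⟶ Z} (h : ∀ ⦃W : Over S⦄ (w : W ⟶ Y), R (w ≫ c) → w ≫ a = w ≫ b) : a = b :=
  hom_ext_of_mem (K := K) (R.pullback c) ((QuotSh.J K S).pullback_stable c hR)
    (fun _ w hw => h w hw)

theorem exists_glue_of_pullback {Y Z U : Over S} (R : Sieve U) (hR : R ∈ QuotSh.J K S U)
    (c : Y ⟶ U) (x : ∀ ⦃W : Over S⦄ (w : W ⟶ Y), R (w ≫ c) → (W ⟶ Z))
    (hx : ∀ ⦃W W' : Over S⦄ (w : W ⟶ Y) (hw : R (w ≫ c)) (v : W' ⟶ W)
      (hw' : R ((v ≫ w) ≫ c)), x (v ≫ w) hw' = v ≫ x w hw) :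
    ∃ a : Y ⟶ Z, ∀ ⦃W : Over S⦄ (w : W ⟶ Y) (hw : R (w ≫ c)), w ≫ a = x w hw := by
  obtain ⟨a, ha⟩ := exists_glue_of_mem (K := K) (R.pullback c)
    ((QuotSh.J K S).pullback_stable c hR) (fun W w hw => x w hw)
    (fun W W' w hw v => hx w hw v _)
  exact ⟨a, fun W w hw => ha w hw⟩

end wrappers

/-- sections of a member of the descent datum are determined by their image in another member -/
theorem sec_ext {V V' : Over S} {f : V ⟶ U} {hf : R f} {f' : V' ⟶ U} {hf' : R f'}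
    (u : V' ⟶ V) (hu : u ≫ f = f') {W : Over S} (s₁ s₂ : W ⟶ (dObj R D f' hf').P)
    (h1 : s₁ ≫ dτ R D (hf := hf) (hf' := hf') u hu = s₂ ≫ dτ R D (hf := hf) (hf' := hf') u hu)
    (h2 : s₁ ≫ dρ R D f' hf' = s₂ ≫ dρ R D f' hf') : s₁ = s₂ :=
  (dτ_cart R D u hu).hom_ext h1 h2

namespace GPt

theorem σ_eq_of_eq {T : Over S} {x x' : GPt R D T} (h : x = x') {W : Over S} (w : W ⟶ T)
    (f : W ⟶ U) (hf : R f) (e : w ≫ x.c = f) (e' : w ≫ x'.c = f) :
    x.σ w f hf e = x'.σ w f hf e' := by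
  subst h
  rfl

/-- the local sections of the point defined by a point of a member of the descent datum -/
noncomputable def ofPtσ {V : Over S} (f : V ⟶ U) (hf : R f) {T : Over S}
    (q : T ⟶ (dObj R D f hf).P) {W : Over S} (w : W ⟶ T) (f' : W ⟶ U) (hf' : R f') (u : W ⟶ V)
    (hu : u ≫ f = f') (huq : w ≫ q ≫ dρ R D f hf = u) : W ⟶ (dObj R D f' hf').P :=
  (dτ_cart R D (hf := hf) (hf' := hf') u hu).lift (w ≫ q) (𝟙 W)
    (by rw [Category.id_comp, Category.assoc, huq])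

theorem ofPtσ_τ {V : Over S} (f : V ⟶ U) (hf : R f) {T : Over S}
    (q : T ⟶ (dObj R D f hf).P) {W : Over S} (w : W ⟶ T) (f' : W ⟶ U) (hf' : R f') (u : W ⟶ V)
    (hu : u ≫ f = f') (huq : w ≫ q ≫ dρ R D f hf = u) :
    ofPtσ f hf q w f' hf' u hu huq ≫ dτ R D (hf := hf) (hf' := hf') u hu = w ≫ q :=
  IsPullback.lift_fst _ _ _ _

theorem ofPtσ_ρ {V : Over S} (f : V ⟶ U) (hf : R f) {T : Over S}
    (q : T ⟶ (dObj R D f hf).P) {W : Over S} (w : W ⟶ T) (f' : W ⟶ U) (hf' : R f') (u : W ⟶ V)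
    (hu : u ≫ f = f') (huq : w ≫ q ≫ dρ R D f hf = u) :
    ofPtσ f hf q w f' hf' u hu huq ≫ dρ R D f' hf' = 𝟙 W :=
  IsPullback.lift_snd _ _ _ _

theorem ofPtσ_unique {V : Over S} (f : V ⟶ U) (hf : R f) {T : Over S}
    (q : T ⟶ (dObj R D f hf).P) {W : Over S} (w : W ⟶ T) (f' : W ⟶ U) (hf' : R f') (u : W ⟶ V)
    (hu : u ≫ f = f') (huq : w ≫ q ≫ dρ R D f hf = u) (s : W ⟶ (dObj R D f' hf').P)
    (h1 : s ≫ dτ R D (hf := hf) (hf' := hf') u hu = w ≫ q) (h2 : s ≫ dρ R D f' hf' = 𝟙 W) :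
    s = ofPtσ f hf q w f' hf' u hu huq :=
  sec_ext u hu _ _ (h1.trans (ofPtσ_τ f hf q w f' hf' u hu huq).symm)
    (h2.trans (ofPtσ_ρ f hf q w f' hf' u hu huq).symm)

/-- the point of the glued torsor defined by a point of a member of the descent datum -/
noncomputable def ofPt {V : Over S} (f : V ⟶ U) (hf : R f) {T : Over S}
    (q : T ⟶ (dObj R D f hf).P) : GPt R D T where
  c := q ≫ dρ R D f hf ≫ f
  σ W w f' hf' e := ofPtσ f hf q w f' hf' (w ≫ q ≫ dρ R D f hf)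
    (by rw [← e, Category.assoc, Category.assoc]) rfl
  sec W w f' hf' e := ofPtσ_ρ _ _ _ _ _ _ _ _ _
  nat W W' v w f' hf' e f'' hf'' hu := by
    have hu1 : (w ≫ q ≫ dρ R D f hf) ≫ f = f' := by rw [← e, Category.assoc, Category.assoc]
    have hu2 : (v ≫ w ≫ q ≫ dρ R D f hf) ≫ f = f'' := by rw [Category.assoc, hu1, hu]
    have hu3 : ((v ≫ w) ≫ q ≫ dρ R D f hf) ≫ f = f'' := by rw [← hu2]; simp
    apply sec_ext (w ≫ q ≫ dρ R D f hf) hu1
    · have h1 : dτ R D (hf := hf') (hf' := hf'') v hu ≫ dτ R D (hf := hf) (hf' := hf') _ hu1 =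
          dτ R D (hf := hf) (hf' := hf'') ((v ≫ w) ≫ q ≫ dρ R D f hf) hu3 :=
        (dτ_comp R D _ hu1 v hu hu2).symm.trans (dτ_congr (Category.assoc v w _).symm hu2 hu3)
      rw [Category.assoc, h1, ofPtσ_τ, Category.assoc, Category.assoc, ofPtσ_τ]
    · rw [Category.assoc, dτ_ρ, ← Category.assoc, ofPtσ_ρ, Category.assoc, ofPtσ_ρ,
        Category.id_comp, Category.comp_id]

@[simp] theorem ofPt_c {V : Over S} (f : V ⟶ U) (hf : R f) {T : Over S}
    (q : T ⟶ (dObj R D f hf).P) : (ofPt f hf q).c = q ≫ dρ R D f hf ≫ f := rfl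

theorem ofPt_σ_τ {V : Over S} (f : V ⟶ U) (hf : R f) {T : Over S} (q : T ⟶ (dObj R D f hf).P)
    {W : Over S} (w : W ⟶ T) (f' : W ⟶ U) (hf' : R f') (e : w ≫ (ofPt f hf q).c = f')
    (u : W ⟶ V) (hu : u ≫ f = f') (huq : w ≫ q ≫ dρ R D f hf = u) :
    (ofPt f hf q).σ w f' hf' e ≫ dτ R D (hf := hf) (hf' := hf') u hu = w ≫ q := by
  subst huq
  exact ofPtσ_τ f hf q w f' hf' _ hu rfl

theorem ofPt_pull {V : Over S} (f : V ⟶ U) (hf : R f) {T T' : Over S} (g : T' ⟶ T)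
    (q : T ⟶ (dObj R D f hf).P) : (ofPt f hf q).pull g = ofPt f hf (g ≫ q) := by
  apply ext' (by simp)
  intro W w f' hf' e
  rw [pull_σ]
  refine ofPtσ_unique f hf (g ≫ q) w f' hf' _ _ rfl _ ?_ ?_
  · rw [ofPt_σ_τ f hf q (w ≫ g) f' hf' _ _ _ (by simp)]
    simp
  · exact (ofPt f hf q).sec _ _ _ _

theorem ofPt_inj {V : Over S} (f : V ⟶ U) (hf : R f) {T : Over S}
    (q q' : T ⟶ (dObj R D f hf).P) (h : ofPt f hf q = ofPt f hf q')
    (hρ : q ≫ dρ R D f hf = q' ≫ dρ R D f hf) : q = q' := by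
  have hf' : R ((q ≫ dρ R D f hf) ≫ f) := R.downward_closed hf _
  have e : 𝟙 T ≫ (ofPt f hf q).c = (q ≫ dρ R D f hf) ≫ f := by simp
  have e' : 𝟙 T ≫ (ofPt f hf q').c = (q ≫ dρ R D f hf) ≫ f := by rw [← h]; exact e
  have h1 := ofPt_σ_τ f hf q (𝟙 T) _ hf' e (q ≫ dρ R D f hf) rfl (Category.id_comp _)
  have h2 := ofPt_σ_τ f hf q' (𝟙 T) _ hf' e' (q ≫ dρ R D f hf) rfl
    (by rw [Category.id_comp, hρ])
  have h3 := σ_eq_of_eq h (𝟙 T) _ hf' e e'
  rw [Category.id_comp] at h1 h2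
  rw [← h1, ← h2, h3]

theorem exists_ofPt {V : Over S} (f : V ⟶ U) (hf : R f) {T : Over S} (x : GPt R D T)
    (b : T ⟶ V) (hb : x.c = b ≫ f) :
    ∃ q : T ⟶ (dObj R D f hf).P, ofPt f hf q = x ∧ q ≫ dρ R D f hf = b := by
  have hbf : R (b ≫ f) := R.downward_closed hf b
  have e0 : 𝟙 T ≫ x.c = b ≫ f := by rw [Category.id_comp, hb]
  let q : T ⟶ (dObj R D f hf).P :=
    x.σ (𝟙 T) (b ≫ f) hbf e0 ≫ dτ R D (hf := hf) (hf' := hbf) b rfl
  have hqρ : q ≫ dρ R D f hf = b := by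
    change (_ ≫ _) ≫ _ = _
    rw [Category.assoc, dτ_ρ, ← Category.assoc, x.sec, Category.id_comp]
  refine ⟨q, ?_, hqρ⟩
  symm
  have hc : x.c = (ofPt f hf q).c := by
    rw [ofPt_c, ← Category.assoc, hqρ, hb]
  apply ext' hc
  intro W w f' hf' e
  refine ofPtσ_unique f hf q w f' hf' _ _ rfl _ ?_ ?_
  · have hw : w ≫ b ≫ f = f' := by rw [← hb]; exact e
    have hwb : (w ≫ b) ≫ f = f' := by rw [Category.assoc]; exact hw
    have h1 : dτ R D (hf := hf) (hf' := hf') (w ≫ q ≫ dρ R D f hf)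
        (by rw [hqρ]; exact hwb) =
        dτ R D (hf := hbf) (hf' := hf') w hw ≫ dτ R D (hf := hf) (hf' := hbf) b rfl :=
      (dτ_congr (by rw [hqρ]) _ hwb).trans (dτ_comp R D b rfl w hw hwb)
    have h2 := x.nat w (𝟙 T) (b ≫ f) hbf e0 f' hf' hw
    have h3 : x.σ (w ≫ 𝟙 T) f' hf' (by rw [Category.comp_id]; exact e) = x.σ w f' hf' e :=
      x.σ_congr (Category.comp_id _) _ _ _ _
    rw [h3] at h2
    rw [h1, ← Category.assoc, h2, Category.assoc]
  · exact x.sec _ _ _ _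

/-- the action of `G` on points of the glued torsor -/
noncomputable def act {T : Over S} (γ : T ⟶ G) (x : GPt R D T) : GPt R D T where
  c := x.c
  σ W w f hf e := actPt (dObj R D f hf) (w ≫ γ) (x.σ w f hf e)
  sec W w f hf e := by rw [dρ_actPt, x.sec]
  nat W W' v w f hf e f' hf' hu := by
    rw [eqv_pt _ (dτ_eqv R D v hu), x.nat v w f hf e f' hf' hu, actPt_comp, Category.assoc]

@[simp] theorem act_c {T : Over S} (γ : T ⟶ G) (x : GPt R D T) : (x.act γ).c = x.c := rfl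

theorem act_σ {T : Over S} (γ : T ⟶ G) (x : GPt R D T) {W : Over S} (w : W ⟶ T)
    (f : W ⟶ U) (hf : R f) (e : w ≫ x.c = f) :
    (x.act γ).σ w f hf e = actPt (dObj R D f hf) (w ≫ γ) (x.σ w f hf e) := rfl

theorem act_one {T : Over S} (x : GPt R D T) : x.act 1 = x := by
  refine ext' (x := x.act 1) (y := x) rfl ?_
  intro W w f hf e
  change actPt (dObj R D f hf) (w ≫ 1) (x.σ w f hf e) = _
  rw [MonObj.comp_one, actPt_one]

theorem act_mul {T : Over S} (γ δ : T ⟶ G) (x : GPt R D T) :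
    x.act (γ * δ) = (x.act δ).act γ := by
  refine ext' (x := x.act (γ * δ)) (y := (x.act δ).act γ) rfl ?_
  intro W w f hf e
  change actPt (dObj R D f hf) (w ≫ (γ * δ)) (x.σ w f hf e) =
    actPt (dObj R D f hf) (w ≫ γ) (actPt (dObj R D f hf) (w ≫ δ) (x.σ w f hf e))
  rw [comp_mul, actPt_mul]

theorem pull_act {T T' : Over S} (g : T' ⟶ T) (γ : T ⟶ G) (x : GPt R D T) :
    (x.act γ).pull g = (x.pull g).act (g ≫ γ) := by
  refine ext' (x := (x.act γ).pull g) (y := (x.pull g).act (g ≫ γ)) rfl ?_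
  intro W w f hf e
  change actPt (dObj R D f hf) ((w ≫ g) ≫ γ) (x.σ (w ≫ g) f hf _) =
    actPt (dObj R D f hf) (w ≫ g ≫ γ) (x.σ (w ≫ g) f hf _)
  rw [Category.assoc]

theorem ofPt_act {V : Over S} (f : V ⟶ U) (hf : R f) {T : Over S} (γ : T ⟶ G)
    (q : T ⟶ (dObj R D f hf).P) :
    ofPt f hf (actPt (dObj R D f hf) γ q) = (ofPt f hf q).act γ := by
  have hρ : actPt (dObj R D f hf) γ q ≫ dρ R D f hf = q ≫ dρ R D f hf := dρ_actPt R D f hf γ q
  symm
  apply ext' (by rw [act_c, ofPt_c, ofPt_c, ← Category.assoc, ← hρ, Category.assoc])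
  intro W w f' hf' e
  refine ofPtσ_unique f hf _ w f' hf' _ _ rfl _ ?_ ?_
  · have hu : (w ≫ actPt (dObj R D f hf) γ q ≫ dρ R D f hf) ≫ f = f' := by
      rw [← e, act_c, ofPt_c, hρ, Category.assoc, Category.assoc]
    have key : (ofPt f hf q).σ w f' hf' e ≫ dτ R D (hf := hf) (hf' := hf')
        (w ≫ actPt (dObj R D f hf) γ q ≫ dρ R D f hf) hu = w ≫ q :=
      ofPt_σ_τ f hf q w f' hf' e _ hu (by rw [hρ])
    change actPt (dObj R D f' hf') (w ≫ γ) ((ofPt f hf q).σ w f' hf' e) ≫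
      dτ R D (hf := hf) (hf' := hf') (w ≫ actPt (dObj R D f hf) γ q ≫ dρ R D f hf) hu = _
    rw [eqv_pt _ (dτ_eqv R D _ hu), key, actPt_comp]
  · exact ((ofPt f hf q).act γ).sec _ _ _ _

section torsor

variable [(QuotSh.J K S).Subcanonical] (hR : R ∈ QuotSh.J K S U)

omit [(QuotSh.J K S).Subcanonical] in
theorem σ_π_eq {T : Over S} (x x' : GPt R D T) {W : Over S} (w : W ⟶ T) (f : W ⟶ U) (hf : R f)
    (e : w ≫ x.c = f) (e' : w ≫ x'.c = f) :
    x.σ w f hf e ≫ (dObj R D f hf).π = x'.σ w f hf e' ≫ (dObj R D f hf).π := by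
  have h1 := x.sec w f hf e
  have h2 := x'.sec w f hf e'
  unfold dρ at h1 h2
  rw [← cancel_mono (eqToHom (dbase R D f hf)), Category.assoc, Category.assoc, h1, h2]

include hR in
theorem act_inj {T : Over S} (γ γ' : T ⟶ G) (x : GPt R D T) (h : x.act γ = x.act γ') :
    γ = γ' := by
  apply hom_ext_of_mem (K := K) (R.pullback x.c) ((QuotSh.J K S).pullback_stable x.c hR)
  intro W w hw
  have h1 := σ_eq_of_eq h w (w ≫ x.c) hw rfl rfl
  exact actPt_inj _ _ _ _ h1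

include hR in
/-- two points of the glued torsor over the same point of the base differ by a point of `G` -/
theorem exists_act_eq {T : Over S} (x x' : GPt R D T) (hc : x.c = x'.c) :
    ∃ γ : T ⟶ G, x'.act γ = x := by
  have hex : ∀ ⦃W : Over S⦄ (w : W ⟶ T) (hw : R (w ≫ x.c)), ∃ γ : W ⟶ G,
      actPt (dObj R D (w ≫ x.c) hw) γ (x'.σ w (w ≫ x.c) hw (by rw [hc])) =
        x.σ w (w ≫ x.c) hw rfl := fun W w hw =>
    exists_actPt_eq _ _ _ (σ_π_eq x x' w _ hw rfl (by rw [hc]))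
  choose γ₀ hγ₀ using hex
  obtain ⟨γ, hγ⟩ := exists_glue_of_mem (K := K) (R.pullback x.c)
    ((QuotSh.J K S).pullback_stable x.c hR) (fun W w hw => γ₀ w hw) (by
      intro W W' w hw0 v
      have hw : R (w ≫ x.c) := hw0
      have hw' : R ((v ≫ w) ≫ x.c) := (R.pullback x.c).downward_closed hw0 v
      have hu : v ≫ w ≫ x.c = (v ≫ w) ≫ x.c := (Category.assoc _ _ _).symm
      apply actPt_inj (dObj R D ((v ≫ w) ≫ x.c) hw') _ _
        (x'.σ (v ≫ w) ((v ≫ w) ≫ x.c) hw' (by rw [hc]))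
      rw [hγ₀ (v ≫ w) hw']
      apply sec_ext v hu
      · rw [eqv_pt _ (dτ_eqv R D v hu), x.nat v w _ hw rfl _ hw' hu,
          x'.nat v w _ hw (by rw [hc]) _ hw' hu, ← actPt_comp, hγ₀ w hw]
      · rw [dρ_actPt, x.sec, x'.sec])
  refine ⟨γ, ?_⟩
  refine ext' (x := x'.act γ) (y := x) hc.symm ?_
  intro W w f hf e
  have e' : w ≫ x.c = f := by rw [hc]; exact e
  subst e'
  change actPt _ (w ≫ γ) (x'.σ w (w ≫ x.c) hf e) = _
  rw [hγ w hf]
  exact hγ₀ w hf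

include hR in
/-- the equivariant map to `X` on points of the glued torsor -/
theorem exists_φ {T : Over S} (x : GPt R D T) : ∃ a : T ⟶ X, ∀ ⦃W : Over S⦄ (w : W ⟶ T)
    (f : W ⟶ U) (hf : R f) (e : w ≫ x.c = f), w ≫ a = x.σ w f hf e ≫ (dObj R D f hf).φ := by
  obtain ⟨a, ha⟩ := exists_glue_of_pullback (K := K) R hR x.c
    (fun W w hw => x.σ w (w ≫ x.c) hw rfl ≫ (dObj R D (w ≫ x.c) hw).φ) (by
      intro W W' w hw v hw'
      have hu : v ≫ w ≫ x.c = (v ≫ w) ≫ x.c := (Category.assoc _ _ _).symm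
      rw [← dτ_φ R D v hu, ← Category.assoc, x.nat v w _ hw rfl _ hw' hu, Category.assoc])
  refine ⟨a, ?_⟩
  intro W w f hf e
  subst e
  exact ha w hf

/-- the equivariant map to `X` on points of the glued torsor -/
noncomputable def gφ {T : Over S} (x : GPt R D T) : T ⟶ X := (exists_φ hR x).choose

theorem gφ_spec {T : Over S} (x : GPt R D T) {W : Over S} (w : W ⟶ T)
    (f : W ⟶ U) (hf : R f) (e : w ≫ x.c = f) :
    w ≫ gφ hR x = x.σ w f hf e ≫ (dObj R D f hf).φ :=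
  (exists_φ hR x).choose_spec w f hf e

theorem gφ_pull {T T' : Over S} (g : T' ⟶ T) (x : GPt R D T) :
    gφ hR (x.pull g) = g ≫ gφ hR x := by
  apply hom_ext_of_pullback (K := K) R hR (x.pull g).c
  intro W w hw
  have e2 : (w ≫ g) ≫ x.c = w ≫ (x.pull g).c := by rw [Category.assoc]; rfl
  have h1 := gφ_spec hR x (w ≫ g) _ hw e2
  rw [gφ_spec hR (x.pull g) w _ hw rfl, pull_σ]
  exact h1.symm.trans (Category.assoc _ _ _)

theorem gφ_act {T : Over S} (γ : T ⟶ G) (x : GPt R D T) :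
    gφ hR (x.act γ) = lift γ (gφ hR x) ≫ aX.act := by
  apply hom_ext_of_pullback (K := K) R hR x.c
  intro W w hw
  rw [gφ_spec hR (x.act γ) w _ hw rfl]
  change actPt _ (w ≫ γ) (x.σ w (w ≫ x.c) hw rfl) ≫ _ = _
  rw [φ_actPt, ← gφ_spec hR x w _ hw rfl, ← Category.assoc, comp_lift]

theorem gφ_ofPt {V : Over S} (f : V ⟶ U) (hf : R f) {T : Over S} (q : T ⟶ (dObj R D f hf).P) :
    gφ hR (ofPt f hf q) = q ≫ (dObj R D f hf).φ := by
  apply hom_ext_of_pullback (K := K) R hR (ofPt f hf q).c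
  intro W w hw
  have hu : (w ≫ q ≫ dρ R D f hf) ≫ f = w ≫ (ofPt f hf q).c := by simp
  rw [gφ_spec hR (ofPt f hf q) w _ hw rfl, ← dτ_φ R D (w ≫ q ≫ dρ R D f hf) hu,
    ← Category.assoc, ofPt_σ_τ f hf q w _ hw rfl _ hu rfl, Category.assoc]

end torsor

end GPt

end Groth.Agent.H64.Quot
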