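import Groth.Agent.H64.Quot.GluePts
import Groth.Agent.H49.AlgSpCoprod

set_option autoImplicit false
universe u
open CategoryTheory CategoryTheory.Limits MonoidalCategory CartesianMonoidalCategory MonObj GrpObj
  AlgebraicGeometry Opposite

/-! The fppf sheaf glued from a descent datum for `[X/G]`, its map to the base and the maps
from the members of the descent datum. -/

namespace Groth.Agent.H64.Quot

open AlgSt AlgSp

variable {S : Scheme.{u}} {G : Over S} [GrpObj G] {X : Over S}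
  {aX : AlgGrp.Action G X} {U : Over S} (R : Sieve U)
  (D : Stk.sieveCat R ⥤ᵇ QuotSt Scheme.fppfPrecoverage G aX)

/-- the glued sheaf -/
noncomputable def gSh : Sp S :=
  ⟨gPsh R D, (isSheaf_iff_isSheaf_of_type _ _).2 (gPsh_isSheaf R D)⟩

/-- the map from the glued sheaf to the base -/
noncomputable def gp : gSh R D ⟶ (yon S).obj U :=
  ⟨{ app := fun T => TypeCat.ofHom (fun x : GPt R D T.unop => ULift.up x.c)
     naturality := fun _ _ _ => rfl }⟩

theorem gp_app {T : Over S} (x : GPt R D T) : (gp R D).hom.app (op T) x = ULift.up x.c := rfl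

/-- the maps from the members of the descent datum to the glued sheaf -/
noncomputable def gι {V : Over S} (f : V ⟶ U) (hf : R f) :
    (yon S).obj (dObj R D f hf).P ⟶ gSh R D :=
  ((J S).uliftYonedaEquiv (X := (dObj R D f hf).P) (F := gSh R D)).symm
    (GPt.ofPt f hf (𝟙 _) : GPt R D _)

theorem gι_app {V : Over S} (f : V ⟶ U) (hf : R f) {T : Over S}
    (q : T ⟶ (dObj R D f hf).P) :
    (gι R D f hf).hom.app (op T) ⟨q⟩ = (GPt.ofPt f hf q : GPt R D T) := by
  change (GPt.ofPt f hf (𝟙 _) : GPt R D _).pull q = _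
  rw [GPt.ofPt_pull, Category.comp_id]

theorem isPullback_gι {V : Over S} (f : V ⟶ U) (hf : R f) :
    IsPullback (gι R D f hf) ((yon S).map (dρ R D f hf)) (gp R D) ((yon S).map f) := by
  apply Groth.Agent.H49.isPullback_sheaf_of_sections
  · ext T ⟨q⟩
    change (gp R D).hom.app T ((gι R D f hf).hom.app T ⟨q⟩) = ULift.up ((q ≫ dρ R D f hf) ≫ f)
    obtain ⟨T⟩ := T
    rw [gι_app, gp_app, GPt.ofPt_c, Category.assoc]
  · rintro ⟨T⟩ ⟨q⟩ ⟨q'⟩ h1 h2
    rw [gι_app, gι_app] at h1
    have h3 : q ≫ dρ R D f hf = q' ≫ dρ R D f hf := congrArg ULift.down h2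
    rw [GPt.ofPt_inj f hf q q' h1 h3]
  · rintro ⟨T⟩ x ⟨b⟩ h
    have hb : (x : GPt R D T).c = b ≫ f := congrArg ULift.down h
    obtain ⟨q, hq1, hq2⟩ := GPt.exists_ofPt f hf x b hb
    refine ⟨⟨q⟩, ?_, ?_⟩
    · rw [gι_app, hq1]
    · exact congrArg ULift.up hq2

end Groth.Agent.H64.Quot
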