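import Groth.Agent.H64.Quot.Triv
import Groth.Agent.H40.FpqcTors

set_option autoImplicit false
universe u
open CategoryTheory CategoryTheory.Limits MonoidalCategory CartesianMonoidalCategory MonObj GrpObj
  AlgebraicGeometry

/-! The structure morphism of a torsor in `[X/G]` inherits the fpqc-local properties of `G`. -/

namespace Groth.Agent.H64.Quot

open AlgSt

variable {S : Scheme.{u}} {G : Over S} [GrpObj G] {X : Over S} {aX : AlgGrp.Action G X}

/-- the structure morphism of a torsor inherits the properties of `G ⟶ S` which are stable under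
base change and local for the fpqc topology -/
theorem prop_π_of_prop_G (P : MorphismProperty Scheme.{u}) [IsZariskiLocalAtTarget P]
    [P.IsStableUnderBaseChange]
    (hP : P.DescendsAlong (@Surjective ⊓ @Flat ⊓ @QuasiCompact : MorphismProperty Scheme.{u}))
    (hG : P G.hom) (A : QuotObj Scheme.fppfPrecoverage G aX) : P A.π.left := by
  obtain ⟨R, hR, hsec⟩ := A.loc
  have hR' : R ∈ Scheme.fpqcPrecoverage A.base.left :=
    Scheme.fppfPrecoverage_le_fpqcPrecoverage _ hR
  refine Groth.Agent.H40.prop_of_fpqcPresieve P hP A.π.left hR' ?_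
  intro V g hg
  obtain ⟨s, hs⟩ := hsec g hg
  have hs' : s ≫ A.π.left = g := hs
  let T : Over S := Over.mk (g ≫ A.base.hom)
  let g' : T ⟶ A.base := Over.homMk g rfl
  let s' : T ⟶ A.P := Over.homMk s (by
    change s ≫ A.P.hom = g ≫ A.base.hom
    rw [← Over.w A.π, ← Category.assoc, hs'])
  have hsg : s' ≫ A.π = g' := by
    apply Over.OverMorphism.ext
    exact hs'
  have hc := (ofSection A s').cart
  have hb : (ofSection A s').base = g' := hsg
  rw [hb] at hc
  have hpb : IsPullback ((G ◁ s') ≫ A.act.act).left (snd G T).left A.π.left g :=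
    hc.map (Over.forget S)
  have hpbG : IsPullback (fst G T).left (snd G T).left G.hom T.hom := by
    simpa using IsPullback.of_hasPullback G.hom T.hom
  have h1 : P (snd G T).left := MorphismProperty.of_isPullback (P := P) hpbG hG
  have e := hpb.isoPullback_inv_snd
  rw [← e]
  exact (P.cancel_left_of_respectsIso _ _).mpr h1

end Groth.Agent.H64.Quot
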