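import Groth.Agent.H64.Quot.GlueRep
import Groth.Agent.H51.SpGlue
import Groth.Agent.H50.DescentAffine2
import Groth.Agent.H64.Quot.TorsProp
import Groth.Agent.H1.Descent
import Mathlib.AlgebraicGeometry.Morphisms.Flat
import Mathlib.AlgebraicGeometry.Morphisms.FinitePresentation

set_option autoImplicit false
universe u
open CategoryTheory CategoryTheory.Limits MonoidalCategory CartesianMonoidalCategory MonObj GrpObj
  AlgebraicGeometry Opposite

/-! Representability of the sheaf glued from a descent datum for `[X/G]`, `G` affine. -/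

namespace Groth.Agent.H64.Quot

open AlgSt AlgSp Groth.Agent.H53

variable {S : Scheme.{u}}

/-- local fppf charts: around every point there is an affine open admitting a faithfully flat
finitely presented affine cover which belongs to a given covering sieve -/
theorem exists_local_chart {U : Over S} (R : Sieve U) (hR : R ∈ J S U) (u : U.left) :
    ∃ (Z : U.left.Opens) (Z' : Over S) (c : Z' ⟶ overOf U Z.ι), R (c ≫ overHom U Z.ι) ∧
      u ∈ Z ∧ IsAffineOpen Z ∧ IsAffine Z'.left ∧ Flat c.left ∧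
      LocallyOfFinitePresentation c.left ∧ Surjective c.left := by
  obtain ⟨R', hR', hle⟩ := Groth.Agent.H49.exists_fppf_cover_of_mem R hR
  obtain ⟨V, g, hg, ⟨v, hv⟩⟩ :=
    (Presieve.mem_comap_jointlySurjectivePrecoverage_iff Scheme.forget).1 hR'.1 u
  have hfl : Flat g := (hR'.2 hg).1
  have hfp : LocallyOfFinitePresentation g := (hR'.2 hg).2
  have hv' : g.base v = u := hv
  -- affine opens
  obtain ⟨U₀, hU₀, huU₀, -⟩ :=
    exists_isAffineOpen_mem_and_subset (x := u) (U := ⊤) (TopologicalSpace.Opens.mem_top u)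
  have hvU₀ : v ∈ g ⁻¹ᵁ U₀ := by
    change g.base v ∈ U₀
    rw [hv']; exact huU₀
  obtain ⟨V₀, hV₀, hvV₀, hV₀U₀⟩ := exists_isAffineOpen_mem_and_subset hvU₀
  have hV₀U₀' : V₀ ≤ g ⁻¹ᵁ U₀ := hV₀U₀
  -- the open image
  let O : U.left.Opens := ⟨g.base '' V₀, g.isOpenMap _ V₀.isOpen⟩
  have huO : u ∈ O := ⟨v, hvV₀, hv'⟩
  obtain ⟨a, haO, hua⟩ := hU₀.exists_basicOpen_le (V := O) ⟨u, huO⟩ huU₀
  let Z : U.left.Opens := U.left.basicOpen a
  have hZ : IsAffineOpen Z := hU₀.basicOpen a
  let a' : Γ(V, V₀) := V.presheaf.map (homOfLE hV₀U₀').op (g.app U₀ a)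
  let Z' : V.Opens := V.basicOpen a'
  have hZ' : IsAffineOpen Z' := hV₀.basicOpen a'
  have hZ'eq : Z' = V₀ ⊓ g ⁻¹ᵁ Z := by
    change V.basicOpen _ = _
    rw [Scheme.basicOpen_res, Scheme.preimage_basicOpen]
  have e : Z' ≤ g ⁻¹ᵁ Z := by rw [hZ'eq]; exact inf_le_right
  let c : (Z' : Scheme) ⟶ Z := g.resLE Z Z' e
  have hc : c ≫ Z.ι = Z'.ι ≫ g := Scheme.Hom.resLE_comp_ι g e
  have hcfl : Flat c := inferInstanceAs (Flat (g.resLE Z Z' e))
  have hcfp : LocallyOfFinitePresentation c :=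
    inferInstanceAs (LocallyOfFinitePresentation (g.resLE Z Z' e))
  have hcs : Surjective c := by
    refine ⟨fun z => ?_⟩
    obtain ⟨v', hv'V₀, hv'z⟩ := haO z.2
    have hv'Z' : v' ∈ Z' := by
      rw [hZ'eq]
      refine ⟨hv'V₀, ?_⟩
      change g.base v' ∈ Z
      rw [hv'z]; exact z.2
    refine ⟨⟨v', hv'Z'⟩, ?_⟩
    apply Subtype.ext
    rw [Scheme.Hom.coe_resLE_apply]
    exact hv'z
  let Z'S : Over S := Over.mk (Z'.ι ≫ g ≫ U.hom)
  let cS : Z'S ⟶ overOf U Z.ι := Over.homMk c (by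
    change c ≫ Z.ι ≫ U.hom = Z'.ι ≫ g ≫ U.hom
    rw [← Category.assoc, hc, Category.assoc])
  refine ⟨Z, Z'S, cS, ?_, hua, hZ, hZ', hcfl, hcfp, hcs⟩
  have h1 : cS ≫ overHom U Z.ι =
      (Over.homMk Z'.ι rfl : Z'S ⟶ Over.mk (g ≫ U.hom)) ≫ (Over.homMk g : Over.mk (g ≫ U.hom) ⟶ U) := by
    apply Over.OverMorphism.ext
    exact hc
  rw [h1]
  exact R.downward_closed (hle g hg) _

section rep

variable {G : Over S} [GrpObj G] [IsAffineHom G.hom] {X : Over S} {aX : AlgGrp.Action G X}
  {U : Over S} (R : Sieve U) (D : Stk.sieveCat R ⥤ᵇ QuotSt Scheme.fppfPrecoverage G aX)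

set_option backward.isDefEq.respectTransparency false in
/-- the members of the descent datum over affine schemes are affine -/
theorem isAffine_dObj {V : Over S} (f : V ⟶ U) (hf : R f) (hV : IsAffine V.left) :
    IsAffine (dObj R D f hf).P.left := by
  have h1 : IsAffineHom (dObj R D f hf).π.left :=
    prop_π_of_prop_G @IsAffineHom Groth.Agent.H1.isAffineHom_descendsAlong_fpqc
      (inferInstanceAs (IsAffineHom G.hom)) (dObj R D f hf)
  have h2 : IsIso (eqToHom (dbase R D f hf)).left := (Over.forget S).map_isIso _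
  have h3 : IsAffineHom (dρ R D f hf).left := by
    change IsAffineHom ((dObj R D f hf).π.left ≫ (eqToHom (dbase R D f hf)).left)
    infer_instance
  exact isAffine_of_isAffineHom (dρ R D f hf).left

set_option backward.isDefEq.respectTransparency false in
/-- the affine pieces of the glued sheaf -/
theorem exists_affine_piece (Z : U.left.Opens) (Z' : Over S) (c : Z' ⟶ overOf U Z.ι)
    (hr : R (c ≫ overHom U Z.ι)) (hZ : IsAffineOpen Z) (hZ' : IsAffine Z'.left)
    (hfl : Flat c.left) (hfp : LocallyOfFinitePresentation c.left) (hs : Surjective c.left) :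
    ∃ (W : Over S) (i : W ⟶ overOf U Z.ι) (jj : (yon S).obj W ⟶ gSh R D),
      IsPullback jj ((yon S).map i) (gp R D) ((yon S).map (overHom U Z.ι)) := by
  let r := c ≫ overHom U Z.ι
  have hP : IsAffine (dObj R D r hr).P.left := isAffine_dObj R D r hr hZ'
  have hZa : IsAffine (overOf U Z.ι).left := hZ
  let F := pullback (gp R D) ((yon S).map (overHom U Z.ι))
  let π : F ⟶ (yon S).obj (overOf U Z.ι) := pullback.snd _ _
  have sqF : IsPullback (pullback.fst (gp R D) ((yon S).map (overHom U Z.ι))) π (gp R D)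
      ((yon S).map (overHom U Z.ι)) := IsPullback.of_hasPullback _ _
  have hbig := isPullback_gι R D r hr
  have hw : gι R D r hr ≫ gp R D =
      ((yon S).map (dρ R D r hr) ≫ (yon S).map c) ≫ (yon S).map (overHom U Z.ι) := by
    rw [hbig.w, Category.assoc, ← (yon S).map_comp c]
  let q : (yon S).obj (dObj R D r hr).P ⟶ F := sqF.lift (gι R D r hr)
    ((yon S).map (dρ R D r hr) ≫ (yon S).map c) hw
  have hq1 : q ≫ pullback.fst _ _ = gι R D r hr := sqF.lift_fst _ _ _
  have hq2 : q ≫ π = (yon S).map (dρ R D r hr) ≫ (yon S).map c := sqF.lift_snd _ _ _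
  have sq : IsPullback q ((yon S).map (dρ R D r hr)) π ((yon S).map c) := by
    refine IsPullback.of_right ?_ hq2 sqF
    rw [hq1, ← (yon S).map_comp c]
    exact hbig
  obtain ⟨W, i, e, -, he⟩ := Groth.Agent.H50.exists_affine_of_descent hZa hZ' hP c
    (dρ R D r hr) π q sq hfl hfp hs
  refine ⟨W, i, e.hom ≫ pullback.fst _ _, ?_⟩
  refine IsPullback.of_iso sqF e.symm (Iso.refl _) (Iso.refl _) (Iso.refl _) ?_ ?_ (by simp)
    (by simp)
  · simp
  · simp [← he]

set_option backward.isDefEq.respectTransparency false in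
/-- the glued sheaf is representable -/
theorem exists_rep_gSh (hR : R ∈ J S U) : ∃ P : Over S, Nonempty ((yon S).obj P ≅ gSh R D) := by
  choose Z Z' c hr hu hZ hZ' hfl hfp hs using exists_local_chart R hR
  choose W i jj sq using fun u => exists_affine_piece R D (Z u) (Z' u) (c u) (hr u) (hZ u)
    (hZ' u) (hfl u) (hfp u) (hs u)
  have hj : ∀ u, RepWith @IsOpenImmersion (jj u) := fun u => by
    have h1 : RepWith @IsOpenImmersion ((yon S).map (overHom U (Z u).ι)) :=
      (repWith_yon_map_iff _ _).2 (inferInstanceAs (IsOpenImmersion (Z u).ι))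
    exact MorphismProperty.of_isPullback (sq u).flip h1
  have hZcov : TopologicalSpace.IsOpenCover Z := by
    apply TopologicalSpace.IsOpenCover.mk
    rw [eq_top_iff]
    intro x _
    exact TopologicalSpace.Opens.mem_iSup.2 ⟨x, hu x⟩
  have hcov : ∀ (V : Over S) (t : (yon S).obj V ⟶ gSh R D), ∃ R' : Sieve V, R' ∈ J S V ∧
      ∀ ⦃W' : Over S⦄ (w : W' ⟶ V), R' w →
        ∃ (u : U.left) (g : W' ⟶ W u), (yon S).map g ≫ jj u = (yon S).map w ≫ t := by
    intro V t
    let 𝒰 : Scheme.OpenCover.{u} U.left := U.left.openCoverOfIsOpenCover Z hZcov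
    obtain ⟨R', hR', h⟩ := cover_of_atlas (𝟙 ((yon S).obj U)) 𝒰 V (t ≫ gp R D)
    refine ⟨R', hR', fun W' w hw => ?_⟩
    obtain ⟨u, g, hg⟩ := h w hw
    have hg' : ((yon S).map w ≫ t) ≫ gp R D =
        (yon S).map g ≫ (yon S).map (overHom U (Z u).ι) := by
      rw [Category.assoc, ← hg, Category.comp_id]
      rfl
    obtain ⟨g', hg''⟩ := (yon S).map_surjective ((sq u).lift ((yon S).map w ≫ t) ((yon S).map g) hg')
    exact ⟨u, g', by rw [hg'']; exact (sq u).lift_fst _ _ _⟩
  obtain ⟨e, -⟩ := Groth.Agent.H51.SpGlue.exists_iso_yon hj hcov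
  exact ⟨_, ⟨e⟩⟩

end rep

end Groth.Agent.H64.Quot
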