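import Groth.Agent.H64.Quot.GlueData

set_option autoImplicit false
universe u
open CategoryTheory CategoryTheory.Limits MonoidalCategory CartesianMonoidalCategory MonObj GrpObj
  AlgebraicGeometry Opposite

/-! The sheaf of points of the torsor glued from a descent datum for `[X/G]`. -/

namespace Groth.Agent.H64.Quot

open AlgSt

variable {S : Scheme.{u}} {K : Precoverage Scheme.{u}} {G : Over S} [GrpObj G] {X : Over S}
  {aX : AlgGrp.Action G X} {U : Over S} (R : Sieve U) (D : Stk.sieveCat R ⥤ᵇ QuotSt K G aX)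

/-- points of the glued torsor: a point of the base and compatible local sections of the
members of the descent datum -/
structure GPt (T : Over S) where
  /-- the point of the base -/
  c : T ⟶ U
  /-- the local sections -/
  σ : ∀ ⦃W : Over S⦄ (w : W ⟶ T) (f : W ⟶ U) (hf : R f), w ≫ c = f → (W ⟶ (dObj R D f hf).P)
  sec : ∀ ⦃W : Over S⦄ (w : W ⟶ T) (f : W ⟶ U) (hf : R f) (e : w ≫ c = f),
    σ w f hf e ≫ dρ R D f hf = 𝟙 W
  nat : ∀ ⦃W W' : Over S⦄ (v : W' ⟶ W) (w : W ⟶ T) (f : W ⟶ U) (hf : R f) (e : w ≫ c = f)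
    (f' : W' ⟶ U) (hf' : R f') (hu : v ≫ f = f'),
    σ (v ≫ w) f' hf' (by rw [Category.assoc, e, hu]) ≫ dτ R D (hf := hf) (hf' := hf') v hu =
      v ≫ σ w f hf e

namespace GPt

variable {R D}

theorem ext' {T : Over S} {x y : GPt R D T} (hc : x.c = y.c)
    (hσ : ∀ ⦃W : Over S⦄ (w : W ⟶ T) (f : W ⟶ U) (hf : R f) (e : w ≫ x.c = f),
      x.σ w f hf e = y.σ w f hf (hc ▸ e)) : x = y := by
  obtain ⟨c, σ, _, _⟩ := x
  obtain ⟨c', σ', _, _⟩ := y
  dsimp only at hc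
  subst hc
  have : σ = σ' := by
    funext W w f hf e
    exact hσ w f hf e
  subst this
  rfl

theorem σ_congr {T : Over S} (x : GPt R D T) {W : Over S} {w w' : W ⟶ T} (h : w = w')
    (f : W ⟶ U) (hf : R f) (e : w ≫ x.c = f) (e' : w' ≫ x.c = f) :
    x.σ w f hf e = x.σ w' f hf e' := by
  subst h
  rfl

/-- pullback of points -/
def pull {T T' : Over S} (g : T' ⟶ T) (x : GPt R D T) : GPt R D T' where
  c := g ≫ x.c
  σ W w f hf e := x.σ (w ≫ g) f hf (by rw [Category.assoc, e])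
  sec W w f hf e := x.sec _ _ _ _
  nat W W' v w f hf e f' hf' hu := by
    have h := x.nat v (w ≫ g) f hf (by rw [Category.assoc, e]) f' hf' hu
    rw [← h]
    congr 1

@[simp] theorem pull_c {T T' : Over S} (g : T' ⟶ T) (x : GPt R D T) : (x.pull g).c = g ≫ x.c := rfl

theorem pull_σ {T T' : Over S} (g : T' ⟶ T) (x : GPt R D T) {W : Over S} (w : W ⟶ T')
    (f : W ⟶ U) (hf : R f) (e : w ≫ (x.pull g).c = f) :
    (x.pull g).σ w f hf e = x.σ (w ≫ g) f hf (by rw [Category.assoc]; exact e) := rfl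

theorem pull_id {T : Over S} (x : GPt R D T) : x.pull (𝟙 T) = x := by
  apply ext' (Category.id_comp _)
  intro W w f hf e
  exact x.σ_congr (Category.comp_id _) _ _ _ _

theorem pull_comp {T T' T'' : Over S} (g : T' ⟶ T) (g' : T'' ⟶ T') (x : GPt R D T) :
    x.pull (g' ≫ g) = (x.pull g).pull g' := by
  apply ext' (Category.assoc _ _ _)
  intro W w f hf e
  exact x.σ_congr (Category.assoc _ _ _).symm _ _ _ _

end GPt

/-- the presheaf of points of the glued torsor -/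
def gPsh : (Over S)ᵒᵖ ⥤ Type (u + 1) where
  obj T := GPt R D T.unop
  map g := TypeCat.ofHom (fun x => x.pull g.unop)
  map_id T := by
    ext x
    exact x.pull_id
  map_comp g g' := by
    ext x
    exact x.pull_comp _ _

section sheaf

variable {R D} [(QuotSh.J K S).Subcanonical] {T : Over S} (E : Sieve T)
  (hE : E ∈ QuotSh.J K S T) (y : ∀ ⦃T' : Over S⦄ (g : T' ⟶ T), E g → GPt R D T')
  (hy : ∀ ⦃T' T'' : Over S⦄ (g : T' ⟶ T) (hg : E g) (h : T'' ⟶ T'),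
    y (h ≫ g) (E.downward_closed hg h) = (y g hg).pull h)

omit [(QuotSh.J K S).Subcanonical] in
theorem yσ_congr {T' : Over S} {g g' : T' ⟶ T} (h : g = g') (hg : E g) (hg' : E g')
    {W : Over S} (w : W ⟶ T') (f : W ⟶ U) (hf : R f) (e : w ≫ (y g hg).c = f)
    (e' : w ≫ (y g' hg').c = f) : (y g hg).σ w f hf e = (y g' hg').σ w f hf e' := by
  subst h
  rfl

omit [(QuotSh.J K S).Subcanonical] in
theorem yc_congr {T' : Over S} {g g' : T' ⟶ T} (h : g = g') (hg : E g) (hg' : E g') :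
    (y g hg).c = (y g' hg').c := by
  subst h
  rfl

include hE hy in
theorem exists_c : ∃ c : T ⟶ U, ∀ ⦃T' : Over S⦄ (g : T' ⟶ T) (hg : E g), g ≫ c = (y g hg).c :=
  exists_glue_of_mem (K := K) E hE (fun T' g hg => (y g hg).c) (by
    intro T' T'' g hg h
    have := congrArg GPt.c (hy g hg h)
    exact this)

variable (c : T ⟶ U) (hc : ∀ ⦃T' : Over S⦄ (g : T' ⟶ T) (hg : E g), g ≫ c = (y g hg).c)

/-- the local values of the glued local sections -/
noncomputable def zval {W : Over S} (w : W ⟶ T) (f : W ⟶ U) (hf : R f) (_e : w ≫ c = f)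
    {W' : Over S} (v : W' ⟶ W) (hv : E (v ≫ w)) (f' : W' ⟶ U) (hf' : R f') (hu : v ≫ f = f')
    (e₁ : 𝟙 W' ≫ (y (v ≫ w) hv).c = f') : W' ⟶ (dObj R D f hf).P :=
  (y (v ≫ w) hv).σ (𝟙 W') f' hf' e₁ ≫ dτ R D (hf := hf) (hf' := hf') v hu

include hy in
omit [(QuotSh.J K S).Subcanonical] in
theorem zval_comp {W : Over S} (w : W ⟶ T) (f : W ⟶ U) (hf : R f) (e : w ≫ c = f)
    {W' : Over S} (v : W' ⟶ W) (hv : E (v ≫ w)) (f' : W' ⟶ U) (hf' : R f') (hu : v ≫ f = f')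
    (e₁ : 𝟙 W' ≫ (y (v ≫ w) hv).c = f')
    {W'' : Over S} (v' : W'' ⟶ W') (hv' : E ((v' ≫ v) ≫ w)) (f'' : W'' ⟶ U) (hf'' : R f'')
    (hu' : (v' ≫ v) ≫ f = f'') (e₂ : 𝟙 W'' ≫ (y ((v' ≫ v) ≫ w) hv').c = f'') :
    zval E y c w f hf e (v' ≫ v) hv' f'' hf'' hu' e₂ =
      v' ≫ zval E y c w f hf e v hv f' hf' hu e₁ := by
  have hu'' : v' ≫ f' = f'' := by rw [← hu, ← Category.assoc, hu']
  have h1 := (y (v ≫ w) hv).nat v' (𝟙 W') f' hf' e₁ f'' hf'' hu''
  unfold zval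
  rw [← Category.assoc v', ← h1]
  refine Eq.trans ?_ (Category.assoc _ _ _).symm
  rw [← dτ_comp R D v hu v' hu'' hu']
  congr 1
  have h2 : y ((v' ≫ v) ≫ w) hv' = (y (v ≫ w) hv).pull v' := by
    rw [← hy (v ≫ w) hv v']
    congr 1
  have e₃ : 𝟙 W'' ≫ ((y (v ≫ w) hv).pull v').c = f'' := by rw [← h2]; exact e₂
  have h3 : (y ((v' ≫ v) ≫ w) hv').σ (𝟙 W'') f'' hf'' e₂ =
      ((y (v ≫ w) hv).pull v').σ (𝟙 W'') f'' hf'' e₃ := by
    congr 1
  rw [h3, GPt.pull_σ]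
  exact GPt.σ_congr _ (by rw [Category.id_comp, Category.comp_id]) _ _ _ _

include hE hy hc in
theorem exists_σ {W : Over S} (w : W ⟶ T) (f : W ⟶ U) (hf : R f) (e : w ≫ c = f) :
    ∃ σ₀ : W ⟶ (dObj R D f hf).P, ∀ ⦃W' : Over S⦄ (v : W' ⟶ W) (hv : E (v ≫ w)) (f' : W' ⟶ U)
      (hf' : R f') (hu : v ≫ f = f') (e₁ : 𝟙 W' ≫ (y (v ≫ w) hv).c = f'),
      v ≫ σ₀ = zval E y c w f hf e v hv f' hf' hu e₁ := by
  have he₁ : ∀ ⦃W' : Over S⦄ (v : W' ⟶ W) (hv : E (v ≫ w)),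
      𝟙 W' ≫ (y (v ≫ w) hv).c = v ≫ f := by
    intro W' v hv
    rw [Category.id_comp, ← hc (v ≫ w) hv, Category.assoc, e]
  obtain ⟨σ₀, hσ₀⟩ := exists_glue_of_mem (K := K) (E.pullback w)
    ((QuotSh.J K S).pullback_stable w hE)
    (fun W' v hv => zval E y c w f hf e v hv (v ≫ f) (R.downward_closed hf v) rfl (he₁ v hv))
    (by
      intro W' W'' v hv v'
      exact zval_comp E y hy c w f hf e v hv _ _ rfl _ v' _ _ _ rfl _)
  refine ⟨σ₀, ?_⟩
  intro W' v hv f' hf' hu e₁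
  subst hu
  exact hσ₀ v hv

include hE hy hc in
/-- the amalgamation of a compatible family of points -/
theorem exists_amalg : ∃ x : GPt R D T, ∀ ⦃T' : Over S⦄ (g : T' ⟶ T) (hg : E g),
    x.pull g = y g hg := by
  choose σ₀ hσ₀ using fun (W : Over S) (w : W ⟶ T) (f : W ⟶ U) (hf : R f) (e : w ≫ c = f) =>
    exists_σ E hE y hy c hc w f hf e
  have he₁ : ∀ ⦃W W' : Over S⦄ (w : W ⟶ T) (f : W ⟶ U) (_ : w ≫ c = f) (v : W' ⟶ W)
      (hv : E (v ≫ w)), 𝟙 W' ≫ (y (v ≫ w) hv).c = v ≫ f := by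
    intro W W' w f e v hv
    rw [Category.id_comp, ← hc (v ≫ w) hv, Category.assoc, e]
  let x : GPt R D T :=
    { c := c
      σ := fun W w f hf e => σ₀ W w f hf e
      sec := by
        intro W w f hf e
        apply hom_ext_of_mem (K := K) (E.pullback w) ((QuotSh.J K S).pullback_stable w hE)
        intro W' v hv
        rw [← Category.assoc, hσ₀ W w f hf e v hv (v ≫ f) (R.downward_closed hf v) rfl
          (he₁ w f e v hv)]
        unfold zval
        rw [Category.assoc, dτ_ρ, ← Category.assoc, GPt.sec, Category.id_comp, Category.comp_id]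
      nat := by
        intro W W₁ u w f hf e f₁ hf₁ hu
        apply hom_ext_of_mem (K := K) (E.pullback (u ≫ w))
          ((QuotSh.J K S).pullback_stable (u ≫ w) hE)
        intro W' v hv
        have hv2 : E ((v ≫ u) ≫ w) := by rw [Category.assoc]; exact hv
        have huu : (v ≫ u) ≫ f = v ≫ f₁ := by rw [Category.assoc, hu]
        have e2 : 𝟙 W' ≫ (y ((v ≫ u) ≫ w) hv2).c = v ≫ f₁ := by
          rw [he₁ w f e (v ≫ u) hv2, huu]
        have e1 : 𝟙 W' ≫ (y (v ≫ u ≫ w) hv).c = v ≫ f₁ :=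
          he₁ (u ≫ w) f₁ (by rw [Category.assoc, e, hu]) v hv
        rw [← Category.assoc, hσ₀ W₁ (u ≫ w) f₁ hf₁ _ v hv (v ≫ f₁) (R.downward_closed hf₁ v) rfl
          e1, ← Category.assoc v u, hσ₀ W w f hf e (v ≫ u) hv2 (v ≫ f₁)
          (R.downward_closed hf₁ v) huu e2]
        unfold zval
        rw [Category.assoc, ← dτ_comp R D u hu v rfl huu]
        congr 1 }
  refine ⟨x, fun T' g hg => ?_⟩
  apply GPt.ext' (hc g hg)
  intro W w f hf e
  have hv : E (𝟙 W ≫ w ≫ g) := by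
    rw [Category.id_comp]
    exact E.downward_closed hg w
  have e' : (w ≫ g) ≫ c = f := by rw [Category.assoc]; exact e
  have e1 : 𝟙 W ≫ (y (𝟙 W ≫ w ≫ g) hv).c = f := by
    rw [he₁ (w ≫ g) f e' (𝟙 W) hv, Category.id_comp]
  have h1 := hσ₀ W (w ≫ g) f hf e' (𝟙 W) hv f hf (Category.id_comp _) e1
  rw [Category.id_comp] at h1
  change σ₀ W (w ≫ g) f hf e' = _
  rw [h1]
  unfold zval
  rw [dτ_id, Category.comp_id]
  have h2 : y (𝟙 W ≫ w ≫ g) hv = (y g hg).pull w := by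
    rw [← hy g hg w]
    congr 1
  have e3 : 𝟙 W ≫ ((y g hg).pull w).c = f := by rw [← h2]; exact e1
  have h3 : (y (𝟙 W ≫ w ≫ g) hv).σ (𝟙 W) f hf e1 = ((y g hg).pull w).σ (𝟙 W) f hf e3 := by
    congr 1
  rw [h3, GPt.pull_σ]
  exact GPt.σ_congr _ (Category.id_comp _) _ _ _ _

include hE in
omit hc in
theorem amalg_unique (x x' : GPt R D T)
    (hx : ∀ ⦃T' : Over S⦄ (g : T' ⟶ T) (hg : E g), x.pull g = y g hg)
    (hx' : ∀ ⦃T' : Over S⦄ (g : T' ⟶ T) (hg : E g), x'.pull g = y g hg) : x = x' := by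
  have hcc : x.c = x'.c := by
    apply hom_ext_of_mem (K := K) E hE
    intro T' g hg
    have h1 := congrArg GPt.c (hx g hg)
    have h2 := congrArg GPt.c (hx' g hg)
    exact h1.trans h2.symm
  apply GPt.ext' hcc
  intro W w f hf e
  apply hom_ext_of_mem (K := K) (E.pullback w) ((QuotSh.J K S).pullback_stable w hE)
  intro W' v hv
  have e' : w ≫ x'.c = f := hcc ▸ e
  have h1 := x.nat v w f hf e (v ≫ f) (R.downward_closed hf v) rfl
  have h2 := x'.nat v w f hf e' (v ≫ f) (R.downward_closed hf v) rfl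
  rw [← h1, ← h2]
  congr 1
  have h3 : x.pull (v ≫ w) = x'.pull (v ≫ w) := (hx _ hv).trans (hx' _ hv).symm
  have e3 : 𝟙 W' ≫ (x.pull (v ≫ w)).c = v ≫ f := by
    rw [Category.id_comp, GPt.pull_c, Category.assoc, e]
  have e4 : 𝟙 W' ≫ (x'.pull (v ≫ w)).c = v ≫ f := by
    rw [Category.id_comp, GPt.pull_c, Category.assoc, e']
  have h4 : (x.pull (v ≫ w)).σ (𝟙 W') (v ≫ f) (R.downward_closed hf v) e3 =
      (x'.pull (v ≫ w)).σ (𝟙 W') (v ≫ f) (R.downward_closed hf v) e4 := by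
    congr 1
  rw [GPt.pull_σ, GPt.pull_σ] at h4
  refine Eq.trans ?_ (h4.trans ?_)
  · exact GPt.σ_congr _ (Category.id_comp _).symm _ _ _ _
  · exact GPt.σ_congr _ (Category.id_comp _) _ _ _ _

end sheaf

theorem gPsh_isSheaf [(QuotSh.J K S).Subcanonical] :
    Presieve.IsSheaf (QuotSh.J K S) (gPsh R D) := by
  intro T E hE y hy
  rw [Presieve.compatible_iff_sieveCompatible] at hy
  let y' : ∀ ⦃T' : Over S⦄ (g : T' ⟶ T), E g → GPt R D T' := fun T' g hg => y g hg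
  have hy' : ∀ ⦃T' T'' : Over S⦄ (g : T' ⟶ T) (hg : E g) (h : T'' ⟶ T'),
      y' (h ≫ g) (E.downward_closed hg h) = (y' g hg).pull h := fun T' T'' g hg h => hy g h hg
  obtain ⟨c, hc⟩ := exists_c E hE y' hy'
  obtain ⟨x, hx⟩ := exists_amalg E hE y' hy' c hc
  refine ⟨x, fun T' g hg => hx g hg, fun x' hx' => ?_⟩
  exact amalg_unique E hE y' x' x (fun T' g hg => hx' g hg) hx

end Groth.Agent.H64.Quot
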