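import Groth.Agent.H64.Quot.TorsLemmas
import Groth.Agent.H84.StkConcrete

set_option autoImplicit false
universe u
open CategoryTheory CategoryTheory.Limits MonoidalCategory CartesianMonoidalCategory MonObj GrpObj
  AlgebraicGeometry Opposite

/-! Morphisms of the quotient category `[X/G]` glue along covering sieves. -/

namespace Groth.Agent.H64.Quot

open AlgSt Groth.Agent.H84.StkConcrete

variable {S : Scheme.{u}} {K : Precoverage Scheme.{u}} {G : Over S} [GrpObj G] {X : Over S}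
  {aX : AlgGrp.Action G X}

theorem base_eq_of_isHomLift' {A B : QuotObj K G aX} (m : A ⟶ B) {U : Over S} (f : A.base ⟶ U)
    (hB : B.base = U) (h : (QuotSt K G aX).p.IsHomLift f m) : m.base = f ≫ eqToHom hB.symm := by
  subst hB
  rw [eqToHom_refl, Category.comp_id]
  exact base_eq_of_isHomLift m f h

theorem isHomLift_of_base_eq' {A B : QuotObj K G aX} (m : A ⟶ B) {U : Over S} (f : A.base ⟶ U)
    (hB : B.base = U) (h : m.base = f ≫ eqToHom hB.symm) : (QuotSt K G aX).p.IsHomLift f m := by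
  subst hB
  rw [eqToHom_refl, Category.comp_id] at h
  exact isHomLift_of_base_eq m f h

variable [K.IsStableUnderComposition] [K.IsStableUnderBaseChange] [K.HasPullbacks] [K.HasIsos]

/-- the section of the pulled back torsor defined by a point of the torsor -/
noncomputable def pullSec (t : QuotObj K G aX) {W : Over S} (g : W ⟶ t.P) :
    W ⟶ (pullObj t (g ≫ t.π)).P :=
  pullback.lift (𝟙 W) g (Category.id_comp _)

theorem pullSec_π (t : QuotObj K G aX) {W : Over S} (g : W ⟶ t.P) :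
    pullSec t g ≫ (pullObj t (g ≫ t.π)).π = 𝟙 W := pullback.lift_fst _ _ _

theorem pullSec_top (t : QuotObj K G aX) {W : Over S} (g : W ⟶ t.P) :
    pullSec t g ≫ (pullHom t (g ≫ t.π)).top = g := pullback.lift_snd _ _ _

theorem isHomLift_pullHom (t : QuotObj K G aX) {T : Over S} (f : T ⟶ t.base) :
    (QuotSt K G aX).p.IsHomLift f (pullHom t f) :=
  isHomLift_of_base_eq (pullHom t f) f rfl

variable [(QuotSh.J K S).Subcanonical]

theorem top_ext_of_local {t t' : QuotObj K G aX} (R : Sieve t.base) (hR : R ∈ QuotSh.J K S t.base)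
    (a b : t ⟶ t')
    (hloc : ∀ ⦃V : Over S⦄ (f : V ⟶ t.base), R f → ∀ (s : QuotObj K G aX) (ψ : s ⟶ t),
      (QuotSt K G aX).p.IsHomLift f ψ → ψ ≫ a = ψ ≫ b) : a.top = b.top := by
  apply hom_ext_of_mem (K := K) (R.pullback t.π) ((QuotSh.J K S).pullback_stable t.π hR)
  intro W g hg
  have h1 := hloc (g ≫ t.π) hg (pullObj t (g ≫ t.π)) (pullHom t (g ≫ t.π)) (isHomLift_pullHom t _)
  have h2 : (pullHom t (g ≫ t.π)).top ≫ a.top = (pullHom t (g ≫ t.π)).top ≫ b.top :=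
    congrArg QuotObj.Hom.top h1
  rw [← pullSec_top t g, Category.assoc, h2, Category.assoc]

theorem resSieve_faithful {U : Over S} (R : Sieve U) (hR : R ∈ QuotSh.J K S U) :
    (Stk.resSieve R (QuotSt K G aX)).Faithful := by
  refine faithful_of_hom_ext isFibGrpd_quotSt R (fun t t' ht ht' a b ha hb hloc => ?_)
  subst ht
  apply QuotObj.hom_ext
  · rw [base_eq_of_isHomLift' a (𝟙 _) ht' ha, base_eq_of_isHomLift' b (𝟙 _) ht' hb]
  · exact top_ext_of_local R hR a b hloc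

section glueHom

variable {t t' : QuotObj K G aX} (ht' : t'.base = t.base) (R : Sieve t.base)
  (hR : R ∈ QuotSh.J K S t.base)
  (m : ∀ ⦃V : Over S⦄ (f : V ⟶ t.base), R f → ∀ (s : QuotObj K G aX) (ψ : s ⟶ t),
    (QuotSt K G aX).p.IsHomLift f ψ → (s ⟶ t'))
  (hm : ∀ ⦃V : Over S⦄ (f : V ⟶ t.base) (hf : R f) (s : QuotObj K G aX) (ψ : s ⟶ t)
    (hψ : (QuotSt K G aX).p.IsHomLift f ψ), (QuotSt K G aX).p.IsHomLift f (m f hf s ψ hψ))
  (hcompat : ∀ ⦃V V' : Over S⦄ (f : V ⟶ t.base) (hf : R f) (f' : V' ⟶ t.base) (hf' : R f')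
    (u : V' ⟶ V) (_ : u ≫ f = f') (s s' : QuotObj K G aX)
    (ψ : s ⟶ t) (hψ : (QuotSt K G aX).p.IsHomLift f ψ) (ψ' : s' ⟶ t)
    (hψ' : (QuotSt K G aX).p.IsHomLift f' ψ')
    (h : s' ⟶ s), (QuotSt K G aX).p.IsHomLift u h → h ≫ ψ = ψ' →
      m f' hf' s' ψ' hψ' = h ≫ m f hf s ψ hψ)

/-- the canonical local morphism -/
noncomputable def mg {W : Over S} (g : W ⟶ t.P) (hg : R (g ≫ t.π)) : pullObj t (g ≫ t.π) ⟶ t' :=
  m (g ≫ t.π) hg (pullObj t (g ≫ t.π)) (pullHom t (g ≫ t.π)) (isHomLift_pullHom t _)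

/-- the local values of the glued morphism -/
noncomputable def xg {W : Over S} (g : W ⟶ t.P) (hg : R (g ≫ t.π)) : W ⟶ t'.P :=
  pullSec t g ≫ (mg R m g hg).top

include hcompat in
omit [(QuotSh.J K S).Subcanonical] in
/-- the key comparison: the local value at `σ ≫ ψ.top` computed through any `(s, ψ)` -/
theorem xg_eq {V : Over S} (f : V ⟶ t.base) (hf : R f) (s : QuotObj K G aX) (ψ : s ⟶ t)
    (hψ : (QuotSt K G aX).p.IsHomLift f ψ) {W : Over S} (σ : W ⟶ s.P)
    (hg : R ((σ ≫ ψ.top) ≫ t.π)) :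
    xg R m (σ ≫ ψ.top) hg = σ ≫ (m f hf s ψ hψ).top := by
  have hV : s.base = V := IsHomLift.domain_eq (QuotSt K G aX).p f ψ
  subst hV
  have hb : ψ.base = f := base_eq_of_isHomLift ψ f hψ
  set g := σ ≫ ψ.top with hgdef
  have hu : (σ ≫ s.π) ≫ f = g ≫ t.π := by
    rw [hgdef, Category.assoc, Category.assoc, ψ.cart.w, hb]
  obtain ⟨h, hh1, hh2⟩ := exists_lift_hom ψ (C := pullObj t (g ≫ t.π)) (σ ≫ s.π)
    (pullHom t (g ≫ t.π)) (by rw [pullHom_base, hb]; exact hu.symm)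
  have hc := hcompat f hf (g ≫ t.π) hg (σ ≫ s.π) hu s (pullObj t (g ≫ t.π)) ψ hψ
    (pullHom t (g ≫ t.π)) (isHomLift_pullHom t _) h (isHomLift_of_base_eq h _ hh1) hh2
  have hsec : pullSec t g ≫ h.top = σ := by
    apply ψ.cart.hom_ext
    · rw [Category.assoc, ← QuotObj.comp_top, hh2, pullSec_top]
    · rw [Category.assoc, h.cart.w, ← Category.assoc, pullSec_π, hh1]
      exact Category.id_comp _
  change pullSec t g ≫ (m (g ≫ t.π) hg (pullObj t (g ≫ t.π)) (pullHom t (g ≫ t.π))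
    (isHomLift_pullHom t _)).top = _
  rw [hc, QuotObj.comp_top, ← Category.assoc, hsec]

include hcompat in
omit [(QuotSh.J K S).Subcanonical] in
theorem xg_self {W : Over S} (g : W ⟶ t.P) (hg : R (g ≫ t.π)) {W' : Over S} (v : W' ⟶ W)
    (hg' : R ((v ≫ g) ≫ t.π)) : xg R m (v ≫ g) hg' = v ≫ xg R m g hg := by
  have e : v ≫ g = (v ≫ pullSec t g) ≫ (pullHom t (g ≫ t.π)).top := by
    rw [Category.assoc, pullSec_top]
  have h1 := xg_eq R m hcompat (g ≫ t.π) hg (pullObj t (g ≫ t.π)) (pullHom t (g ≫ t.π))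
    (isHomLift_pullHom t _) (v ≫ pullSec t g) (by rw [← e]; exact hg')
  have h2 : xg R m (v ≫ g) hg' = xg R m ((v ≫ pullSec t g) ≫ (pullHom t (g ≫ t.π)).top)
      (by rw [← e]; exact hg') := by
    congr 1
  rw [h2, h1, Category.assoc]
  rfl

include hR hcompat in
/-- the glued map of total spaces -/
theorem exists_top : ∃ a₀ : t.P ⟶ t'.P, ∀ ⦃V : Over S⦄ (f : V ⟶ t.base) (hf : R f)
    (s : QuotObj K G aX) (ψ : s ⟶ t) (hψ : (QuotSt K G aX).p.IsHomLift f ψ),
    ψ.top ≫ a₀ = (m f hf s ψ hψ).top := by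
  obtain ⟨a₀, ha₀⟩ := exists_glue_of_mem (K := K) (R.pullback t.π)
    ((QuotSh.J K S).pullback_stable t.π hR) (fun W g hg => xg R m g hg) (by
      intro W W' g hg v
      exact xg_self R m hcompat g hg v _)
  refine ⟨a₀, fun V f hf s ψ hψ => ?_⟩
  have hV : s.base = V := IsHomLift.domain_eq (QuotSt K G aX).p f ψ
  subst hV
  have hb : ψ.base = f := base_eq_of_isHomLift ψ f hψ
  have hg : R (ψ.top ≫ t.π) := by
    rw [ψ.cart.w, hb]
    exact R.downward_closed hf _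
  have h1 := ha₀ ψ.top hg
  have h2 := xg_eq R m hcompat f hf s ψ hψ (𝟙 s.P) (by rw [Category.id_comp]; exact hg)
  have h3 : xg R m ψ.top hg = xg R m (𝟙 s.P ≫ ψ.top) (by rw [Category.id_comp]; exact hg) := by
    congr 1
  rw [h1, h3, h2, Category.id_comp]

include ht' hR hm hcompat in
/-- morphisms glue -/
theorem exists_glue_hom : ∃ a : t ⟶ t', (QuotSt K G aX).p.IsHomLift (𝟙 t.base) a ∧
    ∀ ⦃V : Over S⦄ (f : V ⟶ t.base) (hf : R f) (s : QuotObj K G aX) (ψ : s ⟶ t)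
      (hψ : (QuotSt K G aX).p.IsHomLift f ψ), ψ ≫ a = m f hf s ψ hψ := by
  obtain ⟨a₀, hF⟩ := exists_top R hR m hcompat
  have hcov : R.pullback t.π ∈ QuotSh.J K S t.P := (QuotSh.J K S).pullback_stable t.π hR
  -- local description
  have hloc : ∀ ⦃W : Over S⦄ (g : W ⟶ t.P) (hg : R (g ≫ t.π)),
      g ≫ a₀ = pullSec t g ≫ (mg R m g hg).top := by
    intro W g hg
    have h1 := hF (g ≫ t.π) hg (pullObj t (g ≫ t.π)) (pullHom t (g ≫ t.π))
      (isHomLift_pullHom t _)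
    have h2 : (mg R m g hg).top = (pullHom t (g ≫ t.π)).top ≫ a₀ := h1.symm
    rw [h2, ← Category.assoc, pullSec_top]
  have hμb : ∀ ⦃W : Over S⦄ (g : W ⟶ t.P) (hg : R (g ≫ t.π)),
      (mg R m g hg).base = (g ≫ t.π) ≫ eqToHom ht'.symm := fun W g hg =>
    base_eq_of_isHomLift' (mg R m g hg) (g ≫ t.π) ht' (hm _ hg _ _ _)
  have P1 : a₀ ≫ t'.π = t.π ≫ eqToHom ht'.symm := by
    apply hom_ext_of_mem (K := K) _ hcov
    intro W g hg
    rw [← Category.assoc, hloc g hg, Category.assoc, (mg R m g hg).cart.w, ← Category.assoc,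
      pullSec_π, hμb g hg, ← Category.assoc]
    exact Category.id_comp _
  have P3 : a₀ ≫ t'.φ = t.φ := by
    apply hom_ext_of_mem (K := K) _ hcov
    intro W g hg
    rw [← Category.assoc, hloc g hg, Category.assoc, (mg R m g hg).wφ,
      ← (pullHom t (g ≫ t.π)).wφ, ← Category.assoc, pullSec_top]
  have P2 : t.act.act ≫ a₀ = (G ◁ a₀) ≫ t'.act.act := by
    apply eqv_of_pt
    apply hom_ext_of_mem (K := K) _ ((QuotSh.J K S).pullback_stable (snd G t.P) hcov)
    intro W q hq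
    have hg : R ((q ≫ snd G t.P) ≫ t.π) := hq
    set g := q ≫ snd G t.P with hgdef
    set γ := q ≫ fst G t.P with hγdef
    have e1 : q ≫ actPt t (fst G t.P) (snd G t.P) = actPt t γ g := actPt_comp t q _ _
    have e2 : q ≫ actPt t' (fst G t.P) (snd G t.P ≫ a₀) = actPt t' γ (g ≫ a₀) := by
      rw [actPt_comp, hgdef, Category.assoc]
    have e3 : actPt t γ g = actPt (pullObj t (g ≫ t.π)) γ (pullSec t g) ≫
        (pullHom t (g ≫ t.π)).top := by
      rw [eqv_pt _ (pullHom t (g ≫ t.π)).eqv, pullSec_top]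
    rw [← Category.assoc, e1, e2, e3, Category.assoc,
      hF (g ≫ t.π) hg (pullObj t (g ≫ t.π)) (pullHom t (g ≫ t.π)) (isHomLift_pullHom t _),
      eqv_pt _ (m (g ≫ t.π) hg (pullObj t (g ≫ t.π)) (pullHom t (g ≫ t.π))
        (isHomLift_pullHom t _)).eqv, hloc g hg]
    rfl
  let a : t ⟶ t' :=
    { base := eqToHom ht'.symm
      top := a₀
      eqv := P2
      cart := cart_of_eqv _ a₀ P1 P2
      wφ := P3 }
  refine ⟨a, isHomLift_of_base_eq' a (𝟙 _) ht' (Category.id_comp _).symm, ?_⟩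
  intro V f hf s ψ hψ
  have hV : s.base = V := IsHomLift.domain_eq (QuotSt K G aX).p f ψ
  subst hV
  apply QuotObj.hom_ext
  · rw [base_eq_of_isHomLift' _ f ht' (hm f hf s ψ hψ), QuotObj.comp_base,
      base_eq_of_isHomLift ψ f hψ]
  · exact hF f hf s ψ hψ

end glueHom

theorem resSieve_full {U : Over S} (R : Sieve U) (hR : R ∈ QuotSh.J K S U) :
    (Stk.resSieve R (QuotSt K G aX)).Full := by
  refine full_of_glue_hom isFibGrpd_quotSt R (fun t t' ht ht' m hm hcompat => ?_)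
  subst ht
  exact exists_glue_hom ht' R hR m hm hcompat

theorem isPrestackFor_quotSt {U : Over S} (R : Sieve U) (hR : R ∈ QuotSh.J K S U) :
    Stk.IsPrestackFor R (QuotSt K G aX) :=
  ⟨resSieve_full R hR, resSieve_faithful R hR⟩

end Groth.Agent.H64.Quot
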