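import Groth.Agent.H64.Quot.FpRep3
import Groth.Agent.H64.Quot.TorsProp
import Groth.Agent.H64.Psh.OverCatRep
import Groth.Agent.H64.SpMap

set_option autoImplicit false
universe u
open CategoryTheory CategoryTheory.Limits MonoidalCategory CartesianMonoidalCategory MonObj GrpObj
  AlgebraicGeometry

/-! The canonical functor `X ⟶ [X/G]` is representable and inherits the fpqc-local properties
of `G`. -/

namespace Groth.Agent.H64.Quot

open AlgSt Groth.Agent.H64.FpRep

variable {S : Scheme.{u}} {G : Over S} [GrpObj G] {X : Over S} {aX : AlgGrp.Action G X}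

theorem spMapOfOver_repFun {K : Precoverage Scheme.{u}} [K.HasIsos] {U : Over S}
    (y : FibCat.overCat U ⥤ᵇ QuotSt K G aX) :
    spMapOfOver (F := (AlgSp.yon S).obj (univ y).P)
      (BasedFunctor.comp (repFun y) (FibCat.fpFst y (quotMap K G aX))) =
      (AlgSp.yon S).map ((univ y).π ≫ inv (ub y)) := by
  apply ObjectProperty.hom_ext
  ext T s
  obtain ⟨T⟩ := T
  apply ULift.ext
  show secHom _ _ = _
  simp only [secHom]
  exact (Category.id_comp _)

/-- `X ⟶ [X/G]` is representable by schemes (the torsors) and has every property of `G ⟶ S`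
which is stable under base change and fpqc local on the target -/
theorem repByAlgSpWith_quotMap (P : MorphismProperty Scheme.{u}) [IsZariskiLocalAtTarget P]
    [P.IsStableUnderBaseChange]
    (hP : P.DescendsAlong (@Surjective ⊓ @Flat ⊓ @QuasiCompact : MorphismProperty Scheme.{u}))
    (hG : P G.hom) (Q : MorphismProperty (AlgSp.Sp S))
    (hQ : ∀ {A B : Over S} (f : A ⟶ B), P f.left → Q ((AlgSp.yon S).map f)) :
    RepByAlgSpWith Q (quotMap Scheme.fppfPrecoverage G aX) := by
  intro U y
  refine ⟨yonSpace (univ y).P, repFun y, isEquivOver_repFun y, ?_⟩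
  have h := spMapOfOver_repFun y
  refine h ▸ ?_
  apply hQ
  have : IsIso (inv (ub y)).left := Functor.map_isIso (Over.forget S) (inv (ub y))
  change P ((univ y).π.left ≫ (inv (ub y)).left)
  exact (P.cancel_right_of_respectsIso _ _).mpr (prop_π_of_prop_G P hP hG (univ y))

/-- the same for the functor from the slice `(Sch/X)` -/
theorem repByAlgSpWith_ofOverCat_quotMap (P : MorphismProperty Scheme.{u})
    [IsZariskiLocalAtTarget P] [P.IsStableUnderBaseChange]
    (hP : P.DescendsAlong (@Surjective ⊓ @Flat ⊓ @QuasiCompact : MorphismProperty Scheme.{u}))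
    (hG : P G.hom) (Q : MorphismProperty (AlgSp.Sp S))
    (hQ : ∀ {A B : Over S} (f : A ⟶ B), P f.left → Q ((AlgSp.yon S).map f)) :
    RepByAlgSpWith Q (BasedFunctor.comp (ofOverCat X) (quotMap Scheme.fppfPrecoverage G aX)) :=
  Groth.Agent.H64.repByAlgSpWith_of_square Q (quotMap Scheme.fppfPrecoverage G aX)
    (BasedFunctor.comp (ofOverCat X) (quotMap Scheme.fppfPrecoverage G aX))
    (ofOverCat X) (BasedFunctor.id _) (isEquivOver_ofOverCat X) (isEquivOver_id _) (Iso.refl _)
    (repByAlgSpWith_quotMap P hP hG Q hQ)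

end Groth.Agent.H64.Quot
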