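import Groth.Agent.H64.Quot.FibGrpd
import Mathlib.CategoryTheory.Sites.Subcanonical
import Mathlib.CategoryTheory.Sites.SubcanonicalOver

set_option autoImplicit false
universe u
open CategoryTheory CategoryTheory.Limits MonoidalCategory CartesianMonoidalCategory MonObj GrpObj
  AlgebraicGeometry Opposite

/-! Torsor lemmas for the quotient category `[X/G]`: freeness of the action, equivariant maps of
torsors are cartesian, gluing of morphisms of schemes along covering sieves. -/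

namespace Groth.Agent.H64.Quot

open AlgSt

variable {S : Scheme.{u}} {K : Precoverage Scheme.{u}} {G : Over S} [GrpObj G] {X : Over S}
  {aX : AlgGrp.Action G X}

section subcanonical

variable [(QuotSh.J K S).Subcanonical]

theorem isSheaf_yoneda (Z : Over S) : Presieve.IsSheaf (QuotSh.J K S) (yoneda.obj Z) :=
  GrothendieckTopology.Subcanonical.isSheaf_of_isRepresentable _

/-- morphisms of schemes over `S` are determined locally -/
theorem hom_ext_of_mem {Y Z : Over S} (R : Sieve Y) (hR : R ∈ QuotSh.J K S Y) {a b : Y ⟶ Z}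
    (h : ∀ ⦃W : Over S⦄ (g : W ⟶ Y), R g → g ≫ a = g ≫ b) : a = b :=
  ((isSheaf_yoneda (K := K) Z).isSeparated R hR).ext (fun _ g hg => h g hg)

/-- morphisms of schemes over `S` glue -/
theorem exists_glue_of_mem {Y Z : Over S} (R : Sieve Y) (hR : R ∈ QuotSh.J K S Y)
    (x : ∀ ⦃W : Over S⦄ (g : W ⟶ Y), R g → (W ⟶ Z))
    (hx : ∀ ⦃W W' : Over S⦄ (g : W ⟶ Y) (hg : R g) (h : W' ⟶ W),
      x (h ≫ g) (R.downward_closed hg h) = h ≫ x g hg) :
    ∃ a : Y ⟶ Z, ∀ ⦃W : Over S⦄ (g : W ⟶ Y) (hg : R g), g ≫ a = x g hg := by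
  let fam : Presieve.FamilyOfElements (yoneda.obj Z) R.arrows := fun W g hg => x g hg
  have hfam : fam.Compatible := by
    rw [Presieve.compatible_iff_sieveCompatible]
    intro W W' g h hg
    exact hx g hg h
  obtain ⟨a, ha, -⟩ := (isSheaf_yoneda (K := K) Z) R hR fam hfam
  exact ⟨a, fun W g hg => ha g hg⟩

end subcanonical

section free

variable (A : QuotObj K G aX)

/-- the action on points -/
noncomputable abbrev actPt {W : Over S} (γ : W ⟶ G) (p : W ⟶ A.P) : W ⟶ A.P :=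
  lift γ p ≫ A.act.act

theorem actPt_π {W : Over S} (γ : W ⟶ G) (p : W ⟶ A.P) : actPt A γ p ≫ A.π = p ≫ A.π := by
  rw [Category.assoc, A.cart.w, lift_snd_assoc]

theorem actPt_comp {W W' : Over S} (v : W' ⟶ W) (γ : W ⟶ G) (p : W ⟶ A.P) :
    v ≫ actPt A γ p = actPt A (v ≫ γ) (v ≫ p) := by
  rw [← Category.assoc, comp_lift]

theorem actPt_one {W : Over S} (p : W ⟶ A.P) : actPt A 1 p = p := act_one_pt A.act p

theorem actPt_mul {W : Over S} (γ δ : W ⟶ G) (p : W ⟶ A.P) :
    actPt A (γ * δ) p = actPt A γ (actPt A δ p) := act_mul_pt A.act γ δ p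

/-- two points of a torsor over the same point of the base differ by a unique point of `G` -/
theorem exists_actPt_eq {W : Over S} (p₁ p₂ : W ⟶ A.P) (h : p₁ ≫ A.π = p₂ ≫ A.π) :
    ∃ γ : W ⟶ G, actPt A γ p₂ = p₁ := by
  refine ⟨A.cart.lift p₁ p₂ h ≫ fst G A.P, ?_⟩
  have e : lift (A.cart.lift p₁ p₂ h ≫ fst G A.P) p₂ = A.cart.lift p₁ p₂ h := by
    apply CartesianMonoidalCategory.hom_ext
    · rw [lift_fst]
    · rw [lift_snd, A.cart.lift_snd]
  change lift _ _ ≫ _ = _
  rw [e, A.cart.lift_fst]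

theorem actPt_inj {W : Over S} (γ γ' : W ⟶ G) (p : W ⟶ A.P) (h : actPt A γ p = actPt A γ' p) :
    γ = γ' := by
  have e : lift γ p = lift γ' p := by
    apply A.cart.hom_ext
    · exact h
    · rw [lift_snd, lift_snd]
  have := congrArg (fun t => t ≫ fst G A.P) e
  simpa using this

theorem φ_actPt {W : Over S} (γ : W ⟶ G) (p : W ⟶ A.P) :
    actPt A γ p ≫ A.φ = lift γ (p ≫ A.φ) ≫ aX.act := by
  rw [Category.assoc, A.eqv, ← Category.assoc]
  congr 1
  apply CartesianMonoidalCategory.hom_ext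
  · simp only [Category.assoc, whiskerLeft_fst, lift_fst]
  · simp only [Category.assoc, whiskerLeft_snd, lift_snd, lift_snd_assoc]

end free

/-- equivariance on points -/
theorem eqv_pt {A B : QuotObj K G aX} (τ : A.P ⟶ B.P)
    (heqv : A.act.act ≫ τ = (G ◁ τ) ≫ B.act.act) {W : Over S} (γ : W ⟶ G) (p : W ⟶ A.P) :
    actPt A γ p ≫ τ = actPt B γ (p ≫ τ) := by
  rw [Category.assoc, heqv, ← Category.assoc]
  congr 1
  apply CartesianMonoidalCategory.hom_ext
  · simp only [Category.assoc, whiskerLeft_fst, lift_fst]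
  · simp only [Category.assoc, whiskerLeft_snd, lift_snd, lift_snd_assoc]

/-- equivariance from equivariance on points -/
theorem eqv_of_pt {A B : QuotObj K G aX} (τ : A.P ⟶ B.P)
    (h : actPt A (fst G A.P) (snd G A.P) ≫ τ = actPt B (fst G A.P) (snd G A.P ≫ τ)) :
    A.act.act ≫ τ = (G ◁ τ) ≫ B.act.act := by
  have e1 : actPt A (fst G A.P) (snd G A.P) = A.act.act := by
    change lift _ _ ≫ _ = _
    rw [lift_fst_snd, Category.id_comp]
  have e2 : lift (fst G A.P) (snd G A.P ≫ τ) = G ◁ τ := by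
    apply CartesianMonoidalCategory.hom_ext
    · rw [lift_fst, whiskerLeft_fst]
    · rw [lift_snd, whiskerLeft_snd]
  rw [e1] at h
  rw [h]
  change lift _ _ ≫ _ = _
  rw [e2]

section cart

variable [(QuotSh.J K S).Subcanonical] {A B : QuotObj K G aX} (b : A.base ⟶ B.base)
  (τ : A.P ⟶ B.P) (hw : τ ≫ B.π = A.π ≫ b) (heqv : A.act.act ≫ τ = (G ◁ τ) ≫ B.act.act)

include hw heqv

omit [(QuotSh.J K S).Subcanonical] in
theorem lift_unique_of_eqv {W : Over S} (l l' : W ⟶ A.P) (h1 : l ≫ τ = l' ≫ τ)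
    (h2 : l ≫ A.π = l' ≫ A.π) : l = l' := by
  obtain ⟨γ, hγ⟩ := exists_actPt_eq A l l' h2
  have h3 : actPt B γ (l' ≫ τ) = actPt B 1 (l' ≫ τ) := by
    rw [← eqv_pt τ heqv, hγ, h1, actPt_one]
  have h4 : γ = 1 := actPt_inj B _ _ _ h3
  rw [← hγ, h4, actPt_one]

omit [(QuotSh.J K S).Subcanonical] in
theorem exists_lift_of_section {W : Over S} (p : W ⟶ B.P) (s : W ⟶ A.P)
    (h : p ≫ B.π = s ≫ A.π ≫ b) : ∃ l : W ⟶ A.P, l ≫ τ = p ∧ l ≫ A.π = s ≫ A.π := by
  have h1 : p ≫ B.π = (s ≫ τ) ≫ B.π := by rw [Category.assoc, hw, h]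
  obtain ⟨γ, hγ⟩ := exists_actPt_eq B p (s ≫ τ) h1
  exact ⟨actPt A γ s, by rw [eqv_pt τ heqv, hγ], actPt_π A γ s⟩

/-- an equivariant map of torsors over a map of bases is cartesian -/
theorem exists_lift_of_eqv {W : Over S} (p : W ⟶ B.P) (w : W ⟶ A.base) (h : p ≫ B.π = w ≫ b) :
    ∃ l : W ⟶ A.P, l ≫ τ = p ∧ l ≫ A.π = w := by
  have hcov : (secSieve A).pullback w ∈ QuotSh.J K S W :=
    (QuotSh.J K S).pullback_stable w (secSieve_mem A)
  have hloc : ∀ ⦃W' : Over S⦄ (v : W' ⟶ W), (secSieve A).pullback w v →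
      ∃ l : W' ⟶ A.P, l ≫ τ = v ≫ p ∧ l ≫ A.π = v ≫ w := by
    rintro W' v ⟨s, hs⟩
    obtain ⟨l, hl1, hl2⟩ := exists_lift_of_section b τ hw heqv (v ≫ p) s (by
      rw [Category.assoc, h, ← Category.assoc s, hs, Category.assoc])
    exact ⟨l, hl1, hl2.trans hs⟩
  choose x hx1 hx2 using hloc
  obtain ⟨l, hl⟩ := exists_glue_of_mem (K := K) _ hcov x (by
    intro W₁ W₂ g hg v
    apply lift_unique_of_eqv b τ hw heqv
    · rw [hx1, Category.assoc, Category.assoc, hx1]
    · rw [hx2, Category.assoc, Category.assoc, hx2])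
  refine ⟨l, ?_, ?_⟩
  · apply hom_ext_of_mem (K := K) _ hcov
    intro W' v hv
    rw [← Category.assoc, hl v hv, hx1]
  · apply hom_ext_of_mem (K := K) _ hcov
    intro W' v hv
    rw [← Category.assoc, hl v hv, hx2]

theorem cart_of_eqv : IsPullback τ A.π B.π b := by
  refine ⟨⟨hw⟩, ⟨PullbackCone.IsLimit.mk hw
    (fun c => (exists_lift_of_eqv b τ hw heqv c.fst c.snd c.condition).choose)
    (fun c => (exists_lift_of_eqv b τ hw heqv c.fst c.snd c.condition).choose_spec.1)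
    (fun c => (exists_lift_of_eqv b τ hw heqv c.fst c.snd c.condition).choose_spec.2)
    (fun c m h1 h2 => ?_)⟩⟩
  apply lift_unique_of_eqv b τ hw heqv
  · rw [h1, (exists_lift_of_eqv b τ hw heqv c.fst c.snd c.condition).choose_spec.1]
  · rw [h2, (exists_lift_of_eqv b τ hw heqv c.fst c.snd c.condition).choose_spec.2]

end cart

end Groth.Agent.H64.Quot
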