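import Groth.Prelude.Def_AlgSt5

set_option autoImplicit false
universe u
open CategoryTheory CategoryTheory.Limits MonoidalCategory CartesianMonoidalCategory MonObj GrpObj
  AlgebraicGeometry

/-! The quotient stack `[X/G]`: trivial torsors and morphisms out of them. -/

namespace Groth.Agent.H64.Quot

open AlgSt

variable {S : Scheme.{u}} {K : Precoverage Scheme.{u}} [K.HasIsos] {G : Over S} [GrpObj G]
  {X : Over S} {aX : AlgGrp.Action G X}

/-- the trivial torsor over `T` with the equivariant map defined by a `T`-point of `X` -/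
noncomputable abbrev triv (K : Precoverage Scheme.{u}) [K.HasIsos] (aX : AlgGrp.Action G X)
    (T : Over S) (x : T ⟶ X) : QuotObj K G aX :=
  (quotMap K G aX).obj ⟨T, ⟨x⟩⟩

/-- a `T`-point of the total space of a torsor trivialises its pullback to `T` -/
noncomputable def ofSection (A : QuotObj K G aX) {T : Over S} (s : T ⟶ A.P) :
    triv K aX T (s ≫ A.φ) ⟶ A where
  base := s ≫ A.π
  top := (G ◁ s) ≫ A.act.act
  eqv := ((quotMap K G A.act).obj ⟨T, ⟨s⟩⟩).eqv
  cart := (isPullback_whiskerLeft (G := G) s).paste_horiz A.cart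
  wφ := by
    change ((G ◁ s) ≫ A.act.act) ≫ A.φ = (G ◁ (s ≫ A.φ)) ≫ aX.act
    rw [Category.assoc, A.eqv, MonoidalCategory.whiskerLeft_comp, Category.assoc]

@[simp] theorem ofSection_base (A : QuotObj K G aX) {T : Over S} (s : T ⟶ A.P) :
    (ofSection A s).base = s ≫ A.π := rfl

@[simp] theorem ofSection_top (A : QuotObj K G aX) {T : Over S} (s : T ⟶ A.P) :
    (ofSection A s).top = (G ◁ s) ≫ A.act.act := rfl

end Groth.Agent.H64.Quot
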