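import Groth.Agent.H64.Quot.Triv

set_option autoImplicit false
universe u
open CategoryTheory CategoryTheory.Limits MonoidalCategory CartesianMonoidalCategory MonObj GrpObj
  AlgebraicGeometry

/-! Morphisms between trivial torsors in `[X/G]`. -/

namespace Groth.Agent.H64.Quot

open AlgSt

variable {S : Scheme.{u}} {K : Precoverage Scheme.{u}} [K.HasIsos] {G : Over S} [GrpObj G]
  {X : Over S} {aX : AlgGrp.Action G X}

/-- the unit section of the trivial torsor -/
noncomputable def unitSec (G : Over S) [GrpObj G] (T : Over S) : T ⟶ G ⊗ T :=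
  lift (toUnit T ≫ η[G]) (𝟙 T)

@[reassoc (attr := simp)] theorem unitSec_snd (T : Over S) : unitSec G T ≫ snd G T = 𝟙 T :=
  lift_snd _ _

@[reassoc (attr := simp)] theorem unitSec_fst (T : Over S) :
    unitSec G T ≫ fst G T = toUnit T ≫ η[G] := lift_fst _ _

theorem unitSec_fst_eq_one (T : Over S) : unitSec G T ≫ fst G T = 1 := by
  rw [unitSec_fst, ← Hom.one_def]

/-- right multiplication by a `T`-point of `G` on the trivial torsor, followed by a base
morphism -/
noncomputable def rmul {T T' : Over S} (f : T ⟶ T') (g : T ⟶ G) : G ⊗ T ⟶ G ⊗ T' :=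
  lift (fst G T * (snd G T ≫ g)) (snd G T ≫ f)

@[reassoc (attr := simp)] theorem rmul_fst {T T' : Over S} (f : T ⟶ T') (g : T ⟶ G) :
    rmul f g ≫ fst G T' = fst G T * (snd G T ≫ g) := lift_fst _ _

@[reassoc (attr := simp)] theorem rmul_snd {T T' : Over S} (f : T ⟶ T') (g : T ⟶ G) :
    rmul f g ≫ snd G T' = snd G T ≫ f := lift_snd _ _

theorem rmul_comp {T T' T'' : Over S} (f : T ⟶ T') (g : T ⟶ G) (f' : T' ⟶ T'') (g' : T' ⟶ G) :
    rmul f g ≫ rmul f' g' = rmul (f ≫ f') (g * (f ≫ g')) := by
  apply CartesianMonoidalCategory.hom_ext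
  · simp only [rmul, Category.assoc, lift_fst, comp_lift, comp_mul, lift_snd_assoc,
      _root_.mul_assoc]
  · simp only [rmul, Category.assoc, lift_snd, lift_snd_assoc]

theorem rmul_id_one (T : Over S) : rmul (𝟙 T) (1 : T ⟶ G) = 𝟙 (G ⊗ T) := by
  apply CartesianMonoidalCategory.hom_ext
  · simp only [rmul, lift_fst, Category.id_comp, MonObj.comp_one, _root_.mul_one]
  · simp only [rmul, lift_snd, Category.comp_id, Category.id_comp]

theorem rmul_eq_comp_whiskerLeft {T T' : Over S} (f : T ⟶ T') (g : T ⟶ G) :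
    rmul f g = rmul (𝟙 T) g ≫ (G ◁ f) := by
  apply CartesianMonoidalCategory.hom_ext
  · simp only [rmul, Category.assoc, lift_fst, whiskerLeft_fst]
  · simp only [rmul, Category.assoc, lift_snd, whiskerLeft_snd, lift_snd_assoc, Category.comp_id]

instance isIso_rmul_id (T : Over S) (g : T ⟶ G) : IsIso (rmul (𝟙 T) g) :=
  ⟨⟨rmul (𝟙 T) g⁻¹, by
    rw [rmul_comp, Category.id_comp, Category.id_comp, mul_inv_cancel, rmul_id_one], by
    rw [rmul_comp, Category.id_comp, Category.id_comp, inv_mul_cancel, rmul_id_one]⟩⟩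

/-- the square of right multiplication over a base morphism is cartesian -/
theorem isPullback_rmul {T T' : Over S} (f : T ⟶ T') (g : T ⟶ G) :
    IsPullback (rmul f g) (snd G T) (snd G T') f := by
  have h1 : IsPullback (rmul (𝟙 T) g) (snd G T) (snd G T) (𝟙 T) :=
    IsPullback.of_horiz_isIso ⟨by simp⟩
  have h2 := h1.paste_horiz (isPullback_whiskerLeft (G := G) f)
  rw [← rmul_eq_comp_whiskerLeft, Category.id_comp] at h2
  exact h2

/-- right multiplication commutes with left multiplication -/
theorem leftMul_rmul {T T' : Over S} (f : T ⟶ T') (g : T ⟶ G) :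
    (leftMul G T).act ≫ rmul f g = (G ◁ rmul f g) ≫ (leftMul G T').act := by
  apply CartesianMonoidalCategory.hom_ext
  · simp only [leftMul, rmul, Category.assoc, lift_fst, lift_snd, comp_lift, comp_mul,
      lift_snd_assoc, whiskerLeft_fst, whiskerLeft_snd_assoc, _root_.mul_assoc]
  · simp only [leftMul, rmul, Category.assoc, lift_snd, lift_snd_assoc, whiskerLeft_snd_assoc]

/-- `(h, t) ↦ (h, (1, t))` is a section of the left multiplication -/
theorem sigma_leftMul (T : Over S) :
    lift (fst G T) (snd G T ≫ unitSec G T) ≫ (leftMul G T).act = 𝟙 (G ⊗ T) := by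
  apply CartesianMonoidalCategory.hom_ext
  · simp only [leftMul, Category.assoc, lift_fst, lift_snd, comp_lift, comp_mul, lift_snd_assoc,
      lift_fst_assoc, unitSec_fst_eq_one, MonObj.comp_one, _root_.mul_one, Category.id_comp]
  · simp only [leftMul, Category.assoc, lift_snd, lift_snd_assoc, unitSec_snd, Category.comp_id,
      Category.id_comp]

/-- the unit acts trivially, in terms of `T`-points -/
theorem unitSec_act {T : Over S} (x : T ⟶ X) : unitSec G T ≫ (G ◁ x) ≫ aX.act = x := by
  have h1 : unitSec G T ≫ (G ◁ x) = x ≫ (λ_ X).inv ≫ (η[G] ▷ X) := by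
    apply CartesianMonoidalCategory.hom_ext
    · simp only [Category.assoc, whiskerLeft_fst, unitSec_fst, whiskerRight_fst,
        leftUnitor_inv_fst_assoc]
      rw [← Category.assoc, toUnit_unique (x ≫ toUnit X) (toUnit T)]
    · simp only [Category.assoc, whiskerLeft_snd, unitSec_snd_assoc, whiskerRight_snd,
        leftUnitor_inv_snd, Category.comp_id]
  rw [reassoc_of% h1, aX.one_act, Iso.inv_hom_id, Category.comp_id]

/-- an equivariant map between trivial torsors over `b` is a right multiplication -/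
theorem eq_rmul_of_eqv {T T' : Over S} (t : G ⊗ T ⟶ G ⊗ T') (b : T ⟶ T')
    (hw : t ≫ snd G T' = snd G T ≫ b)
    (he : (leftMul G T).act ≫ t = (G ◁ t) ≫ (leftMul G T').act) :
    t = rmul b (unitSec G T ≫ t ≫ fst G T') := by
  have h1 : t = lift (fst G T) (snd G T ≫ unitSec G T) ≫ (G ◁ t) ≫ (leftMul G T').act := by
    rw [← he, reassoc_of% (sigma_leftMul (G := G) T)]
  refine h1.trans ?_
  apply CartesianMonoidalCategory.hom_ext
  · simp only [leftMul, rmul, Category.assoc, lift_fst, lift_snd, comp_lift, comp_mul,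
      lift_snd_assoc, lift_fst_assoc, whiskerLeft_fst, whiskerLeft_snd_assoc,
      whiskerLeft_fst_assoc]
  · simp only [leftMul, rmul, Category.assoc, lift_snd, lift_snd_assoc, whiskerLeft_snd_assoc,
      hw, unitSec_snd_assoc]

/-- the point of `G` defining a map between trivial torsors compatible with the maps to `X`
carries the second point of `X` to the first -/
theorem act_of_wφ {T T' : Over S} (t : G ⊗ T ⟶ G ⊗ T') (b : T ⟶ T') (x : T ⟶ X) (x' : T' ⟶ X)
    (hw : t ≫ snd G T' = snd G T ≫ b)
    (hφ : t ≫ (G ◁ x') ≫ aX.act = (G ◁ x) ≫ aX.act) :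
    lift (unitSec G T ≫ t ≫ fst G T') (b ≫ x') ≫ aX.act = x := by
  have h1 : lift (unitSec G T ≫ t ≫ fst G T') (b ≫ x') = unitSec G T ≫ t ≫ (G ◁ x') := by
    apply CartesianMonoidalCategory.hom_ext
    · simp only [Category.assoc, lift_fst, whiskerLeft_fst]
    · simp only [Category.assoc, lift_snd, whiskerLeft_snd, reassoc_of% hw, unitSec_snd_assoc]
  rw [h1, Category.assoc, Category.assoc, hφ, unitSec_act]

/-- every morphism between trivial torsors is a right multiplication -/
theorem top_eq_rmul {T T' : Over S} {x : T ⟶ X} {x' : T' ⟶ X}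
    (h : triv K aX T x ⟶ triv K aX T' x') :
    h.top = rmul (G := G) (T := T) (T' := T') h.base
      (unitSec G T ≫ (show G ⊗ T ⟶ G ⊗ T' from h.top) ≫ fst G T') :=
  eq_rmul_of_eqv (G := G) (T := T) (T' := T') h.top h.base h.cart.w h.eqv

/-- the point of `G` defining a morphism between trivial torsors carries the second point of
`X` to the first -/
theorem act_of_hom {T T' : Over S} {x : T ⟶ X} {x' : T' ⟶ X}
    (h : triv K aX T x ⟶ triv K aX T' x') :
    lift (unitSec G T ≫ (show G ⊗ T ⟶ G ⊗ T' from h.top) ≫ fst G T')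
      ((show T ⟶ T' from h.base) ≫ x') ≫ aX.act = x :=
  act_of_wφ (G := G) (T := T) (T' := T') h.top h.base x x' h.cart.w h.wφ

/-- a point `g` of `G` with `g · (x' ∘ f) = x` defines a morphism between trivial torsors -/
noncomputable def homOfAct {T T' : Over S} (f : T ⟶ T') (x : T ⟶ X) (x' : T' ⟶ X) (g : T ⟶ G)
    (hg : lift g (f ≫ x') ≫ aX.act = x) : triv K aX T x ⟶ triv K aX T' x' where
  base := f
  top := rmul f g
  eqv := leftMul_rmul f g
  cart := isPullback_rmul f g
  wφ := by
    change rmul f g ≫ (G ◁ x') ≫ aX.act = (G ◁ x) ≫ aX.act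
    have hμ : fst (G ⊗ G) X ≫ μ[G] = (fst _ _ ≫ fst G G) * (fst _ _ ≫ snd G G) := by
      rw [Hom.mul_def, ← comp_lift, lift_fst_snd, Category.comp_id]
    have h1 : rmul f g ≫ (G ◁ x') =
        lift (lift (fst G T) (snd G T ≫ g)) (snd G T ≫ f ≫ x') ≫ (μ[G] ▷ X) := by
      apply CartesianMonoidalCategory.hom_ext
      · simp only [rmul, Category.assoc, lift_fst, whiskerLeft_fst, whiskerRight_fst,
          lift_fst_assoc, hμ, comp_mul, lift_snd]
      · simp only [rmul, Category.assoc, lift_snd, whiskerLeft_snd, whiskerRight_snd,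
          lift_snd_assoc]
    have h2 : lift (lift (fst G T) (snd G T ≫ g)) (snd G T ≫ f ≫ x') ≫ (α_ G G X).hom ≫
        (G ◁ aX.act) = lift (fst G T) (snd G T ≫ lift g (f ≫ x') ≫ aX.act) := by
      rw [lift_lift_associator_hom_assoc]
      apply CartesianMonoidalCategory.hom_ext
      · simp only [Category.assoc, whiskerLeft_fst, lift_fst]
      · simp only [Category.assoc, whiskerLeft_snd, lift_snd, lift_snd_assoc, comp_lift_assoc]
    have h3 : (G ◁ x) = lift (fst G T) (snd G T ≫ x) := by
      apply CartesianMonoidalCategory.hom_ext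
      · simp only [whiskerLeft_fst, lift_fst]
      · simp only [whiskerLeft_snd, lift_snd]
    rw [reassoc_of% h1, aX.mul_act, reassoc_of% h2, hg, h3]

@[simp] theorem homOfAct_base {T T' : Over S} (f : T ⟶ T') (x : T ⟶ X) (x' : T' ⟶ X) (g : T ⟶ G)
    (hg : lift g (f ≫ x') ≫ aX.act = x) : (homOfAct (K := K) f x x' g hg).base = f := rfl

@[simp] theorem homOfAct_top {T T' : Over S} (f : T ⟶ T') (x : T ⟶ X) (x' : T' ⟶ X) (g : T ⟶ G)
    (hg : lift g (f ≫ x') ≫ aX.act = x) : (homOfAct (K := K) f x x' g hg).top = rmul f g := rfl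

end Groth.Agent.H64.Quot
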