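import Groth.Agent.H64.Quot.Coarse
import Groth.Agent.H64.Quot.FunInj
import Groth.Prelude.Def_StMod2

set_option autoImplicit false
universe w v u
open CategoryTheory CategoryTheory.Limits MonoidalCategory CartesianMonoidalCategory MonObj GrpObj
  AlgebraicGeometry Opposite

/-! Sections of the pushforward of the structure sheaf along `[X/G] ⟶ Y`: reduction to
compatible systems of functions on the schemes `T` with a point of `X` and a morphism to the
test scheme. -/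

namespace Groth.Agent.H64.Quot

open AlgSt StMod

section general

variable {C : Type*} [Category C] {P : Cᵒᵖ ⥤ Type w}

/-- existence of a morphism of `ofPsh P` over a given base morphism -/
theorem exists_eltHom {x ζ : Stk.EltObj P} {T : C} (hx : x.base = T) (f : T ⟶ ζ.base)
    (h : P.map f.op ζ.sec = secAt P x hx) : ∃ α : x ⟶ ζ, eqToHom hx.symm ≫ α.hom = f := by
  obtain ⟨b, s⟩ := x
  dsimp only at hx
  subst hx
  rw [secAt_rfl] at h
  exact ⟨⟨f, h⟩, by simp⟩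

end general

section overS

variable {S : Scheme.{u}} {𝒳 : BasedCategory.{v, w} (Over S)} {M : AlgSp.Sp S}
  (π : 𝒳 ⥤ᵇ ofSp M) (ζ : (ofSp M).obj)

theorem isHomLift_baseOver (ξ : 𝒳.obj) (α : π.obj ξ ⟶ ζ) :
    (ofSp M).p.IsHomLift (baseOver π ξ α) α := by
  apply IsHomLift.of_fac (ofSp M).p _ _ (π.w_obj ξ) rfl
  simp [baseOver]

theorem sec_baseOver (ξ : 𝒳.obj) (α : π.obj ξ ⟶ ζ) :
    M.obj.map (baseOver π ξ α).op ζ.sec = bsec π ξ := by
  have h := secAt_of_hom M.obj α (baseOver π ξ α) (isHomLift_baseOver π ζ ξ α) (π.w_obj ξ) rfl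
  refine Eq.trans ?_ h
  exact congrArg _ (secAt_rfl M.obj ζ).symm

theorem exists_hom_baseOver (ξ : 𝒳.obj) (a : 𝒳.p.obj ξ ⟶ ζ.base)
    (h : M.obj.map a.op ζ.sec = bsec π ξ) : ∃ α : π.obj ξ ⟶ ζ, baseOver π ξ α = a := by
  obtain ⟨α, hα⟩ := exists_eltHom (P := M.obj) (π.w_obj ξ) a h
  exact ⟨α, hα⟩

theorem cancel_eqToHom_left {D : Type*} [Category D] {A B Z : D} (hAB : A = B) (f g : A ⟶ Z)
    (h : eqToHom hAB.symm ≫ f = eqToHom hAB.symm ≫ g) : f = g := by
  subst hAB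
  simpa using h

theorem hom_ext_baseOver (ξ : 𝒳.obj) (α α' : π.obj ξ ⟶ ζ)
    (h : baseOver π ξ α = baseOver π ξ α') : α = α' := by
  apply Stk.EltObj.hom_ext
  have h' : eqToHom (π.w_obj ξ).symm ≫ α.hom = eqToHom (π.w_obj ξ).symm ≫ α'.hom := h
  exact cancel_eqToHom_left (π.w_obj ξ) _ _ h'

end overS

section quot

variable {S : Scheme.{u}} {G : Over S} [GrpObj G] {X Y : Over S} {aX : AlgGrp.Action G X}
  {K : Precoverage Scheme.{u}} [K.HasIsos]
  (q : X ⟶ Y) (π : QuotSt K G aX ⥤ᵇ ofSch Y)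
  (hπ : BasedFunctor.comp (quotMap K G aX) π = ofSpMap ((AlgSp.yon S).map q))
  (ζ : (ofSch Y).obj)

include hπ in
theorem bsec_triv {T : Over S} (x : T ⟶ X) : bsec π (triv K aX T x) = ⟨x ≫ q⟩ := by
  have h1 : bsec π (triv K aX T x) =
      bsec (BasedFunctor.comp (quotMap K G aX) π) (⟨T, ⟨x⟩⟩ : (ofSch X).obj) := rfl
  rw [h1, hπ]
  exact Groth.Agent.H64.Recog.bsec_ofPshMap _ _

include hπ in
theorem exists_alpha {T : Over S} (x : T ⟶ X) (a : T ⟶ ζ.base)
    (h : x ≫ q = a ≫ ζ.sec.down) :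
    ∃ α : π.obj (triv K aX T x) ⟶ ζ, baseOver π (triv K aX T x) α = a := by
  apply exists_hom_baseOver π ζ (triv K aX T x) a
  rw [bsec_triv q π hπ x]
  refine Eq.trans ?_ (congrArg ULift.up h.symm)
  rfl

/-- the morphism `π (triv x) ⟶ ζ` over a given morphism of base schemes -/
noncomputable def alpha {T : Over S} (x : T ⟶ X) (a : T ⟶ ζ.base)
    (h : x ≫ q = a ≫ ζ.sec.down) : π.obj (triv K aX T x) ⟶ ζ :=
  (exists_alpha q π hπ ζ x a h).choose

theorem baseOver_alpha {T : Over S} (x : T ⟶ X) (a : T ⟶ ζ.base)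
    (h : x ≫ q = a ≫ ζ.sec.down) :
    baseOver π (triv K aX T x) (alpha q π hπ ζ x a h) = a :=
  (exists_alpha q π hπ ζ x a h).choose_spec

include hπ in
theorem comp_eq_of_hom {T : Over S} (x : T ⟶ X) (α : π.obj (triv K aX T x) ⟶ ζ) :
    x ≫ q = baseOver π (triv K aX T x) α ≫ ζ.sec.down := by
  have h := sec_baseOver π ζ (triv K aX T x) α
  rw [bsec_triv q π hπ x] at h
  exact (congrArg ULift.down h).symm

theorem eq_alpha {T : Over S} (x : T ⟶ X) (α : π.obj (triv K aX T x) ⟶ ζ) :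
    α = alpha q π hπ ζ x (baseOver π (triv K aX T x) α) (comp_eq_of_hom q π hπ ζ x α) :=
  hom_ext_baseOver π ζ _ _ _ (baseOver_alpha q π hπ ζ x _ _).symm

/-- the value of a section of the pushforward at a trivial torsor -/
noncomputable def val (s : (O (QuotSt K G aX)).RelSect π ζ) {T : Over S} (x : T ⟶ X)
    (a : T ⟶ ζ.base) (h : x ≫ q = a ≫ ζ.sec.down) : Γ(T.left, ⊤) :=
  s.1 (triv K aX T x) (alpha q π hπ ζ x a h)

theorem val_eq (s : (O (QuotSt K G aX)).RelSect π ζ) {T : Over S} (x : T ⟶ X)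
    (α : π.obj (triv K aX T x) ⟶ ζ) :
    s.1 (triv K aX T x) α =
      val q π hπ ζ s x (baseOver π (triv K aX T x) α) (comp_eq_of_hom q π hπ ζ x α) := by
  unfold val
  rw [← eq_alpha]

theorem val_congr (s : (O (QuotSt K G aX)).RelSect π ζ) {T : Over S} (x x' : T ⟶ X)
    (a a' : T ⟶ ζ.base) (hx : x = x') (ha : a = a') (h : x ≫ q = a ≫ ζ.sec.down)
    (h' : x' ≫ q = a' ≫ ζ.sec.down) : val q π hπ ζ s x a h = val q π hπ ζ s x' a' h' := by
  subst hx ha
  rfl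

theorem val_homOfAct (s : (O (QuotSt K G aX)).RelSect π ζ) {T' T : Over S} (f : T' ⟶ T)
    (g : T' ⟶ G) (x : T ⟶ X) (x' : T' ⟶ X) (hg : lift g (f ≫ x) ≫ aX.act = x')
    (a : T ⟶ ζ.base) (h : x ≫ q = a ≫ ζ.sec.down) (h' : x' ≫ q = (f ≫ a) ≫ ζ.sec.down) :
    val q π hπ ζ s x' (f ≫ a) h' = f.left.appTop (val q π hπ ζ s x a h) := by
  let φ : triv K aX T' x' ⟶ triv K aX T x := homOfAct (K := K) f x' x g hg
  have h1 := s.2 φ (alpha q π hπ ζ x a h)
  have h2 : baseOver π (triv K aX T' x') (π.map φ ≫ alpha q π hπ ζ x a h) = f ≫ a := by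
    rw [← map_comp_baseOver, baseOver_alpha]
    rfl
  have h3 := val_eq q π hπ ζ s x' (π.map φ ≫ alpha q π hπ ζ x a h)
  have h4 := val_congr q π hπ ζ s x' x' (f ≫ a) _ rfl h2.symm h'
    (comp_eq_of_hom q π hπ ζ x' (π.map φ ≫ alpha q π hπ ζ x a h))
  exact h4.trans (h3.symm.trans h1.symm)

theorem val_unitSect (r : Γ(ζ.base.left, ⊤)) {T : Over S} (x : T ⟶ X) (a : T ⟶ ζ.base)
    (h : x ≫ q = a ≫ ζ.sec.down) :
    val q π hπ ζ (unitSect π ζ r) x a h = a.left.appTop r := by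
  change (baseOver π (triv K aX T x) (alpha q π hπ ζ x a h)).left.appTop r = a.left.appTop r
  rw [baseOver_alpha]
  rfl

theorem relSect_ext_of_val (hK : K ≤ Scheme.precoverage @Flat)
    (s s' : (O (QuotSt K G aX)).RelSect π ζ)
    (h : ∀ (T : Over S) (x : T ⟶ X) (a : T ⟶ ζ.base) (hh : x ≫ q = a ≫ ζ.sec.down),
      val q π hπ ζ s x a hh = val q π hπ ζ s' x a hh) : s = s' := by
  apply Mod.RelSect.ext
  intro ξ α
  obtain ⟨R, hR, hsec⟩ := ξ.loc
  refine eq_of_forall_appTop_eq R (hK _ hR) (s.1 ξ α) (s'.1 ξ α) ?_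
  intro V f hf
  obtain ⟨σ, hσ⟩ := hsec f hf
  have hσ' : σ ≫ ξ.π.left = f := hσ
  let T : Over S := Over.mk (f ≫ ξ.base.hom)
  let u : T ⟶ ξ.base := Over.homMk f rfl
  let σ' : T ⟶ ξ.P := Over.homMk σ (by
    change σ ≫ ξ.P.hom = f ≫ ξ.base.hom
    rw [← Over.w ξ.π, ← Category.assoc, hσ'])
  have hσu : σ' ≫ ξ.π = u := by
    apply Over.OverMorphism.ext
    exact hσ'
  let θ : triv K aX T (σ' ≫ ξ.φ) ⟶ ξ := ofSection ξ σ'
  have hθ : (bmap (QuotSt K G aX) θ) = f := by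
    change (σ' ≫ ξ.π).left = f
    rw [hσu]
    rfl
  have e1 : (bmap (QuotSt K G aX) θ).appTop (s.1 ξ α) =
      s.1 (triv K aX T (σ' ≫ ξ.φ)) (π.map θ ≫ α) := s.2 θ α
  have e2 : (bmap (QuotSt K G aX) θ).appTop (s'.1 ξ α) =
      s'.1 (triv K aX T (σ' ≫ ξ.φ)) (π.map θ ≫ α) := s'.2 θ α
  rw [hθ] at e1 e2
  have e3 := val_eq q π hπ ζ s (σ' ≫ ξ.φ) (π.map θ ≫ α)
  have e4 := val_eq q π hπ ζ s' (σ' ≫ ξ.φ) (π.map θ ≫ α)
  exact (e1.trans e3).trans ((h _ _ _ _).trans (e2.trans e4).symm)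

include hπ in
/-- the unit map of `π : [X/G] ⟶ Y` at `ζ` is bijective as soon as every system of functions on
the schemes over `X ×_Y ζ` which is compatible with pullback and with the action comes from a
unique function on the scheme under `ζ` -/
theorem bijective_unitSect (hK : K ≤ Scheme.precoverage @Flat)
    (hex : ∀ v : (∀ (T : Over S) (x : T ⟶ X) (a : T ⟶ ζ.base),
        x ≫ q = a ≫ ζ.sec.down → Γ(T.left, ⊤)),
      (∀ (T' T : Over S) (f : T' ⟶ T) (g : T' ⟶ G) (x : T ⟶ X) (x' : T' ⟶ X)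
        (_ : lift g (f ≫ x) ≫ aX.act = x') (a : T ⟶ ζ.base) (h : x ≫ q = a ≫ ζ.sec.down)
        (h' : x' ≫ q = (f ≫ a) ≫ ζ.sec.down),
        v T' x' (f ≫ a) h' = f.left.appTop (v T x a h)) →
      ∃! r : Γ(ζ.base.left, ⊤), ∀ (T : Over S) (x : T ⟶ X) (a : T ⟶ ζ.base)
        (h : x ≫ q = a ≫ ζ.sec.down), v T x a h = a.left.appTop r) :
    Function.Bijective (unitSect π ζ) := by
  constructor
  · intro (r : Γ(ζ.base.left, ⊤)) (r' : Γ(ζ.base.left, ⊤)) hrr
    obtain ⟨r₀, -, huniq⟩ := hex (fun T x a _ => a.left.appTop r) (by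
      intro T' T f g x x' _ a h h'
      change (f ≫ a).left.appTop r = f.left.appTop (a.left.appTop r)
      rw [Over.comp_left, Scheme.Hom.comp_appTop]
      rfl)
    have h1 : r = r₀ := huniq r (fun _ _ _ _ => rfl)
    have h2 : r' = r₀ := huniq r' (fun T x a h => by
      have h3 := congrArg (fun s => val q π hπ ζ s x a h) hrr
      exact (val_unitSect q π hπ ζ r x a h).symm.trans (h3.trans (val_unitSect q π hπ ζ r' x a h)))
    exact h1.trans h2.symm
  · intro s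
    obtain ⟨r, hr, -⟩ := hex (fun T x a h => val q π hπ ζ s x a h)
      (fun T' T f g x x' hg a h h' => val_homOfAct q π hπ ζ s f g x x' hg a h h')
    refine ⟨r, relSect_ext_of_val q π hπ ζ hK _ _ (fun T x a h => ?_)⟩
    rw [val_unitSect]
    exact (hr T x a h).symm

end quot

end Groth.Agent.H64.Quot
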